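import Groth.Agent.H4Depth.CM
import Mathlib.RingTheory.RegularLocalRing.Defs
import Mathlib.RingTheory.Ideal.MinimalPrime.Noetherian
import Mathlib.RingTheory.LocalRing.Quotient
import Mathlib.RingTheory.KrullDimension.Zero

/-!
# Regular local rings: domain, regular system of parameters, Cohen–Macaulay
-/

universe u

open RingTheory.Sequence IsLocalRing

namespace Groth.Agent.H4Depth

open LocCoh

variable {R : Type u} [CommRing R] [IsNoetherianRing R] [IsLocalRing R]

theorem exists_fun_fin_span_eq {I : Ideal R} :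
    ∃ g : Fin I.spanFinrank → R, Ideal.span (Set.range g) = I := by
  obtain ⟨t, h1, h2⟩ :=
    Submodule.FG.exists_span_finset_card_eq_spanFinrank (IsNoetherian.noetherian I)
  let e := (Finset.equivFinOfCardEq h1).symm
  refine ⟨fun i => (e i : R), ?_⟩
  rw [show Set.range (fun i => (e i : R)) = (t : Set R) by
    rw [show (fun i => (e i : R)) = Subtype.val ∘ e from rfl, Set.range_comp, e.range_eq_univ]
    simp]
  exact h2

theorem spanFinrank_maximalIdeal_le_of_span {ι : Type*} (x : ι → R) (t : Finset ι)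
    (h : maximalIdeal R = Ideal.span (x '' t)) : (maximalIdeal R).spanFinrank ≤ t.card := by
  classical
  rw [h]
  refine (Submodule.spanFinrank_span_le_ncard_of_finite ((t.finite_toSet).image _)).trans ?_
  exact (Set.ncard_image_le t.finite_toSet).trans (by rw [Set.ncard_coe_finset])

/-- The quotient of a regular local ring by part of a regular system of parameters. -/
theorem exists_regular_quotient_of_subset (d : ℕ) (hd : ringKrullDim R = d) (x : Fin d → R)
    (hx : Ideal.span (Set.range x) = maximalIdeal R) (s : Finset (Fin d)) :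
    ∃ _ : IsRegularLocalRing (R ⧸ Ideal.span (x '' s)),
      ringKrullDim (R ⧸ Ideal.span (x '' s)) = ((d - s.card : ℕ) : WithBot ℕ∞) := by
  classical
  set J := Ideal.span (x '' s)
  have hmem : ∀ i, x i ∈ maximalIdeal R := fun i => hx ▸ Ideal.subset_span ⟨i, rfl⟩
  have hJ : J ≤ maximalIdeal R := Ideal.span_le.mpr (by rintro _ ⟨i, -, rfl⟩; exact hmem i)
  have hJne : J ≠ ⊤ := ne_top_of_le_ne_top (maximalIdeal.isMaximal R).ne_top hJ
  have : Nontrivial (R ⧸ J) := Ideal.Quotient.nontrivial_iff.mpr hJne
  have : IsLocalRing (R ⧸ J) := .of_surjective' (Ideal.Quotient.mk J) Ideal.Quotient.mk_surjective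
  have hmap : maximalIdeal (R ⧸ J) = Ideal.span ((Ideal.Quotient.mk J ∘ x) '' (sᶜ : Finset (Fin d))) := by
    have : (maximalIdeal R).map (Ideal.Quotient.mk J) = maximalIdeal (R ⧸ J) := by
      have h2 : ((maximalIdeal R).map (Ideal.Quotient.mk J)).IsMaximal :=
        Ideal.IsMaximal.map_of_surjective_of_ker_le Ideal.Quotient.mk_surjective (by rwa [Ideal.mk_ker])
      exact eq_maximalIdeal h2
    rw [← this, ← hx, Ideal.map_span, ← Set.range_comp]
    refine le_antisymm (Ideal.span_le.mpr ?_) (Ideal.span_mono (Set.image_subset_range _ _))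
    rintro _ ⟨i, rfl⟩
    by_cases hi : i ∈ s
    · rw [SetLike.mem_coe, Function.comp_apply,
        Ideal.Quotient.eq_zero_iff_mem.mpr (Ideal.subset_span (Set.mem_image_of_mem x hi) : x i ∈ J)]
      exact zero_mem _
    · exact Ideal.subset_span (Set.mem_image_of_mem _ (by simpa using hi))
  have hle : (maximalIdeal (R ⧸ J)).spanFinrank ≤ d - s.card :=
    (spanFinrank_maximalIdeal_le_of_span _ _ hmap).trans (by simp [Finset.card_compl])
  have h1 : ringKrullDim R ≤ ringKrullDim (R ⧸ J) + (s.card : WithBot ℕ∞) := by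
    have h := ringKrullDim_le_ringKrullDim_quotient_add_card (s := s.image x) (by
      rw [IsLocalRing.ringJacobson_eq_maximalIdeal, Finset.coe_image]
      rintro _ ⟨i, -, rfl⟩
      exact hmem i)
    rw [Finset.coe_image] at h
    exact h.trans (by gcongr; exact_mod_cast Finset.card_image_le)
  have h2 : ringKrullDim (R ⧸ J) ≤ (((d - s.card : ℕ)) : WithBot ℕ∞) :=
    (ringKrullDim_le_spanFinrank_maximalIdeal (R ⧸ J)).trans (by exact_mod_cast hle)
  have heq : ringKrullDim (R ⧸ J) = ((d - s.card : ℕ) : WithBot ℕ∞) := by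
    refine le_antisymm h2 ?_
    rw [hd] at h1
    obtain ⟨e, he⟩ : ∃ e : ℕ, ringKrullDim (R ⧸ J) = (e : WithBot ℕ∞) := by
      rw [← Module.supportDim_quotient_eq_ringKrullDim]
      exact exists_nat_supportDim_eq
    rw [he] at h1 ⊢
    have : d ≤ e + s.card := by exact_mod_cast h1
    exact_mod_cast (by omega : d - s.card ≤ e)
  exact ⟨IsRegularLocalRing.of_spanFinrank_maximalIdeal_le _ (heq ▸ (by exact_mod_cast hle)), heq⟩

/-- A regular local ring is a domain. -/
theorem isDomain_of_regular : ∀ (d : ℕ) (R : Type u) [CommRing R] [IsRegularLocalRing R],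
    ringKrullDim R = d → IsDomain R := by
  intro d
  induction d using Nat.strong_induction_on with
  | _ d ih =>
  intro R _ _ hd
  have hsp : (maximalIdeal R).spanFinrank = d := by
    have h := IsRegularLocalRing.spanFinrank_maximalIdeal (R := R)
    rw [hd] at h
    exact_mod_cast h
  obtain ⟨g, hgspan⟩ : ∃ g : Fin d → R, Ideal.span (Set.range g) = maximalIdeal R := by
    subst hsp
    exact exists_fun_fin_span_eq
  rcases Nat.eq_zero_or_pos d with h0 | hpos
  · subst h0
    have hbot : maximalIdeal R = ⊥ := by rw [← hgspan]; simp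
    have : IsField R := IsLocalRing.isField_iff_maximalIdeal_eq.mpr hbot
    exact this.isDomain
  have hm2 : ¬ (maximalIdeal R : Set R) ⊆ ((maximalIdeal R) ^ 2 : Ideal R) := fun h => by
    have : maximalIdeal R = ⊥ := Submodule.eq_bot_of_le_smul_of_le_jacobson_bot (maximalIdeal R)
      (maximalIdeal R) (IsNoetherian.noetherian _)
      (fun a ha => by simpa [smul_eq_mul, pow_two] using h ha)
      (IsLocalRing.maximalIdeal_le_jacobson _)
    have hF : ringKrullDim R = 0 :=
      ringKrullDim_eq_zero_of_isField (IsLocalRing.isField_iff_maximalIdeal_eq.mpr this)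
    rw [hd] at hF
    exact hpos.ne' (by exact_mod_cast hF)
  have hmin : ∀ p ∈ minimalPrimes R, ¬ maximalIdeal R ≤ p := by
    intro p hp hle
    have := hp.1.1
    have hF : ringKrullDim R = 0 := by
      rw [← IsLocalRing.maximalIdeal_height_eq_ringKrullDim,
        show maximalIdeal R = p from le_antisymm hle (le_maximalIdeal hp.1.1.ne_top)]
      exact_mod_cast Ideal.height_eq_zero_iff.mpr hp
    rw [hd] at hF
    exact hpos.ne' (by exact_mod_cast hF)
  obtain ⟨x, hxm, hx2, hxp⟩ : ∃ x ∈ maximalIdeal R, x ∉ (maximalIdeal R) ^ 2 ∧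
      ∀ p ∈ minimalPrimes R, x ∉ p := by
    by_contra hcon
    push Not at hcon
    have hsub : (maximalIdeal R : Set R) ⊆
        ⋃ p ∈ insert ((maximalIdeal R) ^ 2) (minimalPrimes R), (p : Set R) := by
      intro x hx
      simp only [Set.mem_iUnion]
      by_cases h : x ∈ (maximalIdeal R) ^ 2
      · exact ⟨_, Set.mem_insert _ _, h⟩
      · obtain ⟨p, hp, hxp⟩ := hcon x hx h
        exact ⟨p, Set.mem_insert_of_mem _ hp, hxp⟩
    obtain ⟨p, hp, hle⟩ := (Ideal.subset_union_prime_finite
      ((minimalPrimes.finite_of_isNoetherianRing R).insert _) ((maximalIdeal R) ^ 2)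
      ((maximalIdeal R) ^ 2) (fun p hp hne _ => (hp.resolve_left hne).1.1)).mp hsub
    rcases hp with rfl | hp
    · exact hm2 hle
    · exact hmin p hp hle
  obtain ⟨c, hc⟩ := (Ideal.mem_span_range_iff_exists_fun.mp (hgspan ▸ hxm :
    x ∈ Ideal.span (Set.range g)))
  obtain ⟨j, hj⟩ : ∃ j, IsUnit (c j) := by
    by_contra hcon
    push Not at hcon
    refine hx2 (hc ▸ Ideal.sum_mem _ fun i _ => ?_)
    rw [pow_two]
    exact Ideal.mul_mem_mul ((mem_maximalIdeal _).mpr (hcon i)) (hgspan ▸ Ideal.subset_span ⟨i, rfl⟩)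
  classical
  set g' := Function.update g j x
  have hg' : Ideal.span (Set.range g') = maximalIdeal R := by
    refine le_antisymm (Ideal.span_le.mpr ?_) ?_
    · rintro _ ⟨i, rfl⟩
      rcases eq_or_ne i j with rfl | h
      · simpa [g'] using hxm
      · rw [SetLike.mem_coe, ← hgspan, show g' i = g i by simp [g', h]]
        exact Ideal.subset_span ⟨i, rfl⟩
    · rw [← hgspan, Ideal.span_le]
      rintro _ ⟨i, rfl⟩
      rcases eq_or_ne i j with rfl | h
      · have hmem : x - ∑ k ∈ Finset.univ.erase i, c k * g k ∈ Ideal.span (Set.range g') := by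
          refine Ideal.sub_mem _ (Ideal.subset_span ⟨i, by simp [g']⟩) (Ideal.sum_mem _ fun k hk => ?_)
          refine Ideal.mul_mem_left _ _ (Ideal.subset_span ⟨k, ?_⟩)
          simp [g', (Finset.mem_erase.mp hk).1]
        rw [← hc, ← Finset.add_sum_erase _ _ (Finset.mem_univ i), add_sub_cancel_right] at hmem
        exact (Ideal.unit_mul_mem_iff_mem _ hj).mp hmem
      · exact Ideal.subset_span ⟨i, by simp [g', h]⟩
  obtain ⟨hreg, hdim⟩ := exists_regular_quotient_of_subset d hd g' hg' {j}
  rw [show g' '' ({j} : Finset (Fin d)) = {x} by simp [g'], Finset.card_singleton] at hdim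
  rw [show g' '' ({j} : Finset (Fin d)) = {x} by simp [g']] at hreg
  have hdom := ih (d - 1) (by omega) (R ⧸ Ideal.span {x}) hdim
  have hprime : (Ideal.span {x}).IsPrime := (Ideal.Quotient.isDomain_iff_prime _).mp hdom
  obtain ⟨q, hq, hqle⟩ := Ideal.exists_minimalPrimes_le (bot_le : ⊥ ≤ Ideal.span {x})
  have hqp := hq.1.1
  have hqbot : q = ⊥ := by
    refine Submodule.eq_bot_of_le_smul_of_le_jacobson_bot (Ideal.span {x}) q
      (IsNoetherian.noetherian _) ?_
      (((Ideal.span_singleton_le_iff_mem _).mpr hxm).trans (IsLocalRing.maximalIdeal_le_jacobson _))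
    intro a ha
    obtain ⟨b, rfl⟩ := Ideal.mem_span_singleton'.mp (hqle ha)
    have hb : b ∈ q := (hqp.mem_or_mem ha).resolve_right (hxp q hq)
    rw [mul_comm]
    exact Submodule.smul_mem_smul (Ideal.mem_span_singleton_self x) hb
  subst hqbot
  exact IsDomain.of_bot_isPrime R

theorem exists_nat_ringKrullDim_eq : ∃ d : ℕ, ringKrullDim R = (d : WithBot ℕ∞) := by
  rw [← Module.supportDim_self_eq_ringKrullDim]
  exact exists_nat_supportDim_eq

theorem isDomain_of_isRegularLocalRing (R : Type u) [CommRing R] [IsRegularLocalRing R] :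
    IsDomain R := by
  obtain ⟨d, hd⟩ := exists_nat_ringKrullDim_eq (R := R)
  exact isDomain_of_regular d R hd

/-- A regular system of parameters is a regular sequence. -/
theorem isRegular_ofFn_of_span_eq (d : ℕ) (hd : ringKrullDim R = d) (x : Fin d → R)
    (hx : Ideal.span (Set.range x) = maximalIdeal R) : IsRegular R (List.ofFn x) := by
  classical
  have hmem : ∀ r ∈ List.ofFn x, r ∈ maximalIdeal R := by
    intro r hr
    obtain ⟨i, rfl⟩ := List.mem_ofFn.mp hr
    exact hx ▸ Ideal.subset_span ⟨i, rfl⟩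
  rw [IsLocalRing.isRegular_iff_isWeaklyRegular_of_subset_maximalIdeal hmem]
  refine ⟨fun i hi => ?_⟩
  have hid : i < d := by simpa using hi
  set s : Finset (Fin d) := Finset.univ.filter fun k => (k : ℕ) < i
  have htake : Ideal.ofList ((List.ofFn x).take i) = Ideal.span (x '' s) := by
    refine congrArg Ideal.span (Set.ext fun r => ?_)
    simp only [Set.mem_setOf_eq, List.mem_take_iff_getElem, List.length_ofFn, List.getElem_ofFn,
      Set.mem_image, s, Finset.coe_filter, Finset.mem_univ, true_and]
    constructor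
    · rintro ⟨k, hk, rfl⟩
      exact ⟨⟨k, by omega⟩, by simp only; omega, rfl⟩
    · rintro ⟨k, hk, rfl⟩
      exact ⟨k, by omega, rfl⟩
  have hI : (Ideal.ofList ((List.ofFn x).take i) • (⊤ : Submodule R R)) = Ideal.span (x '' s) := by
    rw [htake]
    simp
  obtain ⟨h1, h1d⟩ := exists_regular_quotient_of_subset d hd x hx s
  obtain ⟨h2, h2d⟩ := exists_regular_quotient_of_subset d hd x hx (insert ⟨i, hid⟩ s)
  have := isDomain_of_isRegularLocalRing (R ⧸ Ideal.span (x '' s))
  have hp : (Ideal.span (x '' s)).IsPrime := (Ideal.Quotient.isDomain_iff_prime _).mp this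
  have hnot : ⟨i, hid⟩ ∉ s := by simp [s]
  have hxi : x ⟨i, hid⟩ ∉ Ideal.span (x '' s) := fun h => by
    have : Ideal.span (x '' (insert ⟨i, hid⟩ s : Finset (Fin d))) = Ideal.span (x '' s) := by
      rw [Finset.coe_insert, Set.image_insert_eq, Ideal.span_insert]
      exact sup_eq_right.mpr ((Ideal.span_singleton_le_iff_mem _).mpr h)
    rw [this, h1d, Finset.card_insert_of_notMem hnot] at h2d
    have hc : s.card < d := lt_of_lt_of_le (Finset.card_lt_card (Finset.ssubset_univ_iff.mpr
      fun hh => hnot (hh ▸ Finset.mem_univ _))) (by simp)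
    have : d - s.card = d - (s.card + 1) := by exact_mod_cast h2d
    omega
  rw [List.getElem_ofFn]
  intro a b hab
  obtain ⟨a, rfl⟩ := Submodule.Quotient.mk_surjective _ a
  obtain ⟨b, rfl⟩ := Submodule.Quotient.mk_surjective _ b
  simp only [← Submodule.Quotient.mk_smul, Submodule.Quotient.eq, hI, smul_eq_mul, ← mul_sub] at hab
  rw [Submodule.Quotient.eq, hI]
  rw [Ideal.mul_top, htake] at hab
  exact (hp.mem_or_mem hab).resolve_left hxi

theorem exists_regular_system_of_parameters (R : Type u) [CommRing R] [IsRegularLocalRing R] :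
    ∃ (d : ℕ) (x : Fin d → R), ringKrullDim R = d ∧ Ideal.span (Set.range x) = maximalIdeal R := by
  refine ⟨(maximalIdeal R).spanFinrank, ?_⟩
  obtain ⟨g, hg⟩ := exists_fun_fin_span_eq (I := maximalIdeal R)
  exact ⟨g, IsRegularLocalRing.spanFinrank_maximalIdeal.symm, hg⟩

theorem depth_self_eq_ringKrullDim_of_regular (R : Type u) [CommRing R] [IsRegularLocalRing R] :
    ((depth R R : ℕ∞) : WithBot ℕ∞) = ringKrullDim R := by
  obtain ⟨d, x, hd, hx⟩ := exists_regular_system_of_parameters R
  refine le_antisymm (depth_le_supportDim.trans (Module.supportDim_self_eq_ringKrullDim (R := R)).le) ?_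
  rw [hd]
  have := length_le_idealDepth (I := maximalIdeal R) (isRegular_ofFn_of_span_eq d hd x hx).1
    (fun r hr => by
      obtain ⟨i, rfl⟩ := List.mem_ofFn.mp hr
      exact hx ▸ Ideal.subset_span ⟨i, rfl⟩)
  rw [List.length_ofFn] at this
  exact WithBot.coe_le_coe.mpr this

theorem isCohenMacaulayLocalRing_of_regular (R : Type u) [CommRing R] [IsRegularLocalRing R] :
    IsCohenMacaulayLocalRing R where
  supportDim_eq_depth := by
    rw [Module.supportDim_self_eq_ringKrullDim, depth_self_eq_ringKrullDim_of_regular]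

end Groth.Agent.H4Depth
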