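import Mathlib.RingTheory.Support
import Mathlib.RingTheory.KrullDimension.Module
import Mathlib.RingTheory.Localization.AtPrime.Basic
import Mathlib.Algebra.Module.LocalizedModule.IsLocalization
import Mathlib.RingTheory.Spectrum.Prime.RingHom

/-!
# Support of a localized module
-/

universe u v w

namespace Groth.Agent.H4Depth

variable {R : Type u} [CommRing R] (S : Submonoid R) (A : Type*) [CommRing A] [Algebra R A]
  [IsLocalization S A]

theorem mem_support_localizedModule_iff {M : Type v} [AddCommGroup M] [Module R M]
    {N : Type w} [AddCommGroup N] [Module R N] [Module A N] [IsScalarTower R A N]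
    (f : M →ₗ[R] N) [IsLocalizedModule S f] (Q : PrimeSpectrum A) :
    Q ∈ Module.support A N ↔ PrimeSpectrum.comap (algebraMap R A) Q ∈ Module.support R M := by
  rw [Module.mem_support_iff', Module.mem_support_iff']
  constructor
  · rintro ⟨n, hn⟩
    obtain ⟨⟨m, s⟩, rfl⟩ := IsLocalizedModule.mk'_surjective S f n
    refine ⟨m, fun r hr h => hn (algebraMap R A r) hr ?_⟩
    simp only [Function.uncurry_apply_pair, algebraMap_smul]
    rw [← IsLocalizedModule.mk'_smul, h, IsLocalizedModule.mk'_zero]
  · rintro ⟨m, hm⟩
    refine ⟨f m, fun x hx h => ?_⟩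
    obtain ⟨⟨a, s⟩, rfl⟩ := IsLocalization.mk'_surjective S x
    have ha : algebraMap R A a • f m = 0 := by
      rw [← IsLocalization.mk'_spec A a s, mul_comm, mul_smul, h, smul_zero]
    rw [algebraMap_smul, ← map_smul] at ha
    obtain ⟨t, ht⟩ := (IsLocalizedModule.eq_zero_iff S f).mp ha
    refine hm (t.1 * a) ?_ (by rw [mul_smul]; exact ht)
    intro hmem
    rw [PrimeSpectrum.comap_asIdeal, Ideal.mem_comap, map_mul] at hmem
    rcases Q.isPrime.mem_or_mem hmem with h' | h'
    · exact Q.isPrime.ne_top (Ideal.eq_top_of_isUnit_mem _ h' (IsLocalization.map_units A t))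
    · exact hx (IsLocalization.mk'_mem_iff.mpr h')

theorem support_localizedModule_subset {M : Type v} [AddCommGroup M] [Module R M]
    {M' : Type w} [AddCommGroup M'] [Module R M']
    (h : Module.support R M ⊆ Module.support R M') :
    Module.support (Localization S) (LocalizedModule S M) ⊆
      Module.support (Localization S) (LocalizedModule S M') := fun Q hQ => by
  rw [mem_support_localizedModule_iff S _ (LocalizedModule.mkLinearMap S _) Q] at hQ ⊢
  exact h hQ

theorem supportDim_mono {M : Type v} [AddCommGroup M] [Module R M]
    {M' : Type w} [AddCommGroup M'] [Module R M']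
    (h : Module.support R M ⊆ Module.support R M') :
    Module.supportDim R M ≤ Module.supportDim R M' :=
  Order.krullDim_le_of_strictMono (fun x => (⟨x.1, h x.2⟩ : Module.support R M')) fun _ _ h => h

end Groth.Agent.H4Depth
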