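import Groth.Agent.H4Depth.LocDepth
import Groth.Agent.H4Depth.SupportLoc
import Mathlib.Algebra.Module.LocalizedModule.Exact
import Mathlib.LinearAlgebra.Dual.Lemmas

/-!
# Depth of kernels and duals, Serre's conditions
-/

universe u v w

open RingTheory.Sequence

namespace Groth.Agent.H4Depth

open LocCoh

variable {R : Type u} [CommRing R] [IsNoetherianRing R]

section Exact

variable (I : Ideal R) {K E0 E1 : Type u} [AddCommGroup K] [Module R K] [Module.Finite R K]
  [AddCommGroup E0] [Module R E0] [Module.Finite R E0]
  [AddCommGroup E1] [Module R E1] [Module.Finite R E1]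
  {f : K →ₗ[R] E0} {g : E0 →ₗ[R] E1}

theorem one_le_idealDepth_of_injective (hf : Function.Injective f) (h : 1 ≤ idealDepth I E0) :
    1 ≤ idealDepth I K :=
  le_trans (le_min h le_add_self)
    (min_le_idealDepth_left I hf (Submodule.mkQ_surjective _)
      (LinearMap.exact_iff.mpr (Submodule.ker_mkQ (LinearMap.range f))))

theorem two_le_idealDepth_of_exact (hf : Function.Injective f) (hfg : Function.Exact f g)
    (h0 : 2 ≤ idealDepth I E0) (h1 : 1 ≤ idealDepth I E1) : 2 ≤ idealDepth I K := by
  have hex : Function.Exact f g.rangeRestrict := by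
    intro x
    rw [← hfg x]
    exact ⟨fun h => congrArg Subtype.val h, fun h => Subtype.ext h⟩
  have hr : 1 ≤ idealDepth I (LinearMap.range g) :=
    one_le_idealDepth_of_injective I (f := (LinearMap.range g).subtype) Subtype.val_injective h1
  refine le_trans (le_min h0 ?_)
    (min_le_idealDepth_left I hf (LinearMap.surjective_rangeRestrict g) hex)
  calc (2 : ℕ∞) = 1 + 1 := by norm_num
    _ ≤ _ := by gcongr

end Exact

theorem idealDepth_le_idealDepth_pi (I : Ideal R) : ∀ n : ℕ,
    idealDepth I R ≤ idealDepth I (Fin n → R)
  | 0 => by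
    refine le_of_le_of_eq le_top (idealDepth_eq_top ?_).symm
    exact Subsingleton.elim _ _
  | n + 1 => by
    let f : R →ₗ[R] (Fin (n + 1) → R) := LinearMap.single R (fun _ => R) 0
    let g : (Fin (n + 1) → R) →ₗ[R] (Fin n → R) := LinearMap.funLeft R R Fin.succ
    have hfg : Function.Exact f g := by
      intro x
      refine ⟨fun h => ⟨x 0, funext fun i => ?_⟩, ?_⟩
      · refine Fin.cases ?_ (fun j => ?_) i
        · simp [f]
        · simpa [f, g, eq_comm, Fin.succ_ne_zero] using congrFun h j
      · rintro ⟨a, rfl⟩
        funext j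
        simp [f, g, Fin.succ_ne_zero]
    refine le_trans (le_min le_rfl (idealDepth_le_idealDepth_pi I n))
      (min_le_idealDepth_mid I (f := f) (g := g) ?_ ?_ hfg)
    · exact Pi.single_injective (M := fun _ : Fin (n + 1) => R) 0
    · exact LinearMap.funLeft_surjective_of_injective R R Fin.succ (Fin.succ_injective n)

/-- The dual of a finite module is the kernel of a map between finite free modules. -/
theorem exists_dual_presentation (M : Type v) [AddCommGroup M] [Module R M] [Module.Finite R M] :
    ∃ (n m : ℕ) (f : Module.Dual R M →ₗ[R] (Fin n → R)) (g : (Fin n → R) →ₗ[R] (Fin m → R)),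
      Function.Injective f ∧ Function.Exact f g := by
  obtain ⟨n, π, hπ⟩ := Module.Finite.exists_fin' R M
  obtain ⟨m, v, hv⟩ := Submodule.fg_iff_exists_fin_generating_family.mp
    (IsNoetherian.noetherian (LinearMap.ker π))
  let f : Module.Dual R M →ₗ[R] (Fin n → R) :=
    { toFun := fun φ i => φ (π (Pi.single i 1))
      map_add' := fun _ _ => rfl
      map_smul' := fun _ _ => rfl }
  let g : (Fin n → R) →ₗ[R] (Fin m → R) :=
    { toFun := fun c j => ∑ i, v j i * c i
      map_add' := fun _ _ => funext fun j => by simp [mul_add, Finset.sum_add_distrib]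
      map_smul' := fun _ _ => funext fun j => by simp [Finset.mul_sum, mul_left_comm] }
  refine ⟨n, m, f, g, fun φ ψ h => LinearMap.ext fun x => ?_, fun c => ⟨fun h => ?_, ?_⟩⟩
  · obtain ⟨x, rfl⟩ := hπ x
    refine LinearMap.congr_fun (f := φ.comp π) (g := ψ.comp π) ?_ x
    exact LinearMap.pi_ext' fun i => LinearMap.ext_ring (congrFun h i)
  · let L : (Fin n → R) →ₗ[R] R := ∑ i, (c i) • LinearMap.proj i
    have hle : LinearMap.ker π ≤ LinearMap.ker L := by
      rw [← hv, Submodule.span_le]
      rintro _ ⟨j, rfl⟩
      simpa [L, g, mul_comm] using congrFun h j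
    refine ⟨((LinearMap.ker π).liftQ L hle).comp
      (π.quotKerEquivOfSurjective hπ).symm.toLinearMap, funext fun i => ?_⟩
    show (LinearMap.ker π).liftQ L hle ((π.quotKerEquivOfSurjective hπ).symm (π (Pi.single i 1))) = c i
    rw [show (π.quotKerEquivOfSurjective hπ).symm (π (Pi.single i 1)) =
      Submodule.Quotient.mk (Pi.single i 1) from (LinearEquiv.symm_apply_eq _).mpr rfl]
    simp [L, Pi.single_apply]
  · rintro ⟨φ, rfl⟩
    funext j
    have : v j ∈ LinearMap.ker π := hv ▸ Submodule.subset_span ⟨j, rfl⟩
    show ∑ i, v j i * φ (π (Pi.single i 1)) = 0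
    calc ∑ i, v j i * φ (π (Pi.single i 1)) = φ (π (∑ i, v j i • Pi.single i 1)) := by simp
      _ = φ (π (v j)) := by congr 2; exact (pi_eq_sum_univ' (v j)).symm
      _ = 0 := by rw [LinearMap.mem_ker.mp this, map_zero]

instance small_dual (M : Type v) [AddCommGroup M] [Module R M] [Module.Finite R M] :
    Small.{u} (Module.Dual R M) := by
  obtain ⟨n, m, f, g, hf, -⟩ := exists_dual_presentation (R := R) M
  exact small_of_injective hf

section Sk

variable {K E0 E1 : Type u} [AddCommGroup K] [Module R K] [Module.Finite R K]
  [AddCommGroup E0] [Module R E0] [Module.Finite R E0]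
  [AddCommGroup E1] [Module R E1] [Module.Finite R E1]
  {f : K →ₗ[R] E0} {g : E0 →ₗ[R] E1}

theorem min_one_le_of (p : Ideal R) [p.IsPrime]
    (h : 1 ≤ Module.supportDim (Localization.AtPrime p) (LocalizedModule p.primeCompl K) →
      1 ≤ depth (Localization.AtPrime p) (LocalizedModule p.primeCompl K)) :
    min ((1 : ℕ) : WithBot ℕ∞)
      (Module.supportDim (Localization.AtPrime p) (LocalizedModule p.primeCompl K)) ≤
    ((depth (Localization.AtPrime p) (LocalizedModule p.primeCompl K) : ℕ∞) : WithBot ℕ∞) := by
  by_cases h' : 1 ≤ Module.supportDim (Localization.AtPrime p) (LocalizedModule p.primeCompl K)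
  · exact (min_le_left _ _).trans (by exact_mod_cast h h')
  · refine (min_le_right _ _).trans ?_
    rw [not_le] at h'
    revert h'
    generalize Module.supportDim (Localization.AtPrime p) (LocalizedModule p.primeCompl K) = a
    intro h'
    cases a with
    | bot => exact bot_le
    | coe a =>
      have : a = 0 := by
        rw [← WithBot.coe_one, WithBot.coe_lt_coe] at h'
        exact ENat.lt_one_iff_eq_zero.mp h'
      subst this
      exact WithBot.coe_le_coe.mpr bot_le

theorem localizedMap_injective (p : Ideal R) [p.IsPrime] (hf : Function.Injective f) :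
    Function.Injective (LocalizedModule.map p.primeCompl f) :=
  LocalizedModule.map_injective p.primeCompl f hf

theorem hasSk_one_of_injective (hf : Function.Injective f) (h : HasSk 1 R E0) :
    HasSk 1 R K := by
  intro p _
  refine min_one_le_of p fun hd => ?_
  refine one_le_idealDepth_of_injective _ (localizedMap_injective p hf) ?_
  have hd' := hd.trans (supportDim_mono (support_localizedModule_subset p.primeCompl
    (Module.support_subset_of_injective f hf)))
  have := h p
  rw [min_eq_left (by exact_mod_cast hd')] at this
  exact_mod_cast this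

theorem hasSk_two_of_exact (hf : Function.Injective f) (hfg : Function.Exact f g)
    (hs : Module.support R K ⊆ Module.support R E1) (h1 : HasSk 1 R E1) (h : HasSk 2 R E0) :
    HasSk 2 R K := by
  intro p _
  have hsub := supportDim_mono (support_localizedModule_subset p.primeCompl
    (Module.support_subset_of_injective f hf))
  have hsub1 := supportDim_mono (support_localizedModule_subset p.primeCompl hs)
  by_cases hd : 2 ≤ Module.supportDim (Localization.AtPrime p) (LocalizedModule p.primeCompl K)
  · refine (min_le_left _ _).trans ?_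
    norm_cast
    refine WithBot.coe_le_coe.mpr ?_
    refine two_le_idealDepth_of_exact _ (localizedMap_injective p hf)
      (g := LocalizedModule.map p.primeCompl g) (fun y => LocalizedModule.map_exact p.primeCompl f g hfg y) ?_ ?_
    · have := h p
      rw [min_eq_left (by exact_mod_cast hd.trans hsub)] at this
      exact WithBot.coe_le_coe.mp this
    · have := h1 p
      rw [min_eq_left (by exact_mod_cast (le_trans (by exact_mod_cast (by norm_num : (1:ℕ) ≤ 2)) (hd.trans hsub1)))] at this
      exact_mod_cast this
  · rw [not_le] at hd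
    refine le_trans ?_ (min_one_le_of p fun hd1 => ?_)
    · refine le_min ?_ (min_le_right _ _)
      refine (min_le_right _ _).trans ?_
      revert hd
      generalize Module.supportDim (Localization.AtPrime p) (LocalizedModule p.primeCompl K) = a
      intro hd
      cases a with
      | bot => exact bot_le
      | coe a =>
        induction a using ENat.recTopCoe with
        | top => simp at hd
        | coe a =>
          have h2 : a ≤ 1 := Nat.le_of_lt_succ (Nat.cast_lt.mp (WithBot.coe_lt_coe.mp hd))
          exact WithBot.coe_le_coe.mpr (Nat.cast_le.mpr h2)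
    · refine one_le_idealDepth_of_injective _ (localizedMap_injective p hf) ?_
      have := h p
      have h2 : (1 : WithBot ℕ∞) ≤ ((depth (Localization.AtPrime p)
          (LocalizedModule p.primeCompl E0) : ℕ∞) : WithBot ℕ∞) :=
        le_trans (le_min (by exact_mod_cast (by norm_num : (1:ℕ) ≤ 2)) (hd1.trans hsub)) this
      exact_mod_cast h2

end Sk

end Groth.Agent.H4Depth
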