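import Groth.Agent.H4Depth.IdealDepth
import Mathlib.RingTheory.Ideal.AssociatedPrime.Finiteness
import Mathlib.RingTheory.KrullDimension.Regular

/-!
# Depth lemma, depth of `M/xM`, depth zero, maximal regular sequences, depth ≤ dimension
-/

universe u v w

open CategoryTheory Abelian RingTheory.Sequence Pointwise

namespace Groth.Agent.H4Depth

open LocCoh

section Zero

variable {R : Type u} [CommRing R] {I : Ideal R} {M : Type v} [AddCommGroup M] [Module R M]

theorem smul_top_ne_top_of_one_le [IsNoetherianRing R] [Module.Finite R M] {x : R} (hx : x ∈ I)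
    (hIM : I • (⊤ : Submodule R M) ≠ ⊤) : I • (⊤ : Submodule R (QuotSMulTop x M)) ≠ ⊤ := by
  intro eq
  apply hIM
  have := congrArg (Submodule.comap (Submodule.mkQ _)) eq
  simpa [Submodule.comap_smul_top_of_surjective I _ (Submodule.mkQ_surjective _),
    Submodule.smul_mono_left ((Ideal.span_singleton_le_iff_mem I).mpr hx),
    ← Submodule.ideal_span_singleton_smul] using this

theorem one_le_idealDepth_iff (hIM : I • (⊤ : Submodule R M) ≠ ⊤) :
    1 ≤ idealDepth I M ↔ ∃ x ∈ I, IsSMulRegular M x := by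
  rw [← Nat.cast_one, le_idealDepth_iff_exists hIM]
  constructor
  · rintro ⟨rs, hlen, hmem, hreg⟩
    obtain ⟨x, rfl⟩ := List.length_eq_one_iff.mp hlen
    exact ⟨x, hmem x (List.mem_singleton_self x), ((isWeaklyRegular_cons_iff M x []).mp hreg).1⟩
  · rintro ⟨x, hx, hreg⟩
    exact ⟨[x], rfl, by simpa using hx,
      (isWeaklyRegular_cons_iff M x []).mpr ⟨hreg, IsWeaklyRegular.nil R _⟩⟩

theorem idealDepth_eq_zero_iff (hIM : I • (⊤ : Submodule R M) ≠ ⊤) :
    idealDepth I M = 0 ↔ ∀ x ∈ I, ¬ IsSMulRegular M x := by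
  rw [← ENat.lt_one_iff_eq_zero, ← not_le, one_le_idealDepth_iff hIM]
  simp

variable [IsNoetherianRing R] [Module.Finite R M]

theorem exists_associatedPrime_ge_of_no_regular (h : ∀ x ∈ I, ¬ IsSMulRegular M x) :
    ∃ p ∈ associatedPrimes R M, I ≤ p := by
  have : Nontrivial M := by
    by_contra hnt
    rw [not_nontrivial_iff_subsingleton] at hnt
    exact h 0 I.zero_mem IsSMulRegular.zero
  obtain ⟨Ia, _⟩ := associatedPrimes.nonempty R M
  refine (Ideal.subset_union_prime_finite (associatedPrimes.finite R M) Ia Ia ?_).mp ?_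
  · exact fun p hp _ _ => IsAssociatedPrime.isPrime hp
  · rw [biUnion_associatedPrimes_eq_compl_regular R M]
    exact fun r hr => h r hr

theorem not_isSMulRegular_of_mem_associatedPrimes {p : Ideal R} (hp : p ∈ associatedPrimes R M)
    {x : R} (hx : x ∈ p) : ¬ IsSMulRegular M x := by
  have : x ∈ ({r : R | IsSMulRegular M r} : Set R)ᶜ := by
    rw [← biUnion_associatedPrimes_eq_compl_regular R M]
    exact Set.mem_biUnion hp hx
  exact this

theorem idealDepth_eq_zero_iff_exists_associatedPrime (hIM : I • (⊤ : Submodule R M) ≠ ⊤) :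
    idealDepth I M = 0 ↔ ∃ p ∈ associatedPrimes R M, I ≤ p := by
  rw [idealDepth_eq_zero_iff hIM]
  exact ⟨exists_associatedPrime_ge_of_no_regular,
    fun ⟨p, hp, hle⟩ x hx => not_isSMulRegular_of_mem_associatedPrimes hp (hle hx)⟩

end Zero

section ShortExact

variable {R : Type u} [CommRing R] [IsNoetherianRing R] (I : Ideal R)
variable {N' N N'' : Type u} [AddCommGroup N'] [Module R N'] [Module.Finite R N']
  [AddCommGroup N] [Module R N] [Module.Finite R N]
  [AddCommGroup N''] [Module R N''] [Module.Finite R N'']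
  {f : N' →ₗ[R] N} {g : N →ₗ[R] N''}

theorem natCast_le_sub_one_iff {n : ℕ} {a : ℕ∞} :
    (n : ℕ∞) ≤ a - 1 ↔ n = 0 ∨ ((n + 1 : ℕ) : ℕ∞) ≤ a := by
  induction a using ENat.recTopCoe with
  | top => simp [ENat.top_sub_one]
  | coe a => norm_cast; omega

theorem min_le_idealDepth_mid (hf : Function.Injective f) (hg : Function.Surjective g)
    (hfg : Function.Exact f g) :
    min (idealDepth I N') (idealDepth I N'') ≤ idealDepth I N := by
  refine ENat.forall_natCast_le_iff_le.mp fun n hn => le_idealDepth_iff_ext.mpr fun i hi => ?_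
  rw [le_min_iff] at hn
  exact subsingleton_ext_mid _ hf hg hfg i (le_idealDepth_iff_ext.mp hn.1 i hi)
    (le_idealDepth_iff_ext.mp hn.2 i hi)

theorem min_le_idealDepth_right (hf : Function.Injective f) (hg : Function.Surjective g)
    (hfg : Function.Exact f g) :
    min (idealDepth I N) (idealDepth I N' - 1) ≤ idealDepth I N'' := by
  refine ENat.forall_natCast_le_iff_le.mp fun n hn => le_idealDepth_iff_ext.mpr fun i hi => ?_
  rw [le_min_iff, natCast_le_sub_one_iff] at hn
  rcases hn.2 with h0 | h1
  · omega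
  · exact subsingleton_ext_right _ hf hg hfg i (le_idealDepth_iff_ext.mp hn.1 i hi)
      (le_idealDepth_iff_ext.mp h1 (i + 1) (by omega))

theorem min_le_idealDepth_left (hf : Function.Injective f) (hg : Function.Surjective g)
    (hfg : Function.Exact f g) :
    min (idealDepth I N) (idealDepth I N'' + 1) ≤ idealDepth I N' := by
  refine ENat.forall_natCast_le_iff_le.mp fun n hn => le_idealDepth_iff_ext.mpr fun i hi => ?_
  rw [le_min_iff] at hn
  cases i with
  | zero => exact subsingleton_ext_left_zero _ hf (le_idealDepth_iff_ext.mp hn.1 0 hi)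
  | succ i =>
    refine subsingleton_ext_left _ hf hg hfg i (le_idealDepth_iff_ext.mp hn.1 (i + 1) hi) ?_
    have h2 : ((n - 1 : ℕ) : ℕ∞) ≤ idealDepth I N'' := by
      refine (ENat.add_le_add_iff_right (k := (1 : ℕ∞)) (by simp)).mp ?_
      refine le_trans ?_ hn.2
      exact_mod_cast (by omega : n - 1 + 1 ≤ n)
    exact le_idealDepth_iff_ext.mp h2 i (by omega)

end ShortExact

section QuotRegular

variable {R : Type u} [CommRing R] [IsNoetherianRing R] {I : Ideal R}
variable {M : Type u} [AddCommGroup M] [Module R M] [Module.Finite R M]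

/-- Depth drops by one modulo a regular element of `I`. -/
theorem idealDepth_quotSMulTop_add_one {x : R} (hx : x ∈ I) (hreg : IsSMulRegular M x) :
    idealDepth I (QuotSMulTop x M) + 1 = idealDepth I M := by
  have hex : Function.Exact (x • LinearMap.id : M →ₗ[R] M)
      (Submodule.mkQ (x • (⊤ : Submodule R M))) :=
    LinearMap.exact_lsmul_mkQ_smul_top M x
  have hsurj : Function.Surjective (Submodule.mkQ (x • (⊤ : Submodule R M))) :=
    Submodule.mkQ_surjective _
  have hf : Function.Injective (x • LinearMap.id : M →ₗ[R] M) := fun a b h => hreg h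
  apply le_antisymm
  · refine ENat.forall_natCast_le_iff_le.mp fun n hn => le_idealDepth_iff_ext.mpr fun i hi => ?_
    have hinj : ∀ y : Ext (ModuleCat.of R (R ⧸ I)) (ModuleCat.of R M) i, x • y = 0 := fun y =>
      ext_smul_eq_zero_of_mem_annihilator_left
        (show x ∈ Module.annihilator R (R ⧸ I) by rwa [Ideal.annihilator_quotient]) y
    refine subsingleton_of_forall_eq 0 fun y => ?_
    have hy : y.comp (Ext.mk₀ (shortComplexOf (x • LinearMap.id)
        (Submodule.mkQ (x • (⊤ : Submodule R M))) hex).f) (add_zero i) = 0 := by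
      show y.comp (Ext.mk₀ (x • 𝟙 (ModuleCat.of R M))) (add_zero i) = 0
      rw [← Ext.smul_eq_comp_mk₀]
      exact hinj y
    cases i with
    | zero =>
      have : Subsingleton (Ext (ModuleCat.of R (R ⧸ I)) (ModuleCat.of R M) 0) := by
        rw [subsingleton_ext_zero_iff]
        exact IsSMulRegular.linearMap_subsingleton_of_mem_annihilator hreg
          (by rwa [Ideal.annihilator_quotient])
      exact Subsingleton.elim _ _
    | succ i =>
      obtain ⟨z, rfl⟩ := Ext.covariant_sequence_exact₁ _
        (shortComplexOf_shortExact _ _ hf hsurj hex) y hy rfl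
      have h2 : ((n - 1 : ℕ) : ℕ∞) ≤ idealDepth I (QuotSMulTop x M) := by
        refine (ENat.add_le_add_iff_right (k := (1 : ℕ∞)) (by simp)).mp ?_
        refine le_trans ?_ hn
        exact_mod_cast (by omega : n - 1 + 1 ≤ n)
      rw [show z = 0 from @Subsingleton.elim _
        (le_idealDepth_iff_ext.mp h2 i (by omega)) _ _]
      simp; rfl
  · refine ENat.forall_natCast_le_iff_le.mp fun n hn => ?_
    cases n with
    | zero => simp
    | succ n =>
      push_cast
      gcongr
      refine le_idealDepth_iff_ext.mpr fun i hi => ?_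
      exact subsingleton_ext_right _ hf hsurj hex i
        (le_idealDepth_iff_ext.mp hn i (by omega)) (le_idealDepth_iff_ext.mp hn (i + 1) (by omega))

theorem idealDepth_quotient_ofList_add_length (hIM : I • (⊤ : Submodule R M) ≠ ⊤) :
    ∀ (rs : List R), IsWeaklyRegular M rs → (∀ r ∈ rs, r ∈ I) →
      idealDepth I (M ⧸ Ideal.ofList rs • (⊤ : Submodule R M)) + rs.length = idealDepth I M := by
  intro rs hreg hmem
  induction rs generalizing M with
  | nil =>
    rw [idealDepth_congr I (Submodule.quotEquivOfEqBot _ (by simp))]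
    simp
  | cons a rs ih =>
    rw [isWeaklyRegular_cons_iff] at hreg
    simp only [List.mem_cons, forall_eq_or_imp] at hmem
    rw [← idealDepth_quotSMulTop_add_one hmem.1 hreg.1,
      ← ih (smul_top_ne_top_of_one_le hmem.1 hIM) hreg.2 hmem.2,
      idealDepth_congr I
        (Submodule.quotOfListConsSMulTopEquivQuotSMulTopInner M a rs)]
    push_cast [List.length_cons]
    rw [add_assoc]

/-- A weakly regular sequence in `I` that cannot be extended has length `idealDepth I M`. -/
theorem length_eq_idealDepth_of_maximal (hIM : I • (⊤ : Submodule R M) ≠ ⊤) {rs : List R}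
    (hreg : IsWeaklyRegular M rs) (hmem : ∀ r ∈ rs, r ∈ I)
    (hmax : ∀ r ∈ I, ¬ IsWeaklyRegular M (rs ++ [r])) :
    (rs.length : ℕ∞) = idealDepth I M := by
  rw [← idealDepth_quotient_ofList_add_length hIM rs hreg hmem]
  have hne : I • (⊤ : Submodule R (M ⧸ Ideal.ofList rs • (⊤ : Submodule R M))) ≠ ⊤ := by
    intro eq
    apply hIM
    have := congrArg (Submodule.comap (Submodule.mkQ _)) eq
    simpa [Submodule.comap_smul_top_of_surjective I _ (Submodule.mkQ_surjective _),
      sup_eq_left.mpr (Submodule.smul_mono_left (Ideal.span_le.mpr fun r hr => hmem r hr) :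
        Ideal.ofList rs • (⊤ : Submodule R M) ≤ I • ⊤)] using this
  rw [(idealDepth_eq_zero_iff hne).mpr fun x hx hx' => hmax x hx ?_, zero_add]
  rw [isWeaklyRegular_append_iff]
  exact ⟨hreg, (isWeaklyRegular_cons_iff _ x []).mpr ⟨hx', IsWeaklyRegular.nil R _⟩⟩

theorem ofList_smul_top_lt_append (hIM : I • (⊤ : Submodule R M) ≠ ⊤) {rs : List R} {r : R}
    (hreg : IsWeaklyRegular M (rs ++ [r])) (hmem : ∀ r' ∈ rs ++ [r], r' ∈ I) :
    Ideal.ofList rs • (⊤ : Submodule R M) < Ideal.ofList (rs ++ [r]) • (⊤ : Submodule R M) := by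
  rw [isWeaklyRegular_append_iff, isWeaklyRegular_cons_iff] at hreg
  have hle : Ideal.ofList rs • (⊤ : Submodule R M) ≤ Ideal.ofList (rs ++ [r]) • ⊤ := by
    rw [Ideal.ofList_append, Submodule.sup_smul]
    exact le_sup_left
  refine lt_of_le_of_ne hle fun heq => hIM (top_le_iff.mp ?_)
  intro m _
  have h1 : r • m ∈ Ideal.ofList rs • (⊤ : Submodule R M) := by
    rw [heq]
    exact Submodule.smul_mem_smul (Ideal.subset_span (by simp)) Submodule.mem_top
  have h2 : Submodule.Quotient.mk (p := Ideal.ofList rs • (⊤ : Submodule R M)) m = 0 := by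
    apply hreg.2.1
    simp only [smul_zero]
    rw [← Submodule.Quotient.mk_smul, Submodule.Quotient.mk_eq_zero]
    exact h1
  rw [Submodule.Quotient.mk_eq_zero] at h2
  exact Submodule.smul_mono_left (Ideal.span_le.mpr fun r' hr' =>
    hmem r' (List.mem_append_left _ hr')) h2

theorem exists_maximal_extension (hIM : I • (⊤ : Submodule R M) ≠ ⊤) {rs : List R}
    (hreg : IsWeaklyRegular M rs) (hmem : ∀ r ∈ rs, r ∈ I) :
    ∃ rs' : List R, rs <+: rs' ∧ IsWeaklyRegular M rs' ∧ (∀ r ∈ rs', r ∈ I) ∧
      ∀ r ∈ I, ¬ IsWeaklyRegular M (rs' ++ [r]) := by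
  induction h : Ideal.ofList rs • (⊤ : Submodule R M) using WellFoundedGT.induction generalizing rs with
  | ind S ih =>
    by_cases hmax : ∀ r ∈ I, ¬ IsWeaklyRegular M (rs ++ [r])
    · exact ⟨rs, List.prefix_refl _, hreg, hmem, hmax⟩
    · push Not at hmax
      obtain ⟨r, hr, hr'⟩ := hmax
      have hmem' : ∀ r' ∈ rs ++ [r], r' ∈ I := by
        intro r' hr''
        rcases List.mem_append.mp hr'' with h' | h'
        · exact hmem r' h'
        · rwa [List.mem_singleton.mp h']
      obtain ⟨rs', h1, h2⟩ := ih _ (h ▸ ofList_smul_top_lt_append hIM hr' hmem') hr' hmem' rfl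
      exact ⟨rs', (List.prefix_append _ _).trans h1, h2⟩

theorem idealDepth_ne_top (hIM : I • (⊤ : Submodule R M) ≠ ⊤) : idealDepth I M ≠ ⊤ := by
  obtain ⟨rs, -, h1, h2, h3⟩ := exists_maximal_extension hIM (IsWeaklyRegular.nil R M) (by simp)
  rw [← length_eq_idealDepth_of_maximal hIM h1 h2 h3]
  exact ENat.coe_ne_top _

end QuotRegular

end Groth.Agent.H4Depth
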