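import Mathlib.Algebra.Category.ModuleCat.Ext.Basic
import Mathlib.Algebra.Homology.DerivedCategory.Ext.ExactSequences
import Mathlib.RingTheory.Regular.Category

/-!
# Small lemmas on `Ext` of modules: annihilators, short exact sequences in unbundled form.
-/

universe u v

open CategoryTheory Abelian

namespace Groth.Agent.H4Depth

variable {R : Type u} [CommRing R]

/-- The short complex attached to an unbundled pair of composable linear maps with exactness. -/
def shortComplexOf {M₁ M₂ M₃ : Type v} [AddCommGroup M₁] [Module R M₁] [AddCommGroup M₂]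
    [Module R M₂] [AddCommGroup M₃] [Module R M₃] (f : M₁ →ₗ[R] M₂) (g : M₂ →ₗ[R] M₃)
    (hfg : Function.Exact f g) : ShortComplex (ModuleCat.{v} R) :=
  ShortComplex.mk (ModuleCat.ofHom f) (ModuleCat.ofHom g)
    (by ext x; exact hfg.apply_apply_eq_zero x)

theorem shortComplexOf_shortExact {M₁ M₂ M₃ : Type v} [AddCommGroup M₁] [Module R M₁]
    [AddCommGroup M₂] [Module R M₂] [AddCommGroup M₃] [Module R M₃] (f : M₁ →ₗ[R] M₂)
    (g : M₂ →ₗ[R] M₃) (hf : Function.Injective f) (hg : Function.Surjective g)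
    (hfg : Function.Exact f g) : (shortComplexOf f g hfg).ShortExact where
  exact := (ShortComplex.ShortExact.moduleCat_exact_iff_function_exact _).mpr hfg
  mono_f := (ModuleCat.mono_iff_injective _).mpr hf
  epi_g := (ModuleCat.epi_iff_surjective _).mpr hg

variable [Small.{v} R]

theorem ext_smul_eq_zero_of_mem_annihilator_left {N M : ModuleCat.{v} R} {r : R}
    (hr : r ∈ Module.annihilator R N) {n : ℕ} (x : Ext N M n) : r • x = 0 := by
  have h0 : r • 𝟙 N = 0 := by
    ext y
    simpa using Module.mem_annihilator.mp hr y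
  have : (Ext.mk₀ (r • 𝟙 N)).comp x (zero_add n) = r • x := by
    rw [Ext.mk₀_smul, Ext.smul_comp, Ext.mk₀_id_comp]
  rw [← this, h0]
  simp; try rfl

theorem ext_smul_eq_zero_of_mem_annihilator_right {N M : ModuleCat.{v} R} {r : R}
    (hr : r ∈ Module.annihilator R M) {n : ℕ} (x : Ext N M n) : r • x = 0 := by
  have h0 : r • 𝟙 M = 0 := by
    ext y
    simpa using Module.mem_annihilator.mp hr y
  rw [Ext.smul_eq_comp_mk₀, h0]
  simp; try rfl

theorem subsingleton_ext_of_annihilator_sup_eq_top {N M : ModuleCat.{v} R}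
    (h : Module.annihilator R N ⊔ Module.annihilator R M = ⊤) (n : ℕ) :
    Subsingleton (Ext N M n) := by
  obtain ⟨a, ha, b, hb, hab⟩ := Submodule.mem_sup.mp (h ▸ Submodule.mem_top : (1 : R) ∈ _)
  refine subsingleton_of_forall_eq 0 fun x => ?_
  rw [← one_smul R x, ← hab, add_smul, ext_smul_eq_zero_of_mem_annihilator_left ha,
    ext_smul_eq_zero_of_mem_annihilator_right hb, add_zero]

section LES

variable {M₁ M₂ M₃ : Type v} [AddCommGroup M₁] [Module R M₁] [AddCommGroup M₂] [Module R M₂]
  [AddCommGroup M₃] [Module R M₃] {f : M₁ →ₗ[R] M₂} {g : M₂ →ₗ[R] M₃}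

theorem subsingleton_ext_mid (N : ModuleCat.{v} R) (hf : Function.Injective f)
    (hg : Function.Surjective g) (hfg : Function.Exact f g) (n : ℕ)
    (h1 : Subsingleton (Ext N (ModuleCat.of R M₁) n))
    (h3 : Subsingleton (Ext N (ModuleCat.of R M₃) n)) :
    Subsingleton (Ext N (ModuleCat.of R M₂) n) := by
  refine subsingleton_of_forall_eq 0 fun x => ?_
  obtain ⟨y, rfl⟩ := Ext.covariant_sequence_exact₂ N (shortComplexOf_shortExact f g hf hg hfg) x
    (@Subsingleton.elim _ h3 _ _)
  rw [show y = 0 from @Subsingleton.elim _ h1 _ _]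
  simp; try rfl

theorem subsingleton_ext_right (N : ModuleCat.{v} R) (hf : Function.Injective f)
    (hg : Function.Surjective g) (hfg : Function.Exact f g) (n : ℕ)
    (h2 : Subsingleton (Ext N (ModuleCat.of R M₂) n))
    (h1 : Subsingleton (Ext N (ModuleCat.of R M₁) (n + 1))) :
    Subsingleton (Ext N (ModuleCat.of R M₃) n) := by
  refine subsingleton_of_forall_eq 0 fun x => ?_
  obtain ⟨y, rfl⟩ := Ext.covariant_sequence_exact₃ N (shortComplexOf_shortExact f g hf hg hfg) x
    rfl (@Subsingleton.elim _ h1 _ _)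
  rw [show y = 0 from @Subsingleton.elim _ h2 _ _]
  simp; try rfl

theorem subsingleton_ext_left (N : ModuleCat.{v} R) (hf : Function.Injective f)
    (hg : Function.Surjective g) (hfg : Function.Exact f g) (n : ℕ)
    (h2 : Subsingleton (Ext N (ModuleCat.of R M₂) (n + 1)))
    (h3 : Subsingleton (Ext N (ModuleCat.of R M₃) n)) :
    Subsingleton (Ext N (ModuleCat.of R M₁) (n + 1)) := by
  refine subsingleton_of_forall_eq 0 fun x => ?_
  obtain ⟨y, rfl⟩ := Ext.covariant_sequence_exact₁ N (shortComplexOf_shortExact f g hf hg hfg) x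
    (@Subsingleton.elim _ h2 _ _) rfl
  rw [show y = 0 from @Subsingleton.elim _ h3 _ _]
  simp; try rfl

theorem subsingleton_ext_zero_iff (N : ModuleCat.{v} R) (M : ModuleCat.{v} R) :
    Subsingleton (Ext N M 0) ↔ Subsingleton (N →ₗ[R] M) :=
  (Ext.addEquiv₀.trans ModuleCat.homAddEquiv).toEquiv.subsingleton_congr

theorem subsingleton_ext_left_zero (N : ModuleCat.{v} R) (hf : Function.Injective f)
    (h2 : Subsingleton (Ext N (ModuleCat.of R M₂) 0)) :
    Subsingleton (Ext N (ModuleCat.of R M₁) 0) := by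
  rw [subsingleton_ext_zero_iff] at h2 ⊢
  refine ⟨fun a b => LinearMap.ext fun x => hf ?_⟩
  exact LinearMap.congr_fun (@Subsingleton.elim _ h2 (f.comp a) (f.comp b)) x

end LES

end Groth.Agent.H4Depth
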