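import Groth.Agent.H4Depth.LocDepth
import Groth.Agent.H4Depth.SupportLoc
import Mathlib.RingTheory.Ideal.KrullsHeightTheorem
import Mathlib.RingTheory.Spectrum.Prime.RingHom

/-!
# Cohen–Macaulay modules over Noetherian local rings
-/

universe u v w

open RingTheory.Sequence Pointwise IsLocalRing

namespace Groth.Agent.H4Depth

open LocCoh

section Dims

variable {R : Type u} [CommRing R] {M : Type v} [AddCommGroup M] [Module R M]

theorem supportDim_eq_ringKrullDim_quotient_of_support_eq {p : Ideal R}
    (h : Module.support R M = PrimeSpectrum.zeroLocus p) :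
    Module.supportDim R M = ringKrullDim (R ⧸ p) := by
  rw [Module.supportDim, h, ← ringKrullDim_quotient]

theorem ringKrullDim_quotient_le_supportDim {p : PrimeSpectrum R} (hp : p ∈ Module.support R M) :
    ringKrullDim (R ⧸ p.asIdeal) ≤ Module.supportDim R M := by
  rw [ringKrullDim_quotient]
  refine Order.krullDim_le_of_strictMono (fun x => (⟨x.1, ?_⟩ : Module.support R M)) fun _ _ h => h
  exact Module.mem_support_mono (p := p) (fun a ha => x.2 ha) hp

theorem mem_support_of_mem_associatedPrimes [IsNoetherianRing R] {p : Ideal R}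
    (hp : p ∈ associatedPrimes R M) : (⟨p, hp.isPrime⟩ : PrimeSpectrum R) ∈ Module.support R M := by
  obtain ⟨-, m, hm⟩ := isAssociatedPrime_iff.mp hp
  rw [Module.mem_support_iff']
  refine ⟨m, fun r hr h => hr ?_⟩
  show r ∈ p
  rw [hm, Submodule.mem_colon_singleton, Submodule.mem_bot]
  exact h

theorem withBot_add_one_cancel {a b : WithBot ℕ∞} (h : a + 1 = b + 1) : a = b := by
  cases a <;> cases b <;> simp_all [← WithBot.coe_one, ← WithBot.coe_add]

theorem height_add_coheight_le {α : Type*} [Preorder α] (x : α) :
    ((Order.height x : ℕ∞) : WithBot ℕ∞) + (Order.coheight x : ℕ∞) ≤ Order.krullDim α := by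
  have : Nonempty α := ⟨x⟩
  rw [Order.krullDim_eq_iSup_height_add_coheight_of_nonempty, ← WithBot.coe_add, WithBot.coe_le_coe]
  exact le_iSup (fun a : α => Order.height a + Order.coheight a) x

/-- `dim M_p + dim R/p ≤ dim M`. -/
theorem supportDim_localization_add_le (p : Ideal R) [p.IsPrime]
    (hp : (⟨p, ‹_›⟩ : PrimeSpectrum R) ∈ Module.support R M) :
    Module.supportDim (Localization.AtPrime p) (LocalizedModule p.primeCompl M) +
      ringKrullDim (R ⧸ p) ≤ Module.supportDim R M := by
  let x : Module.support R M := ⟨⟨p, ‹_›⟩, hp⟩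
  refine le_trans (add_le_add ?_ ?_) (height_add_coheight_le x)
  · rw [Order.height_eq_krullDim_Iic]
    refine Order.krullDim_le_of_strictMono (fun Q => (⟨⟨PrimeSpectrum.comap
      (algebraMap R (Localization.AtPrime p)) Q.1, ?_⟩, ?_⟩ : Set.Iic x)) ?_
    · exact (mem_support_localizedModule_iff p.primeCompl _ (LocalizedModule.mkLinearMap _ M) Q.1).mp Q.2
    · exact (IsLocalization.AtPrime.primeSpectrumOrderIso (Localization.AtPrime p) p Q.1).2
    · intro Q Q' h
      exact (IsLocalization.AtPrime.primeSpectrumOrderIso (Localization.AtPrime p) p).strictMono h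
  · rw [Order.coheight_eq_krullDim_Ici, ringKrullDim_quotient]
    refine Order.krullDim_le_of_strictMono (fun Q => (⟨⟨Q.1, ?_⟩, ?_⟩ : Set.Ici x)) fun _ _ h => h
    · exact Module.mem_support_mono (p := ⟨p, ‹_›⟩) (fun a ha => Q.2 ha) hp
    · exact fun a ha => Q.2 ha

end Dims

section CM

set_option maxHeartbeats 400000

variable {R : Type u} [CommRing R] [IsNoetherianRing R] [IsLocalRing R]
variable {M : Type u} [AddCommGroup M] [Module R M] [Module.Finite R M]

omit [IsNoetherianRing R] [Module.Finite R M] in
theorem IsCM.nontrivial (h : IsCohenMacaulayModule R M) : Nontrivial M := by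
  by_contra hnt
  rw [not_nontrivial_iff_subsingleton] at hnt
  rw [IsCohenMacaulayModule, Module.supportDim_eq_bot_of_subsingleton] at h
  exact WithBot.bot_ne_coe h

theorem supportDim_ne_top : Module.supportDim R M ≠ ⊤ := fun h => by
  have h2 : ringKrullDim R ≠ ⊤ := ringKrullDim_ne_top
  exact h2 (top_le_iff.mp (h ▸ Module.supportDim_le_ringKrullDim R M))

theorem exists_nat_supportDim_eq [Nontrivial M] :
    ∃ d : ℕ, Module.supportDim R M = (d : WithBot ℕ∞) := by
  obtain ⟨a, ha⟩ := WithBot.ne_bot_iff_exists.mp (Module.supportDim_ne_bot_of_nontrivial R M)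
  induction a using ENat.recTopCoe with
  | top => exact absurd ha.symm (supportDim_ne_top (R := R) (M := M))
  | coe n => exact ⟨n, ha.symm⟩

theorem IsCM.ringKrullDim_quotient_eq (h : IsCohenMacaulayModule R M) {p : Ideal R}
    (hp : p ∈ associatedPrimes R M) : ringKrullDim (R ⧸ p) = Module.supportDim R M := by
  refine le_antisymm (ringKrullDim_quotient_le_supportDim (p := ⟨p, hp.isPrime⟩)
    (mem_support_of_mem_associatedPrimes hp)) ?_
  unfold IsCohenMacaulayModule at h
  rw [h]
  exact depth_le_ringKrullDim_quotient_of_mem_associatedPrimes hp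

omit [IsLocalRing R] [IsNoetherianRing R] in
theorem support_quotient_smul_top (I : Ideal R) :
    Module.support R (M ⧸ I • (⊤ : Submodule R M)) =
      Module.support R M ∩ PrimeSpectrum.zeroLocus I := by
  rw [Module.support_quotient, Set.inter_comm, Set.inter_comm]

omit [IsLocalRing R] [IsNoetherianRing R] in
theorem smul_eq_span_singleton_smul_top (x : R) :
    x • (⊤ : Submodule R M) = Ideal.span {x} • (⊤ : Submodule R M) :=
  (Submodule.ideal_span_singleton_smul _ _).symm

theorem IsCM.isSMulRegular_of_supportDim_lt (h : IsCohenMacaulayModule R M) {x : R}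
    (hdim : Module.supportDim R (QuotSMulTop x M) < Module.supportDim R M) :
    IsSMulRegular M x := by
  by_contra hx
  obtain ⟨p, hp, hle⟩ := exists_associatedPrime_ge_of_no_regular (I := Ideal.span {x}) (M := M)
    fun y hy hy' => by
      obtain ⟨c, rfl⟩ := Ideal.mem_span_singleton'.mp hy
      exact hx (IsSMulRegular.of_mul hy')
  refine hdim.not_ge ?_
  rw [← IsCM.ringKrullDim_quotient_eq h hp]
  refine ringKrullDim_quotient_le_supportDim (p := ⟨p, hp.isPrime⟩) ?_
  rw [Module.support_quotSMulTop]
  refine ⟨mem_support_of_mem_associatedPrimes hp, ?_⟩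
  simpa [PrimeSpectrum.mem_zeroLocus] using hle (Ideal.mem_span_singleton_self x)

theorem isCM_quotSMulTop_iff {x : R} (hx : x ∈ maximalIdeal R) (hreg : IsSMulRegular M x) :
    IsCohenMacaulayModule R (QuotSMulTop x M) ↔ IsCohenMacaulayModule R M := by
  simp only [IsCohenMacaulayModule]
  rw [← Module.supportDim_quotSMulTop_succ_eq_supportDim hreg hx, depth, depth,
    ← idealDepth_quotSMulTop_add_one (M := M) hx hreg, WithBot.coe_add, WithBot.coe_one]
  refine ⟨fun h => by rw [h], fun h => ?_⟩
  exact withBot_add_one_cancel h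

/-- `dim M = dim M/IM + depth_I M` for a Cohen–Macaulay module. -/
theorem IsCM.supportDim_eq_add_idealDepth {I : Ideal R} (hI : I ≠ ⊤)
    (h : IsCohenMacaulayModule R M) :
    Module.supportDim R M =
      Module.supportDim R (M ⧸ I • (⊤ : Submodule R M)) + ((idealDepth I M : ℕ∞) : WithBot ℕ∞) := by
  have hIm : I ≤ maximalIdeal R := le_maximalIdeal hI
  suffices H : ∀ n : ℕ, ∀ (M : Type u) [AddCommGroup M] [Module R M] [Module.Finite R M],
      IsCohenMacaulayModule R M → idealDepth I M = n → Module.supportDim R M =
      Module.supportDim R (M ⧸ I • (⊤ : Submodule R M)) + ((idealDepth I M : ℕ∞) : WithBot ℕ∞) by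
    have := IsCM.nontrivial h
    obtain ⟨d, hd⟩ := ENat.ne_top_iff_exists.mp (idealDepth_ne_top (I := I) (M := M)
      fun hh => maximalIdeal_smul_top_ne_top (top_le_iff.mp
        (hh.symm.trans_le (Submodule.smul_mono_left hIm))))
    exact H d M h hd.symm
  intro n
  induction n with
  | zero =>
    intro M _ _ _ h hd
    have := IsCM.nontrivial h
    have hne : I • (⊤ : Submodule R M) ≠ ⊤ := fun hh => by simp [idealDepth_eq_top hh] at hd
    rw [hd]
    obtain ⟨p, hp, hle⟩ := (idealDepth_eq_zero_iff_exists_associatedPrime hne).mp (by simpa using hd)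
    simp only [Nat.cast_zero, WithBot.coe_zero, add_zero]
    refine le_antisymm ?_ (Module.supportDim_le_of_surjective _ (Submodule.mkQ_surjective _))
    rw [← IsCM.ringKrullDim_quotient_eq h hp]
    refine ringKrullDim_quotient_le_supportDim (p := ⟨p, hp.isPrime⟩) ?_
    rw [support_quotient_smul_top]
    exact ⟨mem_support_of_mem_associatedPrimes hp, hle⟩
  | succ n ih =>
    intro M _ _ _ h hd
    have := IsCM.nontrivial h
    have hne : I • (⊤ : Submodule R M) ≠ ⊤ := fun hh => by exact ENat.top_ne_coe (n + 1) ((idealDepth_eq_top hh).symm.trans hd)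
    obtain ⟨x, hx, hreg⟩ := (one_le_idealDepth_iff hne).mp (by rw [hd]; push_cast; exact le_add_self)
    have hd' : idealDepth I (QuotSMulTop x M) = n := by
      have := idealDepth_quotSMulTop_add_one hx hreg
      rw [hd] at this
      push_cast at this
      exact WithBot.coe_injective (withBot_add_one_cancel (by exact_mod_cast congrArg ((↑) : ℕ∞ → WithBot ℕ∞) this))
    have := ih (QuotSMulTop x M) ((isCM_quotSMulTop_iff (hIm hx) hreg).mpr h) hd'
    rw [← Module.supportDim_quotSMulTop_succ_eq_supportDim hreg (hIm hx), this,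
      ← idealDepth_quotSMulTop_add_one hx hreg, WithBot.coe_add, WithBot.coe_one, add_assoc]
    congr 1
    rw [Module.supportDim, Module.supportDim, support_quotient_smul_top, support_quotient_smul_top,
      Module.support_quotSMulTop, Set.inter_assoc]
    rw [Set.inter_eq_self_of_subset_right (s := PrimeSpectrum.zeroLocus {x})
      (PrimeSpectrum.zeroLocus_anti_mono (Set.singleton_subset_iff.mpr hx))]

/-- Localizations of Cohen–Macaulay modules; dimension formula. -/
theorem IsCM.localization (h : IsCohenMacaulayModule R M) (p : Ideal R) [p.IsPrime]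
    (hp : (⟨p, ‹_›⟩ : PrimeSpectrum R) ∈ Module.support R M) :
    IsCohenMacaulayModule (Localization.AtPrime p) (LocalizedModule p.primeCompl M) ∧
      Module.supportDim R M = ringKrullDim (R ⧸ p) +
        Module.supportDim (Localization.AtPrime p) (LocalizedModule p.primeCompl M) ∧
      idealDepth p M = depth (Localization.AtPrime p) (LocalizedModule p.primeCompl M) := by
  have := IsCM.nontrivial h
  have hnt : Nontrivial (LocalizedModule p.primeCompl M) := Module.mem_support_iff.mp hp
  have h0 := IsCM.supportDim_eq_add_idealDepth (Ideal.IsPrime.ne_top ‹_› : p ≠ ⊤) h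
  rw [supportDim_eq_ringKrullDim_quotient_of_support_eq (p := p) (M := M ⧸ p • (⊤ : Submodule R M)) (by
    rw [support_quotient_smul_top, Set.inter_eq_right]
    exact fun q hq => Module.mem_support_mono (p := ⟨p, ‹_›⟩) (fun a ha => hq ha) hp)] at h0
  have h1 := idealDepth_le_depth_localization p (le_refl p) (M := M)
  have h2 := depth_le_supportDim (R := Localization.AtPrime p) (M := LocalizedModule p.primeCompl M)
  have h3 := supportDim_localization_add_le p hp
  obtain ⟨d, hd⟩ := exists_nat_supportDim_eq (R := R) (M := M)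
  obtain ⟨e, he⟩ := exists_nat_supportDim_eq (R := Localization.AtPrime p)
    (M := LocalizedModule p.primeCompl M)
  have : Nontrivial (R ⧸ p) := Ideal.Quotient.nontrivial_iff.mpr (Ideal.IsPrime.ne_top ‹_›)
  obtain ⟨r, hr⟩ : ∃ r : ℕ, ringKrullDim (R ⧸ p) = (r : WithBot ℕ∞) := by
    rw [← Module.supportDim_quotient_eq_ringKrullDim]
    exact exists_nat_supportDim_eq
  rw [hd, hr] at h0
  rw [hd, hr, he] at h3
  rw [he] at h2
  simp only [IsCohenMacaulayModule]
  rw [hd, hr, he]
  clear hd he hr
  revert h0 h1 h2
  generalize idealDepth p M = a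
  generalize depth (Localization.AtPrime p) (LocalizedModule p.primeCompl M) = b
  intro h1 h2 h0
  induction a using ENat.recTopCoe with
  | top =>
    exfalso
    have := top_le_iff.mp h1
    subst this
    exact absurd h2 (by exact_mod_cast not_le.mpr (ENat.coe_lt_top e))
  | coe a =>
    induction b using ENat.recTopCoe with
    | top => exact absurd h2 (by exact_mod_cast not_le.mpr (ENat.coe_lt_top e))
    | coe b =>
      have e0 : d = r + a := by exact_mod_cast h0
      have e1 : a ≤ b := by exact_mod_cast h1
      have e2 : b ≤ e := by exact_mod_cast h2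
      have e3 : e + r ≤ d := by exact_mod_cast h3
      have a1 : e = b := by omega
      have a2 : a = b := by omega
      have a3 : d = r + e := by omega
      subst a1 a2
      exact ⟨rfl, by exact_mod_cast a3, rfl⟩

end CM

end Groth.Agent.H4Depth
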