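import Groth.Agent.H4Depth.DepthLemmas
import Mathlib.RingTheory.Regular.Flat
import Mathlib.RingTheory.Localization.Finiteness
import Mathlib.RingTheory.Ideal.AssociatedPrime.Localization
import Mathlib.RingTheory.KrullDimension.Regular

/-!
# Depth and localization; depth bounded by the dimension
-/

universe u v w

open RingTheory.Sequence Pointwise

namespace Groth.Agent.H4Depth

open LocCoh

section Localized

variable {R : Type u} [CommRing R] (S : Submonoid R) {M : Type v} [AddCommGroup M] [Module R M]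
  {N : Type w} [AddCommGroup N] [Module R N] (f : M →ₗ[R] N) [IsLocalizedModule S f]

theorem exists_mk'_eq_of_mem_smul_top (I : Ideal R) {z : N} (hz : z ∈ I • (⊤ : Submodule R N)) :
    ∃ n ∈ I • (⊤ : Submodule R M), ∃ t : S, IsLocalizedModule.mk' f n t = z := by
  refine Submodule.smul_induction_on hz ?_ ?_
  · intro r hr m _
    obtain ⟨⟨m', t⟩, rfl⟩ := IsLocalizedModule.mk'_surjective S f m
    exact ⟨r • m', Submodule.smul_mem_smul hr Submodule.mem_top, t,
      IsLocalizedModule.mk'_smul f r m' t⟩
  · intro x y hx hy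
    obtain ⟨a, ha, s, rfl⟩ := hx
    obtain ⟨b, hb, t, rfl⟩ := hy
    exact ⟨t.1 • a + s.1 • b, add_mem (Submodule.smul_mem _ _ ha) (Submodule.smul_mem _ _ hb), s * t,
      (IsLocalizedModule.mk'_add_mk' f a b s t).symm⟩

theorem exists_smul_mem_of_map_mem_smul_top (I : Ideal R) {m : M}
    (hm : f m ∈ I • (⊤ : Submodule R N)) : ∃ s ∈ S, s • m ∈ I • (⊤ : Submodule R M) := by
  obtain ⟨n, hn, t, ht⟩ := exists_mk'_eq_of_mem_smul_top S f I hm
  rw [← IsLocalizedModule.mk'_one S f m, IsLocalizedModule.mk'_eq_mk'_iff] at ht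
  obtain ⟨c, hc⟩ := ht
  refine ⟨c.1 * t.1, mul_mem c.2 t.2, ?_⟩
  simp only [Submonoid.smul_def, OneMemClass.coe_one, one_smul] at hc
  rw [mul_smul]
  first
  | (rw [hc]; exact Submodule.smul_mem _ _ hn)
  | (rw [← hc]; exact Submodule.smul_mem _ _ hn)

end Localized

section AtPrime

variable {R : Type u} [CommRing R] [IsNoetherianRing R]
variable {I : Ideal R} {M : Type u} [AddCommGroup M] [Module R M] [Module.Finite R M]
variable (p : Ideal R) [p.IsPrime]

theorem idealDepth_le_depth_localization (hIp : I ≤ p) :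
    idealDepth I M ≤ depth (Localization.AtPrime p) (LocalizedModule p.primeCompl M) := by
  by_cases hIM : I • (⊤ : Submodule R M) = ⊤
  · obtain ⟨r, hr1, hr0⟩ := Submodule.exists_sub_one_mem_and_smul_eq_zero_of_fg_of_le_smul I
      (⊤ : Submodule R M) Module.Finite.fg_top hIM.ge
    have hrp : r ∈ p.primeCompl := fun h => by
      refine Ideal.IsPrime.ne_top ‹_› ((Ideal.eq_top_iff_one p).mpr ?_)
      simpa using p.sub_mem h (hIp hr1)
    have : Subsingleton (LocalizedModule p.primeCompl M) :=
      LocalizedModule.subsingleton_iff.mpr fun m => ⟨r, hrp, hr0 m Submodule.mem_top⟩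
    refine le_of_le_of_eq le_top (idealDepth_eq_top ?_).symm
    exact Subsingleton.elim _ _
  · rw [idealDepth_eq_iSup hIM]
    refine iSup₂_le fun rs hrs => ?_
    have h := hrs.1.of_isLocalizedModule (Localization.AtPrime p) p.primeCompl
      (LocalizedModule.mkLinearMap p.primeCompl M)
    refine le_of_eq_of_le ?_ (length_le_idealDepth h ?_)
    · simp
    · intro r hr
      obtain ⟨a, ha, rfl⟩ := List.mem_map.mp hr
      exact (IsLocalization.AtPrime.to_map_mem_maximal_iff _ p _).mpr (hIp (hrs.2 a ha))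

/-- A maximal regular sequence with associated prime `p` on the quotient stays maximal at `p`. -/
theorem depth_localization_eq_length (rs : List R) (hreg : IsWeaklyRegular M rs)
    (hmem : ∀ r ∈ rs, r ∈ p)
    (hass : p ∈ associatedPrimes R (M ⧸ Ideal.ofList rs • (⊤ : Submodule R M))) :
    depth (Localization.AtPrime p) (LocalizedModule p.primeCompl M) = rs.length := by
  obtain ⟨-, x, hx⟩ := isAssociatedPrime_iff.mp hass
  obtain ⟨m, rfl⟩ := Submodule.Quotient.mk_surjective _ x
  have hcolon : ∀ a, a ∈ p ↔ a • m ∈ Ideal.ofList rs • (⊤ : Submodule R M) := fun a => by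
    rw [hx, Submodule.mem_colon_singleton, Submodule.mem_bot, ← Submodule.Quotient.mk_smul,
      Submodule.Quotient.mk_eq_zero]
  set f := LocalizedModule.mkLinearMap p.primeCompl M
  have hnot : f m ∉ Ideal.ofList rs • (⊤ : Submodule R (LocalizedModule p.primeCompl M)) := by
    intro h
    obtain ⟨s, hs, hsm⟩ := exists_smul_mem_of_map_mem_smul_top p.primeCompl f _ h
    exact hs ((hcolon s).mpr hsm)
  set S := Localization.AtPrime p
  set N := LocalizedModule p.primeCompl M
  have hmem' : ∀ r ∈ rs.map (algebraMap R S), r ∈ IsLocalRing.maximalIdeal S := by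
    intro r hr
    obtain ⟨a, ha, rfl⟩ := List.mem_map.mp hr
    exact (IsLocalization.AtPrime.to_map_mem_maximal_iff _ p _).mpr (hmem a ha)
  have hnt : Nontrivial N := ⟨⟨f m, 0, fun h => hnot (h ▸ zero_mem _)⟩⟩
  have hne : IsLocalRing.maximalIdeal S • (⊤ : Submodule S N) ≠ ⊤ :=
    (Submodule.top_ne_ideal_smul_of_le_jacobson_annihilator
      (IsLocalRing.maximalIdeal_le_jacobson _)).symm
  have := length_eq_idealDepth_of_maximal hne
    (hreg.of_isLocalizedModule S p.primeCompl f) hmem' ?_
  · simpa [depth] using this.symm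
  intro r hr h
  rw [isWeaklyRegular_append_iff, isWeaklyRegular_cons_iff] at h
  have hres : (Ideal.ofList (rs.map (algebraMap R S)) • (⊤ : Submodule S N)).restrictScalars R =
      Ideal.ofList rs • (⊤ : Submodule R N) := by
    rw [← Ideal.map_ofList, Ideal.smul_restrictScalars, Submodule.restrictScalars_top]
  obtain ⟨⟨a, s⟩, rfl⟩ := IsLocalization.mk'_surjective p.primeCompl r
  have ha : a ∈ p := by
    by_contra hna
    exact hr (IsLocalization.mk'_mem_iff.not.mpr (fun h' =>
      hna ((IsLocalization.AtPrime.to_map_mem_maximal_iff _ p _).mp h')) |> absurd hr)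
  have h1 : IsLocalization.mk' S a s • f m ∈
      Ideal.ofList (rs.map (algebraMap R S)) • (⊤ : Submodule S N) := by
    rw [IsLocalization.mk'_eq_mul_mk'_one, mul_comm, mul_smul]
    refine Submodule.smul_mem _ _ ?_
    rw [algebraMap_smul, ← Submodule.restrictScalars_mem R, hres, ← map_smul,
      ← Submodule.mem_comap]
    exact Submodule.smul_top_le_comap_smul_top _ _ ((hcolon a).mp ha)
  apply hnot
  rw [← hres, Submodule.restrictScalars_mem, ← Submodule.Quotient.mk_eq_zero]
  apply h.2.1
  simp only [smul_zero]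
  rw [← Submodule.Quotient.mk_smul, Submodule.Quotient.mk_eq_zero]
  exact h1

end AtPrime

section Inf

variable {R : Type u} [CommRing R] [IsNoetherianRing R] (I : Ideal R)
variable (M : Type u) [AddCommGroup M] [Module R M] [Module.Finite R M]

theorem exists_prime_depth_localization_eq (hIM : I • (⊤ : Submodule R M) ≠ ⊤) :
    ∃ p : Ideal R, ∃ _ : p.IsPrime, I ≤ p ∧
      depth (Localization.AtPrime p) (LocalizedModule p.primeCompl M) = idealDepth I M := by
  obtain ⟨rs, -, hreg, hmem, hmax⟩ := exists_maximal_extension hIM (IsWeaklyRegular.nil R M)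
    (by simp)
  rw [← length_eq_idealDepth_of_maximal hIM hreg hmem hmax]
  obtain ⟨p, hp, hle⟩ := exists_associatedPrime_ge_of_no_regular
    (M := M ⧸ Ideal.ofList rs • (⊤ : Submodule R M)) (I := I) fun x hx hx' => hmax x hx (by
      rw [isWeaklyRegular_append_iff]
      exact ⟨hreg, (isWeaklyRegular_cons_iff _ x []).mpr ⟨hx', IsWeaklyRegular.nil R _⟩⟩)
  have := hp.isPrime
  exact ⟨p, hp.isPrime, hle, depth_localization_eq_length p rs hreg (fun r hr => hle (hmem r hr)) hp⟩

theorem idealDepth_eq_iInf_depth_localization :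
    idealDepth I M = ⨅ (p : PrimeSpectrum R) (_ : I ≤ p.asIdeal),
      depth (Localization.AtPrime p.asIdeal) (LocalizedModule p.asIdeal.primeCompl M) := by
  refine le_antisymm (le_iInf₂ fun p hp => idealDepth_le_depth_localization p.asIdeal hp) ?_
  by_cases hIM : I • (⊤ : Submodule R M) = ⊤
  · simp [idealDepth_eq_top hIM]
  · obtain ⟨p, hp, hle, h⟩ := exists_prime_depth_localization_eq I M hIM
    exact iInf₂_le_of_le ⟨p, hp⟩ hle h.le

end Inf

section Dim

variable {R : Type u} [CommRing R] [IsNoetherianRing R] [IsLocalRing R]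

open IsLocalRing

theorem maximalIdeal_smul_top_ne_top {M : Type v} [AddCommGroup M] [Module R M]
    [Module.Finite R M] [Nontrivial M] : maximalIdeal R • (⊤ : Submodule R M) ≠ ⊤ :=
  (Submodule.top_ne_ideal_smul_of_le_jacobson_annihilator
    (IsLocalRing.maximalIdeal_le_jacobson _)).symm

/-- Lifting associated primes modulo a regular element. -/
theorem exists_associatedPrime_quotSMulTop {M : Type v} [AddCommGroup M] [Module R M]
    [Module.Finite R M] {x : R} (hx : x ∈ maximalIdeal R) (hreg : IsSMulRegular M x)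
    {p : Ideal R} (hp : p ∈ associatedPrimes R M) :
    ∃ q ∈ associatedPrimes R (QuotSMulTop x M), p ≤ q ∧ x ∈ q := by
  obtain ⟨hpp, m₀, hm₀⟩ := isAssociatedPrime_iff.mp hp
  set T := Submodule.torsionBySet R M (p : Set R)
  have hm₀T : m₀ ∈ T := by
    rw [Submodule.mem_torsionBySet_iff]
    intro a
    have := hm₀.le a.2
    rwa [Submodule.mem_colon_singleton, Submodule.mem_bot] at this
  have hT : T ≠ ⊥ := fun h => by
    refine hpp.ne_top ?_
    have : m₀ = 0 := (Submodule.eq_bot_iff _).mp h m₀ hm₀T
    rw [hm₀, this]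
    simp
  obtain ⟨m, hmT, hm⟩ : ∃ m ∈ T, m ∉ x • (⊤ : Submodule R M) := by
    by_contra h
    push Not at h
    apply hT
    refine Submodule.eq_bot_of_le_smul_of_le_jacobson_bot (Ideal.span {x}) T
      (IsNoetherian.noetherian T) ?_ ?_
    · intro m hm
      obtain ⟨m', -, rfl⟩ := h m hm
      rw [Submodule.ideal_span_singleton_smul]
      refine ⟨m', ?_, rfl⟩
      rw [SetLike.mem_coe, Submodule.mem_torsionBySet_iff]
      intro a
      apply hreg
      simp only [smul_zero]
      rw [smul_comm]
      exact (Submodule.mem_torsionBySet_iff _ _).mp hm a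
    · exact ((Ideal.span_singleton_le_iff_mem _).mpr hx).trans (IsLocalRing.maximalIdeal_le_jacobson _)
  obtain ⟨q, hq, hle⟩ := exists_le_isAssociatedPrime_of_isNoetherianRing R
    (Submodule.Quotient.mk (p := x • (⊤ : Submodule R M)) m)
    (by rwa [Ne, Submodule.Quotient.mk_eq_zero])
  refine ⟨q, hq, fun a ha => hle ?_, hle ?_⟩
  · rw [Submodule.mem_colon_singleton, Submodule.mem_bot, ← Submodule.Quotient.mk_smul,
      (Submodule.mem_torsionBySet_iff _ _).mp hmT ⟨a, ha⟩, Submodule.Quotient.mk_zero]
  · rw [Submodule.mem_colon_singleton, Submodule.mem_bot, ← Submodule.Quotient.mk_smul,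
      Submodule.Quotient.mk_eq_zero]
    exact Submodule.smul_mem_pointwise_smul m x ⊤ Submodule.mem_top

/-- `depth M ≤ dim R/p` for every associated prime `p` of `M`. -/
theorem depth_le_ringKrullDim_quotient_of_mem_associatedPrimes {M : Type u} [AddCommGroup M]
    [Module R M] [Module.Finite R M] {p : Ideal R} (hp : p ∈ associatedPrimes R M) :
    ((depth R M : ℕ∞) : WithBot ℕ∞) ≤ ringKrullDim (R ⧸ p) := by
  suffices H : ∀ n : ℕ, ∀ (M : Type u) [AddCommGroup M] [Module R M] [Module.Finite R M]
      (p : Ideal R), p ∈ associatedPrimes R M → (n : ℕ∞) ≤ depth R M →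
      (n : WithBot ℕ∞) ≤ ringKrullDim (R ⧸ p) by
    have : Nontrivial M := by
      by_contra hnt
      rw [not_nontrivial_iff_subsingleton] at hnt
      exact not_isAssociatedPrime_of_subsingleton hp
    obtain ⟨d, hd⟩ := ENat.ne_top_iff_exists.mp
      (idealDepth_ne_top (maximalIdeal_smul_top_ne_top (R := R) (M := M)))
    rw [show depth R M = (d : ℕ∞) from hd.symm]
    exact H d M p hp hd.le
  intro n
  induction n with
  | zero =>
    intro M _ _ _ p hp _
    have := Ideal.Quotient.nontrivial_iff.mpr hp.isPrime.ne_top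
    exact_mod_cast ringKrullDim_nonneg_of_nontrivial
  | succ n ih =>
    intro M _ _ _ p hp hn
    have : Nontrivial M := by
      by_contra hnt
      rw [not_nontrivial_iff_subsingleton] at hnt
      exact not_isAssociatedPrime_of_subsingleton hp
    obtain ⟨x, hx, hreg⟩ := (one_le_idealDepth_iff maximalIdeal_smul_top_ne_top).mp
      ((by exact_mod_cast (by omega : 1 ≤ n + 1) : (1 : ℕ∞) ≤ ((n + 1 : ℕ) : ℕ∞)).trans hn)
    obtain ⟨q, hq, hpq, hxq⟩ := exists_associatedPrime_quotSMulTop hx hreg hp
    have hxp : x ∉ p := fun h => not_isSMulRegular_of_mem_associatedPrimes hp h hreg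
    have h1 : (n : WithBot ℕ∞) ≤ ringKrullDim (R ⧸ q) := ih _ q hq (by
      refine (ENat.add_le_add_iff_right (k := (1 : ℕ∞)) (by simp)).mp ?_
      rw [depth, idealDepth_quotSMulTop_add_one hx hreg]
      exact_mod_cast hn)
    have hregp : IsSMulRegular (R ⧸ p) x := by
      intro a b hab
      obtain ⟨a, rfl⟩ := Ideal.Quotient.mk_surjective a
      obtain ⟨b, rfl⟩ := Ideal.Quotient.mk_surjective b
      simp only [Algebra.smul_def] at hab
      rw [Ideal.Quotient.algebraMap_eq, ← map_mul, ← map_mul,
        Ideal.Quotient.eq, ← mul_sub] at hab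
      exact Ideal.Quotient.eq.mpr ((hp.isPrime.mem_or_mem hab).resolve_left hxp)
    rw [← Module.supportDim_quotient_eq_ringKrullDim] at h1 ⊢
    rw [← Module.supportDim_quotSMulTop_succ_eq_supportDim hregp hx]
    push_cast
    gcongr
    refine h1.trans (Module.supportDim_le_of_surjective (Submodule.liftQ _ (Submodule.factor hpq) ?_) ?_)
    · intro z hz
      obtain ⟨z, -, rfl⟩ := hz
      obtain ⟨z, rfl⟩ := Submodule.Quotient.mk_surjective _ z
      simp only [LinearMap.mem_ker, DistribSMul.toLinearMap_apply, ← Submodule.Quotient.mk_smul]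
      exact (Submodule.Quotient.mk_eq_zero q).mpr (q.mul_mem_right z hxq)
    · intro z
      obtain ⟨z, rfl⟩ := Submodule.Quotient.mk_surjective _ z
      exact ⟨Submodule.Quotient.mk (Submodule.Quotient.mk z), rfl⟩

theorem depth_le_supportDim {M : Type u} [AddCommGroup M] [Module R M] [Module.Finite R M]
    [Nontrivial M] : ((depth R M : ℕ∞) : WithBot ℕ∞) ≤ Module.supportDim R M := by
  obtain ⟨p, hp⟩ := associatedPrimes.nonempty R M
  refine (depth_le_ringKrullDim_quotient_of_mem_associatedPrimes hp).trans ?_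
  obtain ⟨hpp, m, hm⟩ := isAssociatedPrime_iff.mp hp
  rw [← Module.supportDim_quotient_eq_ringKrullDim]
  refine Module.supportDim_le_of_injective
    (Submodule.liftQ p (LinearMap.toSpanSingleton R M m) ?_) ?_
  · intro a ha
    simpa [hm, Submodule.mem_colon_singleton] using ha
  · rw [← LinearMap.ker_eq_bot]
    apply Submodule.ker_liftQ_eq_bot
    intro a ha
    simpa [hm, Submodule.mem_colon_singleton] using ha

theorem isCohenMacaulayModule_iff {M : Type u} [AddCommGroup M] [Module R M] [Module.Finite R M]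
    [Nontrivial M] : IsCohenMacaulayModule R M ↔
      Module.supportDim R M ≤ ((depth R M : ℕ∞) : WithBot ℕ∞) :=
  ⟨fun h => h.le, fun h => le_antisymm h depth_le_supportDim⟩

end Dim

end Groth.Agent.H4Depth
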