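import Groth.Prelude.Def_CAlg
import Groth.Agent.H4Depth.ExtBasic
import Mathlib.RingTheory.Depth.Rees
import Mathlib.RingTheory.Regular.RegularSequence
import Mathlib.RingTheory.Nakayama
import Mathlib.RingTheory.Support

/-!
# Basic theory of `LocCoh.idealDepth` / `LocCoh.depth`
-/

universe u v w

open CategoryTheory Abelian RingTheory.Sequence Pointwise

namespace Groth.Agent.H4Depth

open LocCoh

section General

variable {R : Type u} [CommRing R] {I : Ideal R} {M : Type v} [AddCommGroup M] [Module R M]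

theorem idealDepth_eq_top (h : I • (⊤ : Submodule R M) = ⊤) : idealDepth I M = ⊤ := by
  rw [idealDepth, if_pos h]

theorem idealDepth_eq_iSup (h : I • (⊤ : Submodule R M) ≠ ⊤) :
    idealDepth I M = ⨆ (rs : List R) (_ : IsWeaklyRegular M rs ∧ ∀ r ∈ rs, r ∈ I),
      (rs.length : ℕ∞) := by
  rw [idealDepth, if_neg h]

theorem length_le_idealDepth {rs : List R} (hreg : IsWeaklyRegular M rs)
    (hmem : ∀ r ∈ rs, r ∈ I) : (rs.length : ℕ∞) ≤ idealDepth I M := by
  by_cases h : I • (⊤ : Submodule R M) = ⊤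
  · simp [idealDepth_eq_top h]
  · rw [idealDepth_eq_iSup h]
    exact le_iSup₂_of_le rs ⟨hreg, hmem⟩ le_rfl

theorem isWeaklyRegular_of_prefix {rs rs' : List R} (h : rs <+: rs')
    (hreg : IsWeaklyRegular M rs') : IsWeaklyRegular M rs := by
  obtain ⟨t, rfl⟩ := h
  exact ((isWeaklyRegular_append_iff M rs t).mp hreg).1

theorem exists_isWeaklyRegular_of_le_idealDepth (hIM : I • (⊤ : Submodule R M) ≠ ⊤) {n : ℕ}
    (h : (n : ℕ∞) ≤ idealDepth I M) :
    ∃ rs : List R, rs.length = n ∧ (∀ r ∈ rs, r ∈ I) ∧ IsWeaklyRegular M rs := by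
  cases n with
  | zero => exact ⟨[], rfl, by simp, IsWeaklyRegular.nil R M⟩
  | succ n =>
    have hlt : ((n : ℕ) : ℕ∞) < idealDepth I M :=
      lt_of_lt_of_le (by exact_mod_cast Nat.lt_succ_self n) h
    rw [idealDepth_eq_iSup hIM] at hlt
    simp only [lt_iSup_iff] at hlt
    obtain ⟨rs, ⟨hreg, hmem⟩, hlen⟩ := hlt
    have hlen' : n < rs.length := by exact_mod_cast hlen
    refine ⟨rs.take (n + 1), by simp; omega, fun r hr => hmem r (List.mem_of_mem_take hr), ?_⟩
    exact isWeaklyRegular_of_prefix (List.take_prefix _ _) hreg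

theorem le_idealDepth_iff_exists (hIM : I • (⊤ : Submodule R M) ≠ ⊤) {n : ℕ} :
    (n : ℕ∞) ≤ idealDepth I M ↔
      ∃ rs : List R, rs.length = n ∧ (∀ r ∈ rs, r ∈ I) ∧ IsWeaklyRegular M rs := by
  refine ⟨exists_isWeaklyRegular_of_le_idealDepth hIM, ?_⟩
  rintro ⟨rs, rfl, hmem, hreg⟩
  exact length_le_idealDepth hreg hmem

theorem ofList_smul_top_ne_top (hIM : I • (⊤ : Submodule R M) ≠ ⊤) {rs : List R}
    (hmem : ∀ r ∈ rs, r ∈ I) : (⊤ : Submodule R M) ≠ Ideal.ofList rs • (⊤ : Submodule R M) := by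
  intro h
  refine hIM (top_le_iff.mp (h.trans_le ?_))
  exact Submodule.smul_mono_left (Ideal.span_le.mpr fun r hr => hmem r hr)

theorem isRegular_of_mem (hIM : I • (⊤ : Submodule R M) ≠ ⊤) {rs : List R}
    (hmem : ∀ r ∈ rs, r ∈ I) (hreg : IsWeaklyRegular M rs) : IsRegular M rs :=
  ⟨hreg, ofList_smul_top_ne_top hIM hmem⟩

theorem smul_top_eq_top_iff_of_equiv {M' : Type w} [AddCommGroup M'] [Module R M'] (I : Ideal R)
    (e : M ≃ₗ[R] M') : I • (⊤ : Submodule R M) = ⊤ ↔ I • (⊤ : Submodule R M') = ⊤ := by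
  have : (I • (⊤ : Submodule R M)).map e.toLinearMap = I • (⊤ : Submodule R M') := by
    rw [Submodule.map_smul'', Submodule.map_top, LinearMap.range_eq_top.mpr e.surjective]
  rw [← this]
  constructor
  · intro h; rw [h, Submodule.map_top, LinearMap.range_eq_top.mpr e.surjective]
  · intro h
    refine (Submodule.map_injective_of_injective e.injective) ?_
    rw [h, Submodule.map_top, LinearMap.range_eq_top.mpr e.surjective]

theorem idealDepth_congr {M' : Type w} [AddCommGroup M'] [Module R M'] (I : Ideal R)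
    (e : M ≃ₗ[R] M') : idealDepth I M = idealDepth I M' := by
  by_cases h : I • (⊤ : Submodule R M) = ⊤
  · rw [idealDepth_eq_top h, idealDepth_eq_top ((smul_top_eq_top_iff_of_equiv I e).mp h)]
  · rw [idealDepth_eq_iSup h,
      idealDepth_eq_iSup (mt (smul_top_eq_top_iff_of_equiv I e).mpr h)]
    simp only [LinearEquiv.isWeaklyRegular_congr e]

theorem depth_congr [IsLocalRing R] {M' : Type w} [AddCommGroup M'] [Module R M']
    (e : M ≃ₗ[R] M') : depth R M = depth R M' :=
  idealDepth_congr _ e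

theorem idealDepth_mono {J : Ideal R} (hIJ : I ≤ J) : idealDepth I M ≤ idealDepth J M := by
  by_cases hJ : J • (⊤ : Submodule R M) = ⊤
  · simp [idealDepth_eq_top hJ]
  · have hI : I • (⊤ : Submodule R M) ≠ ⊤ := fun h => hJ (top_le_iff.mp
      (h.symm.trans_le (Submodule.smul_mono_left hIJ)))
    rw [idealDepth_eq_iSup hI]
    exact iSup₂_le fun rs hrs => length_le_idealDepth hrs.1 fun r hr => hIJ (hrs.2 r hr)

end General

section Ext

variable {R : Type u} [CommRing R] [IsNoetherianRing R]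
variable {I : Ideal R} {M : Type u} [AddCommGroup M] [Module R M] [Module.Finite R M]

/-- A finite module killed by `I` in the sense `IM = M` has `Ext(N, M) = 0` for `Supp N ⊆ V(I)`. -/
theorem subsingleton_ext_of_smul_top_eq_top (hIM : I • (⊤ : Submodule R M) = ⊤)
    (N : ModuleCat.{u} R) [Module.Finite R N]
    (hN : Module.support R N ⊆ PrimeSpectrum.zeroLocus I) (i : ℕ) :
    Subsingleton (Ext N (ModuleCat.of R M) i) := by
  apply subsingleton_ext_of_annihilator_sup_eq_top
  by_contra hne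
  obtain ⟨p, hp, hle⟩ := Ideal.exists_le_maximal _ hne
  have hpI : I ≤ p := by
    rw [Module.support_eq_zeroLocus, PrimeSpectrum.zeroLocus_subset_zeroLocus_iff] at hN
    exact hN.trans (hp.isPrime.radical_le_iff.mpr (le_sup_left.trans hle))
  obtain ⟨r, hr1, hr0⟩ := Submodule.exists_sub_one_mem_and_smul_eq_zero_of_fg_of_le_smul I
    (⊤ : Submodule R M) Module.Finite.fg_top hIM.ge
  have hrann : r ∈ Module.annihilator R M :=
    Module.mem_annihilator.mpr fun m => hr0 m Submodule.mem_top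
  refine hp.ne_top ((Ideal.eq_top_iff_one p).mpr ?_)
  simpa using p.sub_mem (le_sup_right.trans hle hrann) (hpI hr1)

/-- Rees: vanishing of `Ext` below the depth, for any finite `N` supported in `V(I)`. -/
theorem subsingleton_ext_of_lt_idealDepth (N : ModuleCat.{u} R) [Module.Finite R N]
    (hN : Module.support R N ⊆ PrimeSpectrum.zeroLocus I) (i : ℕ)
    (hi : (i : ℕ∞) < idealDepth I M) : Subsingleton (Ext N (ModuleCat.of R M) i) := by
  by_cases hIM : I • (⊤ : Submodule R M) = ⊤
  · exact subsingleton_ext_of_smul_top_eq_top hIM N hN i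
  · have h1 : ((i + 1 : ℕ) : ℕ∞) ≤ idealDepth I M := by
      push_cast
      exact Order.add_one_le_of_lt hi
    obtain ⟨rs, hlen, hmem, hreg⟩ := exists_isWeaklyRegular_of_le_idealDepth hIM h1
    exact ModuleCat.subsingleton_ext_of_exists_isRegular I N hN (ModuleCat.of R M)
      (lt_top_iff_ne_top.mpr hIM) rs hmem (isRegular_of_mem hIM hmem hreg) i (by omega)

/-- Rees: a lower bound on depth from vanishing of `Ext(N, M)` for one `N` with `Supp N = V(I)`. -/
theorem le_idealDepth_of_subsingleton_ext (N : ModuleCat.{u} R) [Module.Finite R N]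
    (hN : Module.support R N = PrimeSpectrum.zeroLocus I) (n : ℕ)
    (h : ∀ i < n, Subsingleton (Ext N (ModuleCat.of R M) i)) :
    (n : ℕ∞) ≤ idealDepth I M := by
  by_cases hIM : I • (⊤ : Submodule R M) = ⊤
  · simp [idealDepth_eq_top hIM]
  · obtain ⟨rs, hlen, hmem, hreg⟩ := ModuleCat.exists_isRegular_of_exists_subsingleton_ext I n
      (ModuleCat.of R M) (lt_top_iff_ne_top.mpr hIM) N hN h
    exact hlen ▸ length_le_idealDepth hreg.toIsWeaklyRegular hmem

theorem support_quotient_eq (I : Ideal R) :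
    Module.support R (R ⧸ I) = PrimeSpectrum.zeroLocus I := by
  rw [Module.support_eq_zeroLocus, Ideal.annihilator_quotient]

theorem le_idealDepth_iff_ext {n : ℕ} :
    (n : ℕ∞) ≤ idealDepth I M ↔
      ∀ i < n, Subsingleton (Ext (ModuleCat.of R (R ⧸ I)) (ModuleCat.of R M) i) := by
  refine ⟨fun h i hi => ?_, fun h => ?_⟩
  · exact subsingleton_ext_of_lt_idealDepth _ (support_quotient_eq I).subset i
      (lt_of_lt_of_le (by exact_mod_cast hi) h)
  · exact le_idealDepth_of_subsingleton_ext (ModuleCat.of R (R ⧸ I)) (support_quotient_eq I) n h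

theorem idealDepth_eq_top_iff : idealDepth I M = ⊤ ↔
    ∀ i, Subsingleton (Ext (ModuleCat.of R (R ⧸ I)) (ModuleCat.of R M) i) := by
  refine ⟨fun h i => (le_idealDepth_iff_ext (n := i + 1)).mp (by rw [h]; exact le_top) i (Nat.lt_succ_self i),
    fun h => ?_⟩
  exact ENat.eq_top_iff_forall_ge.mpr fun n => le_idealDepth_iff_ext.mpr fun i _ => h i

theorem idealDepth_eq_natCast_iff_ext {n : ℕ} : idealDepth I M = n ↔
    (∀ i < n, Subsingleton (Ext (ModuleCat.of R (R ⧸ I)) (ModuleCat.of R M) i)) ∧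
      Nontrivial (Ext (ModuleCat.of R (R ⧸ I)) (ModuleCat.of R M) n) := by
  refine ⟨fun h => ⟨le_idealDepth_iff_ext.mp h.ge, ?_⟩, fun ⟨h1, h2⟩ => ?_⟩
  · by_contra hnt
    rw [not_nontrivial_iff_subsingleton] at hnt
    have : ((n + 1 : ℕ) : ℕ∞) ≤ idealDepth I M := le_idealDepth_iff_ext.mpr fun i hi => by
      rcases Nat.lt_succ_iff_lt_or_eq.mp hi with h' | rfl
      · exact le_idealDepth_iff_ext.mp h.ge i h'
      · exact hnt
    rw [h] at this
    exact absurd (Nat.cast_le.mp this) (by omega)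
  · refine le_antisymm ?_ (le_idealDepth_iff_ext.mpr h1)
    by_contra hlt
    have := subsingleton_ext_of_lt_idealDepth (ModuleCat.of R (R ⧸ I))
      (support_quotient_eq I).subset n (M := M) (not_le.mp hlt)
    exact not_subsingleton _ this

end Ext

end Groth.Agent.H4Depth
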