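import Mathlib.RingTheory.Ideal.KrullsHeightTheorem
import Mathlib.RingTheory.Nilpotent.Lemmas

/-!
# Few elements cutting out an ideal in small height
-/

set_option autoImplicit false

universe u

namespace Groth.Agent.H4Depth

theorem exists_fin_of_height_lt {R : Type u} [CommRing R] [IsNoetherianRing R] (I : Ideal R) :
    ∀ r : ℕ, ∃ f : Fin r → R, (∀ i, f i ∈ I) ∧
      ∀ (p : Ideal R) [p.IsPrime], p.height < r → (I ≤ p ↔ Ideal.span (Set.range f) ≤ p) := by
  intro r
  induction r with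
  | zero => exact ⟨Fin.elim0, fun i => i.elim0, fun p _ h => absurd h (by simp)⟩
  | succ r ih =>
    obtain ⟨f, hfI, hf⟩ := ih
    let J := Ideal.span (Set.range f)
    have hfin : {P ∈ J.minimalPrimes | ¬ I ≤ P}.Finite :=
      (Ideal.finite_minimalPrimes_of_isNoetherianRing R J).subset fun P hP => hP.1
    obtain ⟨x, hxI, hx⟩ := Set.not_subset.1 (show ¬ (I : Set R) ⊆
        ⋃ P ∈ {P ∈ J.minimalPrimes | ¬ I ≤ P}, (P : Set R) from fun hsub => by
      obtain ⟨P, hP, hle⟩ := (Ideal.subset_union_prime_finite hfin ⊥ ⊥ fun P hP _ _ => hP.1.1.1).1 hsub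
      exact hP.2 hle)
    simp only [Set.mem_iUnion, not_exists] at hx
    refine ⟨Fin.snoc f x, Fin.lastCases (by simpa) (by simpa using hfI), fun p _ hp => ⟨fun h => ?_, fun h => ?_⟩⟩
    · refine Ideal.span_le.2 (Set.range_subset_iff.2 (Fin.lastCases ?_ fun i => ?_))
      · simpa using h hxI
      · simpa using h (hfI i)
    · by_contra hIp
      have hJp : J ≤ p := Ideal.span_le.2 (Set.range_subset_iff.2 fun i =>
        h (Ideal.subset_span ⟨i.castSucc, by simp⟩))
      obtain ⟨P, hP, hPp⟩ := Ideal.exists_minimalPrimes_le hJp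
      have := hP.1.1
      have hIP : ¬ I ≤ P := fun h' => hIp (h'.trans hPp)
      have hlt : P < p := lt_of_le_of_ne hPp fun he =>
        hx P ⟨hP, hIP⟩ (he ▸ h (Ideal.subset_span ⟨Fin.last r, by simp⟩))
      have h1 : P.height < p.height := Ideal.height_strict_mono_of_isPrime hlt
      exact hIP ((hf P (lt_of_lt_of_le h1 (Order.le_of_lt_add_one (by exact_mod_cast hp)))).2 hP.1.2)

theorem radical_eq_of_forall_prime {R : Type u} [CommRing R] {I J : Ideal R}
    (h : ∀ p : Ideal R, p.IsPrime → (I ≤ p ↔ J ≤ p)) : I.radical = J.radical := by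
  rw [Ideal.radical_eq_sInf, Ideal.radical_eq_sInf]
  exact congrArg sInf (Set.ext fun p => ⟨fun hp => ⟨(h p hp.2).1 hp.1, hp.2⟩,
    fun hp => ⟨(h p hp.2).2 hp.1, hp.2⟩⟩)

end Groth.Agent.H4Depth
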