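import Groth.Agent.H4Depth.DepthHom
import Mathlib.RingTheory.TensorProduct.IsBaseChangePi
import Mathlib.RingTheory.Localization.Module

/-!
# Serre's conditions for free modules
-/

universe u

namespace Groth.Agent.H4Depth

open LocCoh

variable {R : Type u} [CommRing R] [IsNoetherianRing R]

theorem exists_localizedModule_pi_equiv (p : Ideal R) [p.IsPrime] (n : ℕ) :
    Nonempty (LocalizedModule p.primeCompl (Fin n → R) ≃ₗ[Localization.AtPrime p]
      (Fin n → LocalizedModule p.primeCompl R)) :=
  ⟨LinearEquiv.extendScalarsOfIsLocalization p.primeCompl _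
    (IsLocalizedModule.linearEquiv p.primeCompl (LocalizedModule.mkLinearMap p.primeCompl (Fin n → R))
      (LinearMap.pi fun i => LocalizedModule.mkLinearMap p.primeCompl R ∘ₗ LinearMap.proj i))⟩

theorem exists_localizedModule_self_equiv (p : Ideal R) [p.IsPrime] :
    Nonempty (LocalizedModule p.primeCompl R ≃ₗ[Localization.AtPrime p] Localization.AtPrime p) :=
  ⟨LinearEquiv.extendScalarsOfIsLocalization p.primeCompl _
    (IsLocalizedModule.linearEquiv p.primeCompl (LocalizedModule.mkLinearMap p.primeCompl R)
      (Algebra.linearMap R (Localization.AtPrime p)))⟩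

theorem hasSk_pi {k : ℕ} (h : HasSk k R R) (n : ℕ) : HasSk k R (Fin n → R) := by
  intro p _
  obtain ⟨e⟩ := exists_localizedModule_pi_equiv p n
  obtain ⟨e1⟩ := exists_localizedModule_self_equiv p
  let e2 : LocalizedModule p.primeCompl (Fin n → R) ≃ₗ[Localization.AtPrime p]
      (Fin n → Localization.AtPrime p) := e.trans (LinearEquiv.piCongrRight fun _ => e1)
  rw [depth_congr e2]
  refine le_trans ?_ (WithBot.coe_le_coe.mpr (idealDepth_le_idealDepth_pi _ n))
  refine le_trans ?_ ((h p).trans (WithBot.coe_le_coe.mpr (depth_congr e1).le))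
  refine min_le_min le_rfl ?_
  rw [Module.supportDim_eq_of_equiv e1, Module.supportDim_self_eq_ringKrullDim]
  exact Module.supportDim_le_ringKrullDim _ _

omit [IsNoetherianRing R] in
theorem hasSk_mono {j k : ℕ} (hjk : j ≤ k) {M : Type u} [AddCommGroup M] [Module R M]
    (h : HasSk k R M) : HasSk j R M := fun p _ =>
  le_trans (min_le_min (by exact_mod_cast hjk) le_rfl) (h p)

omit [IsNoetherianRing R] in
theorem hasSk_of_bijective {k : ℕ} {M N : Type u} [AddCommGroup M] [Module R M] [AddCommGroup N]
    [Module R N] {f : N →ₗ[R] M} (hf : Function.Bijective f) (h : HasSk k R M) : HasSk k R N := by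
  intro p _
  have e : LocalizedModule p.primeCompl N ≃ₗ[Localization.AtPrime p]
      LocalizedModule p.primeCompl M :=
    LinearEquiv.ofBijective (LocalizedModule.map p.primeCompl f)
      ⟨LocalizedModule.map_injective p.primeCompl f hf.1,
        LocalizedModule.map_surjective p.primeCompl f hf.2⟩
  rw [depth_congr e, Module.supportDim_eq_of_equiv e]
  exact h p

omit [IsNoetherianRing R] in
theorem support_subset_pi (M : Type u) [AddCommGroup M] [Module R M] {n : ℕ} (hn : 0 < n) :
    Module.support R M ⊆ Module.support R (Fin n → R) := by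
  intro p _
  rw [Module.mem_support_iff']
  refine ⟨Pi.single ⟨0, hn⟩ 1, fun r hr h => hr ?_⟩
  have : r = 0 := by simpa using congrFun h ⟨0, hn⟩
  rw [this]
  exact zero_mem _

end Groth.Agent.H4Depth
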