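import Groth.Agent.H8Props.FlatDepth
import Groth.Agent.H05EGA4.FlatSk
import Groth.Agent.H4Depth.SkFree
import Groth.Prelude.Def_EGA4b

/-!
# Depth of a flat module from the depth of its fibres
-/

set_option autoImplicit false
set_option linter.style.haveILetI false
set_option linter.unusedSectionVars false

universe u

open TensorProduct IsLocalRing LocCoh

namespace Groth.Agent.H4Depth

variable {A B : Type u} [CommRing A] [CommRing B] [IsNoetherianRing A] [IsNoetherianRing B] [Algebra A B]

theorem map_map_eq_map_maximal (q : Ideal B) [q.IsPrime] :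
    q.map (algebraMap B (EGA4.FibLocRing A B q)) =
      (maximalIdeal (Localization.AtPrime q)).map (algebraMap (Localization.AtPrime q) (EGA4.FibLocRing A B q)) := by
  rw [← Localization.AtPrime.map_eq_maximalIdeal, Ideal.map_map, ← IsScalarTower.algebraMap_eq]

theorem le_depth_of_fibre_ring [Module.Flat A B] (q : Ideal B) [q.IsPrime] {k : ℕ∞}
    (h : k ≤ idealDepth (q.map (algebraMap B (EGA4.FibLocRing A B q))) (EGA4.FibLocRing A B q)) :
    k ≤ depth (Localization.AtPrime q) (Localization.AtPrime q) := by
  rw [map_map_eq_map_maximal, H8Props.FlatDepth.idealDepth_map_of_surjective Ideal.Quotient.mk_surjective] at h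
  set s := q.comap (algebraMap A B) with hs
  haveI : q.LiesOver s := ⟨rfl⟩
  letI := Localization.AtPrime.algebraOfLiesOver s q
  haveI : IsLocalHom (algebraMap (Localization.AtPrime s) (Localization.AtPrime q)) := by
    rw [Localization.AtPrime.IsLiesOverAlgebra.algebraMap_eq]
    infer_instance
  haveI : Module.Flat (Localization.AtPrime s) (Localization.AtPrime q) := by
    haveI : Module.Flat B (Localization.AtPrime q) := IsLocalization.flat _ q.primeCompl
    haveI : Module.Flat A (Localization.AtPrime q) := Module.Flat.trans A B _
    exact (Module.flat_iff_of_isLocalization (Localization.AtPrime s) s.primeCompl _).mpr inferInstance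
  have heq : (maximalIdeal (Localization.AtPrime s)).map (algebraMap (Localization.AtPrime s) (Localization.AtPrime q)) =
      s.map (algebraMap A (Localization.AtPrime q)) := by
    rw [← Localization.AtPrime.map_eq_maximalIdeal, Ideal.map_map, ← IsScalarTower.algebraMap_eq]
  rw [H8Props.FlatDepth.depth_eq_add (Localization.AtPrime s) (Localization.AtPrime q),
    H8Props.FlatDepth.depth_eq_of_surjective (R := Localization.AtPrime q)
      (S := Localization.AtPrime q ⧸ (maximalIdeal (Localization.AtPrime s)).map
        (algebraMap (Localization.AtPrime s) (Localization.AtPrime q)))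
      (M := Localization.AtPrime q ⧸ (maximalIdeal (Localization.AtPrime s)).map
        (algebraMap (Localization.AtPrime s) (Localization.AtPrime q))) Ideal.Quotient.mk_surjective,
    depth_congr (Submodule.quotEquivOfEq _ _ heq)]
  exact h.trans le_add_self

theorem le_depth_of_fibre (E : Type u) [AddCommGroup E] [Module B E] [Module A E] [IsScalarTower A B E]
    [Module.Finite B E] [Module.Flat A E] (q : Ideal B) [q.IsPrime] {k : ℕ∞}
    (h : k ≤ idealDepth (q.map (algebraMap B (EGA4.FibLocRing A B q))) (EGA4.FibLocMod A B q E)) :
    k ≤ depth (Localization.AtPrime q) (LocalizedModule q.primeCompl E) := by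
  rcases subsingleton_or_nontrivial (LocalizedModule q.primeCompl E) with hE | hE
  · exact le_of_le_of_eq le_top (idealDepth_eq_top (Subsingleton.elim _ _)).symm
  rw [map_map_eq_map_maximal, H8Props.FlatDepth.idealDepth_map_of_surjective Ideal.Quotient.mk_surjective] at h
  have hd := (H05EGA4.FlatSk.formulas (A := A) E A q (Module.mem_support_iff.mpr hE)).1
  let e : LocalizedModule q.primeCompl (E ⊗[A] A) ≃ₗ[Localization.AtPrime q] LocalizedModule q.primeCompl E :=
    (IsLocalizedModule.mapEquiv q.primeCompl (LocalizedModule.mkLinearMap q.primeCompl (E ⊗[A] A))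
      (LocalizedModule.mkLinearMap q.primeCompl E) (Localization.AtPrime q) (AlgebraTensorModule.rid A B E))
  rw [depth_congr e] at hd
  refine h.trans ?_
  rw [show depth (Localization.AtPrime q) (LocalizedModule q.primeCompl E) = _ from WithBot.coe_inj.mp
    (hd.trans (WithBot.coe_add _ _).symm)]
  exact le_add_self

theorem le_idealDepth_of_forall {k : ℕ∞} (J : Ideal B) (E : Type u) [AddCommGroup E] [Module B E] [Module.Finite B E]
    (h : ∀ q : PrimeSpectrum B, J ≤ q.asIdeal →
      k ≤ depth (Localization.AtPrime q.asIdeal) (LocalizedModule q.asIdeal.primeCompl E)) : k ≤ idealDepth J E := by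
  rw [idealDepth_eq_iInf_depth_localization]
  exact le_iInf₂ h

theorem le_idealDepth_self_of_fibre [Module.Flat A B] {k : ℕ∞} (J : Ideal B)
    (h : ∀ q : PrimeSpectrum B, J ≤ q.asIdeal →
      k ≤ idealDepth (q.asIdeal.map (algebraMap B (EGA4.FibLocRing A B q.asIdeal))) (EGA4.FibLocRing A B q.asIdeal)) :
    k ≤ idealDepth J B := le_idealDepth_of_forall J B fun q hq => by
  obtain ⟨e1⟩ := exists_localizedModule_self_equiv q.asIdeal
  rw [depth_congr e1]
  exact le_depth_of_fibre_ring q.asIdeal (h q hq)

end Groth.Agent.H4Depth
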