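import Groth.Agent.H4Depth.FlatOff
import Groth.Agent.H4Depth.FibreDepth

/-!
# Connectedness in depth two (Hartshorne)
-/

set_option autoImplicit false
set_option linter.style.haveILetI false

universe u

open RingTheory.Sequence

namespace Groth.Agent.H4Depth

variable {A : Type u} [CommRing A] [IsNoetherianRing A]

theorem idempotent_trivial_of_connected [ConnectedSpace (PrimeSpectrum A)] (e : A) (he : IsIdempotentElem e) :
    e = 0 ∨ e = 1 := by
  have hc : IsClopen (PrimeSpectrum.basicOpen e : Set (PrimeSpectrum A)) :=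
    PrimeSpectrum.isClopen_basicOpen_of_mul_add e (1 - e) (by rw [mul_sub, mul_one, he.eq, sub_self]) (by ring)
  rcases isClopen_iff.1 hc with h | h
  · left
    have hn : IsNilpotent e := (PrimeSpectrum.basicOpen_eq_bot_iff e).1 (SetLike.coe_injective (h.trans rfl))
    obtain ⟨k, hk⟩ := hn
    rcases k with _ | k
    · rw [pow_zero] at hk; exact eq_zero_of_zero_eq_one hk.symm _
    · rwa [he.pow_succ_eq] at hk
  · right
    have hu : IsUnit e := by
      by_contra hu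
      obtain ⟨m, hm, hem⟩ := exists_max_ideal_of_mem_nonunits hu
      have : (⟨m, hm.isPrime⟩ : PrimeSpectrum A) ∈ (PrimeSpectrum.basicOpen e : Set (PrimeSpectrum A)) := h ▸ Set.mem_univ _
      exact this hem
    exact (IsIdempotentElem.iff_eq_one_of_isUnit hu).1 he

omit [IsNoetherianRing A] in
theorem idempotent_trivial_of_isLocalRing [IsLocalRing A] (e : A) (he : IsIdempotentElem e) : e = 0 ∨ e = 1 := by
  rcases IsLocalRing.isUnit_or_isUnit_one_sub_self e with hu | hu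
  · exact Or.inr ((IsIdempotentElem.iff_eq_one_of_isUnit hu).1 he)
  · have h1 := (IsIdempotentElem.iff_eq_one_of_isUnit hu).1 he.one_sub
    exact Or.inl (by linear_combination -h1)

theorem exists_regular_two {I : Ideal A} (h : 2 ≤ LocCoh.idealDepth I A) :
    ∃ x ∈ I, IsSMulRegular A x ∧ ∀ (K : ℕ) (z : A), (∀ y ∈ I ^ K, ∃ c, y * z = x * c) → ∃ c, z = x * c := by
  by_cases hI : I • (⊤ : Submodule A A) = ⊤
  · refine ⟨1, ?_, IsSMulRegular.one A, fun K z _ => ⟨z, (one_mul z).symm⟩⟩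
    rw [Ideal.smul_eq_mul, Ideal.mul_top] at hI
    rw [hI]; trivial
  · obtain ⟨rs, hlen, hmem, hreg⟩ := exists_isWeaklyRegular_of_le_idealDepth hI (n := 2) (by exact_mod_cast h)
    obtain ⟨x, y, rfl⟩ := List.length_eq_two.1 hlen
    rw [isWeaklyRegular_cons_iff, isWeaklyRegular_cons_iff] at hreg
    refine ⟨x, hmem _ (by simp), hreg.1, fun K z hz => ?_⟩
    obtain ⟨c, hc⟩ := hz (y ^ K) (Ideal.pow_mem_pow (hmem _ (by simp)) K)
    have h0 : (Submodule.Quotient.mk (y ^ K • z) : QuotSMulTop x A) = y ^ K • (0 : QuotSMulTop x A) := by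
      rw [smul_zero, Submodule.Quotient.mk_eq_zero, Submodule.mem_smul_pointwise_iff_exists]
      exact ⟨c, trivial, hc.symm⟩
    have h1 : (Submodule.Quotient.mk z : QuotSMulTop x A) = 0 := (hreg.2.1.pow K) (by
      show y ^ K • (Submodule.Quotient.mk z : QuotSMulTop x A) = y ^ K • (0 : QuotSMulTop x A)
      rw [← Submodule.Quotient.mk_smul]
      exact h0)
    rw [Submodule.Quotient.mk_eq_zero, Submodule.mem_smul_pointwise_iff_exists] at h1
    obtain ⟨d, -, hd⟩ := h1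
    exact ⟨d, hd.symm⟩

/-- Hartshorne's connectedness theorem, algebraic form. -/
theorem le_radical_of_two_le_idealDepth (I a b : Ideal A) (hid : ∀ e : A, IsIdempotentElem e → e = 0 ∨ e = 1)
    (hd : 2 ≤ LocCoh.idealDepth I A) (hab : a * b ≤ nilradical A) (hI : I ≤ (a ⊔ b).radical) :
    I ≤ a.radical ∨ I ≤ b.radical := by
  obtain ⟨N, hN⟩ := IsNoetherianRing.isNilpotent_nilradical A
  rcases Nat.eq_zero_or_pos N with rfl | hN0
  · have hA : (⊤ : Ideal A) = ⊥ := by simpa using hN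
    exact Or.inl fun y _ => ⟨1, by
      have : (y ^ 1) ∈ (⊥ : Ideal A) := hA ▸ trivial
      rw [(Submodule.mem_bot A).1 this]
      exact zero_mem _⟩
  have hprod : a ^ N * b ^ N = ⊥ := by
    rw [← mul_pow, eq_bot_iff]
    exact (Ideal.pow_right_mono hab N).trans hN.le
  have hrad : I ≤ (a ^ N ⊔ b ^ N).radical := fun y hy => by
    have h1 := hI hy
    rw [Ideal.radical_sup] at h1 ⊢
    rwa [Ideal.radical_pow _ hN0.ne', Ideal.radical_pow _ hN0.ne']
  obtain ⟨k, hk⟩ := Ideal.exists_pow_le_of_le_radical_of_fg hrad (IsNoetherian.noetherian I)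
  obtain ⟨x₀, hx₀I, hx₀, hx₀2⟩ := exists_regular_two hd
  have hx : IsSMulRegular A (x₀ ^ k) := hx₀.pow k
  have hdiv : ∀ (j K : ℕ) (z : A), (∀ y ∈ I ^ K, ∃ c, y * z = x₀ ^ j * c) → ∃ c, z = x₀ ^ j * c := by
    intro j K
    induction j with
    | zero => exact fun z _ => ⟨z, by rw [pow_zero, one_mul]⟩
    | succ j ih =>
      intro z hz
      obtain ⟨z', rfl⟩ := hx₀2 K z fun y hy => by
        obtain ⟨c, hc⟩ := hz y hy
        exact ⟨x₀ ^ j * c, by rw [hc, pow_succ]; ring⟩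
      obtain ⟨c, hc⟩ := ih z' fun y hy => by
        obtain ⟨c, hc⟩ := hz y hy
        exact ⟨c, hx₀ (show x₀ • (y * z') = x₀ • (x₀ ^ j * c) by
          rw [smul_eq_mul, smul_eq_mul]; linear_combination hc)⟩
      exact ⟨c, by rw [hc, pow_succ]; ring⟩
  obtain ⟨s, hs, t, ht, hst⟩ := Submodule.mem_sup.1 (hk (Ideal.pow_mem_pow hx₀I k))
  have hst0 : ∀ p ∈ a ^ N, ∀ q ∈ b ^ N, p * q = 0 := fun p hp q hq =>
    (Submodule.mem_bot A).1 (hprod ▸ Ideal.mul_mem_mul hp hq)
  obtain ⟨r, hr⟩ := hdiv k k s fun y hy => by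
    obtain ⟨a', ha', b', hb', rfl⟩ := Submodule.mem_sup.1 (hk hy)
    refine ⟨a', ?_⟩
    have h1 := hst0 a' ha' t ht
    have h2 := hst0 s hs b' hb'
    linear_combination a' * hst - h1 + h2
  have hr0 : r * (1 - r) = 0 := by
    have h1 := hst0 s hs t ht
    refine hx (hx (show x₀ ^ k • x₀ ^ k • (r * (1 - r)) = x₀ ^ k • x₀ ^ k • (0 : A) from ?_))
    simp only [smul_eq_mul, mul_zero]
    linear_combination h1 + (-t) * hr + (-(x₀ ^ k * r)) * hst + (x₀ ^ k * r) * hr
  rcases hid r (by rw [IsIdempotentElem]; linear_combination -hr0) with rfl | rfl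
  · -- `x = t`, so `a` is nilpotent
    right
    rw [mul_zero] at hr
    have ha0 : ∀ p ∈ a ^ N, p = 0 := fun p hp => hx (show x₀ ^ k • p = x₀ ^ k • (0 : A) by
      rw [smul_eq_mul, smul_eq_mul, mul_zero, ← hst, hr, zero_add, mul_comm]
      exact hst0 p hp t ht)
    refine hrad.trans ?_
    rw [show a ^ N = ⊥ from eq_bot_iff.2 fun p hp => (Submodule.mem_bot A).2 (ha0 p hp), bot_sup_eq,
      Ideal.radical_pow _ hN0.ne']
  · left
    rw [mul_one] at hr
    have ht0 : t = 0 := by linear_combination hst - hr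
    have hb0 : ∀ q ∈ b ^ N, q = 0 := fun q hq => hx (show x₀ ^ k • q = x₀ ^ k • (0 : A) by
      rw [smul_eq_mul, smul_eq_mul, mul_zero, ← hr]
      exact hst0 s hs q hq)
    refine hrad.trans ?_
    rw [show b ^ N = ⊥ from eq_bot_iff.2 fun q hq => (Submodule.mem_bot A).2 (hb0 q hq), sup_bot_eq,
      Ideal.radical_pow _ hN0.ne']

omit [IsNoetherianRing A] in
theorem mul_le_nilradical {a b : Ideal A}
    (h : ∀ p : PrimeSpectrum A, a ≤ p.asIdeal ∨ b ≤ p.asIdeal) : a * b ≤ nilradical A := by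
  rw [nilradical_eq_sInf]
  exact le_sInf fun p hp => (h ⟨p, hp⟩).elim (fun h => Ideal.mul_le_left.trans h) (fun h => Ideal.mul_le_right.trans h)

/-- The complement of `V(I)` is preconnected in depth two. -/
theorem isPreconnected_compl_zeroLocus (I : Ideal A) (hid : ∀ e : A, IsIdempotentElem e → e = 0 ∨ e = 1)
    (hd : 2 ≤ LocCoh.idealDepth I A) : IsPreconnected ((PrimeSpectrum.zeroLocus (I : Set A))ᶜ) := by
  rw [isPreconnected_closed_iff]
  intro T T' hT hT' hsub hne hne'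
  obtain ⟨a, rfl⟩ := (PrimeSpectrum.isClosed_iff_zeroLocus_ideal T).1 hT
  obtain ⟨b, rfl⟩ := (PrimeSpectrum.isClosed_iff_zeroLocus_ideal T').1 hT'
  by_contra hem
  rw [Set.not_nonempty_iff_eq_empty] at hem
  have hab : a * (b * I) ≤ nilradical A := mul_le_nilradical fun p => by
    by_cases hp : I ≤ p.asIdeal
    · exact Or.inr (Ideal.mul_le_right.trans hp)
    · exact (hsub hp).elim Or.inl fun h => Or.inr (Ideal.mul_le_left.trans h)
  have hIle : I ≤ (a ⊔ b * I).radical := by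
    rw [Ideal.radical_eq_sInf]
    refine le_sInf fun p ⟨hp, hpp⟩ => ?_
    rcases hpp.mul_le.1 (le_sup_right.trans hp) with hb | hI
    · by_contra hI
      exact Set.eq_empty_iff_forall_notMem.1 hem ⟨p, hpp⟩ ⟨hI, le_sup_left.trans hp, hb⟩
    · exact hI
  rcases le_radical_of_two_le_idealDepth I a (b * I) hid hd hab hIle with h | h
  · obtain ⟨p, hpI, hpa⟩ := hne
    exact hpI (h.trans ((Ideal.radical_mono hpa).trans p.2.radical.le))
  · obtain ⟨p, hpI, hpb⟩ := hne'
    exact hpI (h.trans ((Ideal.radical_mono (Ideal.mul_le_left.trans hpb)).trans p.2.radical.le))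

/-- Minimal primes are linked in codimension `d - 1` in depth two. -/
theorem reflTransGen_minimalPrimes (d : ℕ) (hd : 1 ≤ d) (hid : ∀ e : A, IsIdempotentElem e → e = 0 ∨ e = 1)
    (h : ∀ p : PrimeSpectrum A, (d : ℕ∞) ≤ p.asIdeal.height →
      (2 : ℕ∞) ≤ LocCoh.depth (Localization.AtPrime p.asIdeal) (Localization.AtPrime p.asIdeal))
    (p' p'' : PrimeSpectrum A) (hp' : p'.asIdeal ∈ minimalPrimes A) (hp'' : p''.asIdeal ∈ minimalPrimes A) :
    Relation.ReflTransGen (fun p q : PrimeSpectrum A => p.asIdeal ∈ minimalPrimes A ∧ q.asIdeal ∈ minimalPrimes A ∧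
      ∃ r : PrimeSpectrum A, p ≤ r ∧ q ≤ r ∧ r.asIdeal.height ≤ (d - 1 : ℕ)) p' p'' := by
  classical
  set R := fun p q : PrimeSpectrum A => p.asIdeal ∈ minimalPrimes A ∧ q.asIdeal ∈ minimalPrimes A ∧
      ∃ r : PrimeSpectrum A, p ≤ r ∧ q ≤ r ∧ r.asIdeal.height ≤ (d - 1 : ℕ)
  by_contra hne
  have hfin := minimalPrimes.finite_of_isNoetherianRing A
  let C : Set (Ideal A) := {P | P ∈ minimalPrimes A ∧ ∀ hP : P.IsPrime, Relation.ReflTransGen R p' ⟨P, hP⟩}
  let D : Set (Ideal A) := {P | P ∈ minimalPrimes A ∧ P ∉ C}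
  have hC : C.Finite := hfin.subset fun P h => h.1
  have hD : D.Finite := hfin.subset fun P h => h.1
  have hsep : ∀ (S : Set (Ideal A)), S.Finite → ∀ r : Ideal A, r.IsPrime → sInf S ≤ r → ∃ P ∈ S, P ≤ r := by
    intro S hS r hr hle
    have := (Ideal.IsPrime.inf_le' hr).1 (show hS.toFinset.inf id ≤ r by
      rwa [Finset.inf_id_eq_sInf, Set.Finite.coe_toFinset])
    obtain ⟨P, hP, hPr⟩ := this
    exact ⟨P, hS.mem_toFinset.1 hP, hPr⟩
  have hab : sInf C * sInf D ≤ nilradical A := mul_le_nilradical fun p => by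
    obtain ⟨P, hP, hPp⟩ := Ideal.exists_minimalPrimes_le (bot_le : ⊥ ≤ p.asIdeal)
    by_cases hPC : P ∈ C
    · exact Or.inl ((sInf_le hPC).trans hPp)
    · exact Or.inr ((sInf_le (show P ∈ D from ⟨hP, hPC⟩)).trans hPp)
  have hdep : 2 ≤ LocCoh.idealDepth (sInf C ⊔ sInf D) A := by
    refine le_idealDepth_of_forall _ A fun r hr => ?_
    obtain ⟨e1⟩ := exists_localizedModule_self_equiv r.asIdeal
    rw [depth_congr e1]
    refine h r ?_
    by_contra hlt
    obtain ⟨P, hP, hPr⟩ := hsep C hC r.asIdeal r.2 (le_sup_left.trans hr)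
    obtain ⟨Q, hQ, hQr⟩ := hsep D hD r.asIdeal r.2 (le_sup_right.trans hr)
    refine hQ.2 ⟨hQ.1, fun hQp => (hP.2 hP.1.1.1).tail ⟨hP.1, hQ.1, r, hPr, hQr, ?_⟩⟩
    rw [not_le] at hlt
    obtain ⟨m, hm⟩ := ENat.ne_top_iff_exists.1 hlt.ne_top
    rw [← hm] at hlt ⊢
    exact_mod_cast Nat.le_sub_one_of_lt (by exact_mod_cast hlt)
  have key : ∀ S T : Set (Ideal A), S.Finite → T.Finite → sInf S ⊔ sInf T ≤ (sInf S).radical →
      ∀ P ∈ S, P ∈ minimalPrimes A → ∃ Q ∈ T, Q ≤ P := fun S T _ hT hle P hP hPm =>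
    hsep T hT P hPm.1.1 ((le_sup_right.trans hle).trans
      ((Ideal.radical_mono (sInf_le hP)).trans hPm.1.1.radical.le))
  have hp'C : p'.asIdeal ∈ C := ⟨hp', fun _ => Relation.ReflTransGen.refl⟩
  have hp''D : p''.asIdeal ∈ D := ⟨hp'', fun hc => hne (hc.2 p''.2)⟩
  rcases le_radical_of_two_le_idealDepth _ _ _ hid hdep hab Ideal.le_radical with h1 | h1
  · obtain ⟨Q, hQ, hle⟩ := key C D hC hD h1 _ hp'C hp'
    exact hQ.2 (le_antisymm hle (hp'.2 hQ.1.1 hle) ▸ hp'C)
  · obtain ⟨Q, hQ, hle⟩ := key D C hD hC (by rwa [sup_comm]) _ hp''D hp''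
    exact hp''D.2 (le_antisymm hle (hp''.2 hQ.1.1 hle) ▸ hQ)

end Groth.Agent.H4Depth
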