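import Groth.Agent.H4Depth.BaseDepth

/-!
# Regular sequences at a prime stay regular nearby
-/

set_option autoImplicit false
set_option linter.style.haveILetI false
set_option linter.unusedSectionVars false

universe u

open RingTheory.Sequence
open scoped Pointwise

namespace Groth.Agent.H4Depth

variable {R : Type u} [CommRing R] [IsNoetherianRing R]

theorem exists_smul_mem_colon {M : Type u} [AddCommGroup M] [Module R M] [Module.Finite R M] (p : Ideal R) [p.IsPrime]
    (N : Submodule R M) (a : R)
    (h : ∀ m : M, a • m ∈ N → ∃ s ∉ p, s • m ∈ N) : ∃ f ∉ p, ∀ m : M, a • m ∈ N → f • m ∈ N := by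
  classical
  obtain ⟨t, ht⟩ := (IsNoetherian.noetherian (Submodule.comap (LinearMap.lsmul R M a) N))
  choose! s hs hsm using h
  refine ⟨∏ m ∈ t, s m, fun hp => ?_, fun m hm => ?_⟩
  · obtain ⟨m, hm, hsp⟩ := (Ideal.IsPrime.prod_mem_iff).1 hp
    exact hs m (show m ∈ Submodule.comap (LinearMap.lsmul R M a) N from ht ▸ Submodule.subset_span hm) hsp
  · have hm' : m ∈ Submodule.span R (t : Set M) := ht ▸ (show m ∈ Submodule.comap (LinearMap.lsmul R M a) N from hm)
    have hle : Submodule.span R (t : Set M) ≤ Submodule.comap (LinearMap.lsmul R M (∏ m ∈ t, s m)) N := by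
      refine Submodule.span_le.2 fun x hx => ?_
      show (∏ m ∈ t, s m) • x ∈ N
      rw [← Finset.prod_erase_mul t s hx, mul_smul]
      exact N.smul_mem _ (hsm x (show x ∈ Submodule.comap (LinearMap.lsmul R M a) N from ht ▸ Submodule.subset_span hx))
    exact hle hm'

/-- Weak regularity at `p` spreads to a basic open neighbourhood. -/
theorem exists_isWeaklyRegular_nhd {M : Type u} [AddCommGroup M] [Module R M] [Module.Finite R M] (p : Ideal R) [p.IsPrime]
    (rs : List R) (h : IsWeaklyRegular (LocalizedModule p.primeCompl M) rs) :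
    ∃ f ∉ p, ∀ q : PrimeSpectrum R, f ∉ q.asIdeal → IsWeaklyRegular (LocalizedModule q.asIdeal.primeCompl M) rs := by
  classical
  have hi : ∀ i : Fin rs.length, ∃ f ∉ p, ∀ m : M, rs[i.1] • m ∈ Ideal.ofList (rs.take i.1) • (⊤ : Submodule R M) →
      f • m ∈ Ideal.ofList (rs.take i.1) • (⊤ : Submodule R M) := fun i => by
    refine exists_smul_mem_colon p _ _ fun m hm => ?_
    have h1 := ((isWeaklyRegular_iff _ rs).1 h) i.1 i.2
    rw [isSMulRegular_quotient_iff_mem_of_smul_mem] at h1
    have h2 := h1 (LocalizedModule.mkLinearMap p.primeCompl M m) (by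
      rw [← map_smul]
      have := Submodule.mem_map_of_mem (f := LocalizedModule.mkLinearMap p.primeCompl M) hm
      rw [Submodule.map_smul''] at this
      exact Submodule.smul_mono le_rfl le_top this)
    exact exists_smul_mem_of_map_mem_smul_top p.primeCompl (LocalizedModule.mkLinearMap p.primeCompl M) _ h2
  choose f hf hfm using hi
  refine ⟨∏ i, f i, fun hp => ?_, fun q hq => ?_⟩
  · obtain ⟨i, -, hip⟩ := (Ideal.IsPrime.prod_mem_iff).1 hp
    exact hf i hip
  rw [isWeaklyRegular_iff]
  intro i hi'
  rw [isSMulRegular_quotient_iff_mem_of_smul_mem]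
  intro z hz
  have hfq : f ⟨i, hi'⟩ ∈ q.asIdeal.primeCompl := fun hh => hq (by
    rw [← Finset.prod_erase_mul Finset.univ f (Finset.mem_univ ⟨i, hi'⟩)]
    exact q.asIdeal.mul_mem_left _ hh)
  set J := Ideal.ofList (rs.take i) with hJ
  set mk := LocalizedModule.mkLinearMap q.asIdeal.primeCompl M
  induction z using LocalizedModule.induction_on with
  | _ t s =>
    have hy : mk (rs[i] • t) ∈ J • (⊤ : Submodule R (LocalizedModule q.asIdeal.primeCompl M)) := by
      have h2 := Submodule.smul_mem _ (s : R) hz
      rwa [smul_comm, LocalizedModule.smul'_mk, show ((s : R) • t) = s • t from rfl,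
        LocalizedModule.mk_cancel, ← LocalizedModule.mkLinearMap_apply (S := q.asIdeal.primeCompl), ← map_smul] at h2
    obtain ⟨c, hc, hct⟩ := exists_smul_mem_of_map_mem_smul_top q.asIdeal.primeCompl mk _ hy
    rw [smul_comm] at hct
    have h3 := hfm ⟨i, hi'⟩ _ hct
    rw [smul_smul] at h3
    have h4 := Submodule.mem_map_of_mem (f := mk) h3
    rw [Submodule.map_smul'', map_smul] at h4
    replace h4 := Submodule.smul_mono le_rfl le_top h4
    let v : q.asIdeal.primeCompl := ⟨f ⟨i, hi'⟩ * c, mul_mem hfq hc⟩
    let w : Localization.AtPrime q.asIdeal := IsLocalization.mk' _ 1 (v * s)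
    have h5 : w • ((f ⟨i, hi'⟩ * c) • mk t) ∈ J • (⊤ : Submodule R (LocalizedModule q.asIdeal.primeCompl M)) := by
      refine Submodule.smul_induction_on h4 (fun r hr x _ => ?_) (fun x y hx hy => by rw [smul_add]; exact add_mem hx hy)
      rw [smul_comm]
      exact Submodule.smul_mem_smul hr Submodule.mem_top
    convert h5 using 1
    show LocalizedModule.mk t s = w • ((f ⟨i, hi'⟩ * c) • LocalizedModule.mk t 1)
    rw [LocalizedModule.smul'_mk]
    simp only [w]
    rw [← Localization.mk_eq_mk', LocalizedModule.mk_smul_mk, one_smul, mul_one]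
    rw [LocalizedModule.mk_eq]
    exact ⟨1, by simp only [one_smul, Submonoid.smul_def, Submonoid.coe_mul, v, smul_smul]; ring_nf⟩

/-- Lifting a weakly regular sequence in the maximal ideal to elements of the base. -/
theorem exists_lift_regular {M : Type u} [AddCommGroup M] [Module R M] (p : Ideal R) [p.IsPrime] (I : Ideal R)
    (xs : List (Localization.AtPrime p)) (hmem : ∀ x ∈ xs, x ∈ I.map (algebraMap R (Localization.AtPrime p)))
    (hreg : IsWeaklyRegular (LocalizedModule p.primeCompl M) xs) :
    ∃ ys : List R, ys.length = xs.length ∧ (∀ y ∈ ys, y ∈ I) ∧ IsWeaklyRegular (LocalizedModule p.primeCompl M) ys := by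
  have hsurj : ∀ x : Localization.AtPrime p, ∃ y : R, ∃ c : (Localization.AtPrime p)ˣ,
      algebraMap R (Localization.AtPrime p) y = (c : Localization.AtPrime p) * x ∧
      (x ∈ I.map (algebraMap R (Localization.AtPrime p)) → y ∈ I) := fun x => by
    by_cases hx : x ∈ I.map (algebraMap R (Localization.AtPrime p))
    · obtain ⟨⟨⟨y, hy⟩, t⟩, ht⟩ := (IsLocalization.mem_map_algebraMap_iff p.primeCompl (Localization.AtPrime p)).1 hx
      exact ⟨y, (IsLocalization.map_units (Localization.AtPrime p) t).unit,
        by rw [IsUnit.unit_spec, mul_comm]; exact ht.symm, fun _ => hy⟩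
    · obtain ⟨⟨y, t⟩, ht⟩ := IsLocalization.surj p.primeCompl x
      exact ⟨y, (IsLocalization.map_units (Localization.AtPrime p) t).unit,
        by rw [IsUnit.unit_spec, mul_comm]; exact ht.symm, fun h => absurd h hx⟩
  choose y c hyc hyI using hsurj
  refine ⟨xs.map y, List.length_map _, fun z hz => ?_, ?_⟩
  · obtain ⟨x, hx, rfl⟩ := List.mem_map.1 hz
    exact hyI x (hmem x hx)
  have h1 := isWeaklyRegular_unit_smul (xs.map fun x => (x, c x)) (LocalizedModule p.primeCompl M)
    (show IsWeaklyRegular _ _ by rw [List.map_map]; simpa [Function.comp_def] using hreg)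
  refine (isWeaklyRegular_map_algebraMap_iff (Localization.AtPrime p) (LocalizedModule p.primeCompl M) _).1 ?_
  rw [List.map_map] at h1 ⊢
  simpa [Function.comp_def, hyc] using h1

end Groth.Agent.H4Depth
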