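import Groth.Agent.H7Flat.InjectiveModMax
import Groth.Agent.H05EGA4.FlatDim
import Groth.Agent.H4Depth.DepthLemmas
import Groth.Agent.H4Depth.LocDepth
import Groth.Prelude.Def_EGA4b
import Groth.Prelude.Def_FlatCA
import Mathlib.RingTheory.FiniteLength
import Mathlib.RingTheory.HopkinsLevitzki
import Mathlib.RingTheory.Localization.BaseChange

/-!
# Modules flat away from a closed set whose closed fibre has depth along it
-/

set_option autoImplicit false
set_option linter.style.haveILetI false
set_option linter.unusedSectionVars false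

universe u

open TensorProduct IsLocalRing

namespace Groth.Agent.H4Depth

/-- No element is killed by a power of `J`. -/
def NoTor {B : Type u} [CommRing B] (J : Ideal B) (P : Type u) [AddCommGroup P] [Module B P] : Prop :=
  ∀ (z : P) (k : ℕ), (∀ j ∈ J ^ k, j • z = 0) → z = 0

theorem noTor_of_one_le {B : Type u} [CommRing B] [IsNoetherianRing B] {J : Ideal B} {P : Type u} [AddCommGroup P]
    [Module B P] [Module.Finite B P] (h : 1 ≤ LocCoh.idealDepth J P) : NoTor J P := by
  intro z k hz
  by_cases hJ : J • (⊤ : Submodule B P) = ⊤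
  · obtain ⟨r, hr, hr'⟩ := Submodule.exists_mem_and_smul_eq_self_of_fg_of_le_smul J (⊤ : Submodule B P)
      Module.Finite.fg_top hJ.ge
    have h1 : ∀ i : ℕ, r ^ i • z = z := fun i => by
      induction i with
      | zero => simp
      | succ i ih => rw [pow_succ, mul_smul, hr' z Submodule.mem_top, ih]
    rw [← h1 k]
    exact hz _ (Ideal.pow_mem_pow hr k)
  · obtain ⟨x, hx, hreg⟩ := (one_le_idealDepth_iff hJ).1 h
    refine hreg.pow k (?_ : x ^ k • z = x ^ k • 0)
    rw [hz _ (Ideal.pow_mem_pow hx k), smul_zero]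

theorem NoTor.of_injective {B : Type u} [CommRing B] {J : Ideal B} {P Q : Type u} [AddCommGroup P] [Module B P]
    [AddCommGroup Q] [Module B Q] (h : NoTor J Q) (f : P →ₗ[B] Q) (hf : Function.Injective f) : NoTor J P :=
  fun z k hz => hf ((h (f z) k fun j hj => by rw [← map_smul, hz j hj, map_zero]).trans (map_zero f).symm)

variable {A B : Type u} [CommRing A] [CommRing B] [IsNoetherianRing A] [IsNoetherianRing B] [IsLocalRing A]
  [IsLocalRing B] [Algebra A B] [IsLocalHom (algebraMap A B)] {J : Ideal B}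
  {M : Type u} [AddCommGroup M] [Module B M] [Module A M] [IsScalarTower A B M] [Module.Finite B M]

/-- `M ⊗ A/I` as a quotient of `M`. -/
noncomputable def tensorQuotEquiv (I : Ideal A) :
    (M ⧸ (I.map (algebraMap A B) • (⊤ : Submodule B M))) ≃ₗ[B] M ⊗[A] (A ⧸ I) :=
  let g : M →ₗ[B] M ⊗[A] (A ⧸ I) :=
    { toFun := fun x => x ⊗ₜ[A] (1 : A ⧸ I)
      map_add' := fun x y => add_tmul x y _
      map_smul' := fun b x => (TensorProduct.smul_tmul' b x _).symm }
  Submodule.quotEquivOfEq _ _ (by
    ext x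
    show _ ↔ x ⊗ₜ[A] (1 : A ⧸ I) = 0
    rw [← TensorProduct.tensorQuotEquivQuotSMul_symm_mk, LinearEquiv.map_eq_zero_iff,
      Submodule.Quotient.mk_eq_zero, ← Submodule.restrictScalars_mem A, Ideal.smul_restrictScalars,
      Submodule.restrictScalars_top]) ≪≫ₗ
    g.quotKerEquivOfSurjective (fun z => by
      induction z using TensorProduct.induction_on with
      | zero => exact ⟨0, zero_tmul _ _⟩
      | tmul x a =>
        obtain ⟨a, rfl⟩ := Ideal.Quotient.mk_surjective a
        refine ⟨a • x, ?_⟩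
        show (a • x) ⊗ₜ[A] (1 : A ⧸ I) = _
        rw [TensorProduct.smul_tmul, Algebra.smul_def, mul_one]
        rfl
      | add x y hx hy =>
        obtain ⟨p, rfl⟩ := hx
        obtain ⟨q, rfl⟩ := hy
        exact ⟨p + q, map_add g p q⟩)

theorem exists_pow_smul_of_ker (hU : ∀ q : PrimeSpectrum B, ¬ J ≤ q.asIdeal → FlatCA.FlatAt A q.asIdeal M)
    {X Y : Type u} [AddCommGroup X] [Module A X] [AddCommGroup Y] [Module A Y] (f : X →ₗ[A] Y)
    (hf : Function.Injective f) (z : M ⊗[A] X) (hz : f.lTensor M z = 0) : ∃ k : ℕ, ∀ j ∈ J ^ k, j • z = 0 := by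
  have hrad : J ≤ (Submodule.span B {z}).annihilator.radical := by
    rw [Ideal.radical_eq_sInf]
    refine le_sInf fun p ⟨hp, hpp⟩ => by_contra fun hJp => ?_
    let q : PrimeSpectrum B := ⟨p, hpp⟩
    haveI : Module.Flat A (LocalizedModule q.asIdeal.primeCompl M) := hU q hJp
    let mk := LocalizedModule.mkLinearMap q.asIdeal.primeCompl M
    have hcomm : ∀ w : M ⊗[A] X, f.lTensor (LocalizedModule q.asIdeal.primeCompl M)
        (AlgebraTensorModule.rTensor A X mk w) = AlgebraTensorModule.rTensor A Y mk (f.lTensor M w) := by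
      intro w
      induction w using TensorProduct.induction_on with
      | zero => simp
      | tmul n x => simp
      | add x y hx hy => simp only [map_add, hx, hy]
    have h0 : AlgebraTensorModule.rTensor A X mk z = 0 := by
      apply Module.Flat.lTensor_preserves_injective_linearMap (M := LocalizedModule q.asIdeal.primeCompl M) f hf
      rw [map_zero, hcomm, hz, map_zero]
    obtain ⟨s, hs⟩ := (IsLocalizedModule.eq_zero_iff q.asIdeal.primeCompl
      (AlgebraTensorModule.rTensor A X mk)).mp h0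
    exact s.2 (hp ((Submodule.mem_annihilator_span_singleton z _).2 hs))
  obtain ⟨k, hk⟩ := Ideal.exists_pow_le_of_le_radical_of_fg hrad (IsNoetherian.noetherian J)
  exact ⟨k, fun j hj => (Submodule.mem_annihilator_span_singleton z _).1 (hk hj)⟩

theorem noTor_of_isFiniteLength (hU : ∀ q : PrimeSpectrum B, ¬ J ≤ q.asIdeal → FlatCA.FlatAt A q.asIdeal M)
    (h1 : 1 ≤ LocCoh.idealDepth J (EGA4.FibMod A B M))
    {X : Type u} [AddCommGroup X] [Module A X] (hX : IsFiniteLength A X) : NoTor J (M ⊗[A] X) := by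
  induction hX with
  | of_subsingleton =>
    intro z k hz
    clear hz
    induction z using TensorProduct.induction_on with
    | zero => rfl
    | tmul m x => rw [Subsingleton.elim x 0, tmul_zero]
    | add a b ha hb => rw [ha, hb, add_zero]
  | @of_simple_quotient X _ _ N _ hN ih =>
    intro z k hz
    obtain ⟨I, hI, ⟨e⟩⟩ := isSimpleModule_iff_quot_maximal.1 (inferInstance : IsSimpleModule A (X ⧸ N))
    obtain rfl := IsLocalRing.eq_maximalIdeal hI
    have hq : NoTor J (M ⊗[A] (X ⧸ N)) :=
      (noTor_of_one_le h1).of_injective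
        ((tensorQuotEquiv (maximalIdeal A)).symm.toLinearMap ∘ₗ AlgebraTensorModule.lTensor B M e.toLinearMap)
        ((tensorQuotEquiv (maximalIdeal A)).symm.injective.comp (LinearEquiv.lTensor M e).injective)
    have hzq : AlgebraTensorModule.lTensor B M N.mkQ z = 0 :=
      hq _ k fun j hj => by rw [← map_smul, hz j hj, map_zero]
    obtain ⟨w, rfl⟩ := (lTensor_exact M (LinearMap.exact_subtype_mkQ N) (Submodule.mkQ_surjective N) z).1 hzq
    have hinj : ∀ v : M ⊗[A] N, N.subtype.lTensor M v = 0 → v = 0 := fun v hv => by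
      obtain ⟨l, hl⟩ := exists_pow_smul_of_ker hU N.subtype N.subtype_injective v hv
      exact ih v l hl
    have hw : w = 0 := ih w k fun j hj => hinj _
      (((AlgebraTensorModule.lTensor B M N.subtype).map_smul j w).trans (hz j hj))
    rw [hw, map_zero]

theorem lTensor_injective_of_isFiniteLength
    (hU : ∀ q : PrimeSpectrum B, ¬ J ≤ q.asIdeal → FlatCA.FlatAt A q.asIdeal M)
    (h1 : 1 ≤ LocCoh.idealDepth J (EGA4.FibMod A B M))
    {X Y : Type u} [AddCommGroup X] [Module A X] (hX : IsFiniteLength A X) [AddCommGroup Y] [Module A Y]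
    (f : X →ₗ[A] Y) (hf : Function.Injective f) : Function.Injective (f.lTensor M) := by
  rw [injective_iff_map_eq_zero]
  intro z hz
  obtain ⟨k, hk⟩ := exists_pow_smul_of_ker hU f hf z hz
  exact noTor_of_isFiniteLength hU h1 hX z k hk

theorem isFiniteLength_quot_pow (n : ℕ) : IsFiniteLength A (A ⧸ maximalIdeal A ^ (n + 1)) := by
  rw [isFiniteLength_iff_isNoetherian_isArtinian]
  refine ⟨inferInstance, ?_⟩
  haveI : Nontrivial (A ⧸ maximalIdeal A ^ (n + 1)) := Ideal.Quotient.nontrivial_iff.2
    (ne_top_of_le_ne_top (maximalIdeal.isMaximal A).ne_top (Ideal.pow_le_self (by omega)))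
  haveI : IsLocalRing (A ⧸ maximalIdeal A ^ (n + 1)) :=
    IsLocalRing.of_surjective' _ Ideal.Quotient.mk_surjective
  haveI : IsArtinianRing (A ⧸ maximalIdeal A ^ (n + 1)) := by
    rw [isArtinianRing_iff_isNilpotent_maximalIdeal]
    refine ⟨n + 1, ?_⟩
    rw [← IsLocalRing.map_maximalIdeal_of_surjective _ Ideal.Quotient.mk_surjective, ← Ideal.map_pow,
      Ideal.map_quotient_self]
    rfl
  exact isArtinian_of_surjective_algebraMap (R := A ⧸ maximalIdeal A ^ (n + 1)) (M := A ⧸ maximalIdeal A ^ (n + 1)) Ideal.Quotient.mk_surjective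

theorem isFiniteLength_of_injective {X Y : Type u} [AddCommGroup X] [Module A X] [AddCommGroup Y] [Module A Y]
    (h : IsFiniteLength A Y) (f : X →ₗ[A] Y) (hf : Function.Injective f) : IsFiniteLength A X := by
  rw [isFiniteLength_iff_isNoetherian_isArtinian] at h ⊢
  obtain ⟨_, _⟩ := h
  exact ⟨isNoetherian_of_injective f hf, isArtinian_of_injective f hf⟩

theorem flat_of_flat_off (hU : ∀ q : PrimeSpectrum B, ¬ J ≤ q.asIdeal → FlatCA.FlatAt A q.asIdeal M)
    (h1 : 1 ≤ LocCoh.idealDepth J (EGA4.FibMod A B M)) : Module.Flat A M := by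
  rw [Module.Flat.iff_lTensor_injective']
  intro I
  rw [injective_iff_map_eq_zero]
  intro z hz
  haveI : Module.Finite B (M ⊗[A] I) := H05EGA4.FlatDim.finite_tensor I
  have hne : (maximalIdeal A).map (algebraMap A B) ≠ ⊤ :=
    ne_top_of_le_ne_top (maximalIdeal.isMaximal B).ne_top (IsLocalRing.map_maximalIdeal_le (algebraMap A B))
  obtain ⟨k, hk⟩ := (maximalIdeal A).exists_pow_inf_eq_pow_smul (M := A) I
  rw [← Submodule.mem_bot B, ← Ideal.iInf_pow_smul_eq_bot_of_isLocalRing _ hne, Submodule.mem_iInf]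
  intro i
  let K := maximalIdeal A ^ (k + i + 1)
  let g : I →ₗ[A] (A ⧸ K) := K.mkQ ∘ₗ I.subtype
  let π : I →ₗ[A] LinearMap.range g := g.rangeRestrict
  have hπ : Function.Surjective π := g.surjective_rangeRestrict
  have hker : z ∈ LinearMap.ker (π.lTensor M) := by
    rw [LinearMap.mem_ker]
    refine lTensor_injective_of_isFiniteLength hU h1
      (isFiniteLength_of_injective (isFiniteLength_quot_pow (k + i)) _ (LinearMap.range g).subtype_injective)
      (LinearMap.range g).subtype (LinearMap.range g).subtype_injective ?_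
    rw [map_zero, ← LinearMap.lTensor_comp_apply, show (LinearMap.range g).subtype ∘ₗ π = K.mkQ ∘ₗ I.subtype from rfl,
      LinearMap.lTensor_comp_apply, hz, map_zero]
  rw [(lTensor_exact M π.exact_subtype_ker_map hπ).linearMap_ker_eq] at hker
  obtain ⟨w, rfl⟩ := hker
  clear hz
  induction w using TensorProduct.induction_on with
  | zero => simp
  | add a b ha hb => rw [map_add]; exact add_mem ha hb
  | tmul m j =>
    rw [LinearMap.lTensor_tmul]
    obtain ⟨⟨j, hjI⟩, hjk⟩ := j
    have hjn : j ∈ K := by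
      rw [LinearMap.mem_ker, Subtype.ext_iff] at hjk
      exact (Submodule.Quotient.mk_eq_zero _).1 hjk
    have hj' : j ∈ maximalIdeal A ^ i • (I : Submodule A A) := by
      have h2 : j ∈ maximalIdeal A ^ (k + i) • ⊤ ⊓ (I : Submodule A A) := ⟨by
        rw [smul_eq_mul, Ideal.mul_top]; exact Ideal.pow_le_pow_right (Nat.le_succ _) hjn, hjI⟩
      rw [hk _ (by omega)] at h2
      refine Submodule.smul_mono ?_ inf_le_right h2
      rw [Nat.add_sub_cancel_left]
    have key : ∀ y ∈ maximalIdeal A ^ i • (I : Submodule A A), ∀ hy : y ∈ I,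
        m ⊗ₜ[A] (⟨y, hy⟩ : I) ∈
          (((maximalIdeal A).map (algebraMap A B)) ^ i • ⊤ : Submodule B (M ⊗[A] I)) := by
      intro y hy
      refine Submodule.smul_induction_on' hy (fun r hr s hs hrs ↦ ?_) (fun y₁ hy₁ y₂ hy₂ h₁ h₂ h' ↦ ?_)
      · have : m ⊗ₜ[A] (⟨r • s, hrs⟩ : I) = algebraMap A B r • (m ⊗ₜ[A] (⟨s, hs⟩ : I)) := by
          rw [algebraMap_smul, ← tmul_smul]; rfl
        rw [this]
        refine Submodule.smul_mem_smul ?_ trivial
        rw [← Ideal.map_pow]
        exact Ideal.mem_map_of_mem _ hr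
      · have hle : maximalIdeal A ^ i • (I : Submodule A A) ≤ I := Submodule.smul_le_right
        rw [show (⟨y₁ + y₂, h'⟩ : I) = ⟨y₁, hle hy₁⟩ + ⟨y₂, hle hy₂⟩ from rfl, tmul_add]
        exact add_mem (h₁ _) (h₂ _)
    exact key j hj' hjI

theorem two_le_of_isFiniteLength [Module.Flat A M] (h2 : 2 ≤ LocCoh.idealDepth J (EGA4.FibMod A B M))
    {X : Type u} [AddCommGroup X] [Module A X] (hX : IsFiniteLength A X) :
    2 ≤ LocCoh.idealDepth J (M ⊗[A] X) := by
  induction hX with
  | @of_subsingleton X =>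
    refine le_of_le_of_eq le_top (idealDepth_eq_top (eq_top_iff.2 ?_)).symm
    rintro z -
    induction z using TensorProduct.induction_on with
    | zero => exact zero_mem _
    | tmul m x => rw [Subsingleton.elim x 0, tmul_zero]; exact zero_mem _
    | add a b ha hb => exact add_mem ha hb
  | @of_simple_quotient X _ _ N _ hN ih =>
    obtain ⟨I, hI, ⟨e⟩⟩ := isSimpleModule_iff_quot_maximal.1 (inferInstance : IsSimpleModule A (X ⧸ N))
    obtain rfl := IsLocalRing.eq_maximalIdeal hI
    haveI : IsNoetherian A X := (isFiniteLength_iff_isNoetherian_isArtinian.1 (.of_simple_quotient hN)).1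
    haveI : Module.Finite B (M ⊗[A] X) := H05EGA4.FlatDim.finite_tensor X
    haveI : Module.Finite B (M ⊗[A] N) := H05EGA4.FlatDim.finite_tensor N
    haveI : Module.Finite B (M ⊗[A] (X ⧸ N)) := H05EGA4.FlatDim.finite_tensor (X ⧸ N)
    refine le_trans (le_min ih ?_) (min_le_idealDepth_mid J
      (f := AlgebraTensorModule.lTensor B M N.subtype) (g := AlgebraTensorModule.lTensor B M N.mkQ)
      (Module.Flat.lTensor_preserves_injective_linearMap _ N.subtype_injective)
      (LinearMap.lTensor_surjective M (Submodule.mkQ_surjective N))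
      (lTensor_exact M (LinearMap.exact_subtype_mkQ N) (Submodule.mkQ_surjective N)))
    let E : (M ⊗[A] (X ⧸ N)) ≃ₗ[B] M ⊗[A] (A ⧸ maximalIdeal A) :=
      LinearEquiv.ofBijective (AlgebraTensorModule.lTensor B M e.toLinearMap) (LinearEquiv.lTensor M e).bijective
    rw [idealDepth_congr J (E.trans (tensorQuotEquiv (maximalIdeal A)).symm)]
    exact h2

theorem two_le_quot_pow (hU : ∀ q : PrimeSpectrum B, ¬ J ≤ q.asIdeal → FlatCA.FlatAt A q.asIdeal M)
    (h2 : 2 ≤ LocCoh.idealDepth J (EGA4.FibMod A B M)) (n : ℕ) :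
    2 ≤ LocCoh.idealDepth J (M ⧸ ((EGA4.mB A B) ^ (n + 1) • (⊤ : Submodule B M))) := by
  haveI := flat_of_flat_off hU (le_trans one_le_two h2)
  have h := two_le_of_isFiniteLength (J := J) (M := M) h2 (isFiniteLength_quot_pow (A := A) n)
  rw [← idealDepth_congr J (tensorQuotEquiv (maximalIdeal A ^ (n + 1))), Ideal.map_pow] at h
  exact h

end Groth.Agent.H4Depth
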