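import Groth.Agent.H4Depth.Connected
import Groth.Agent.H05EGA4.SerreCond
import Groth.Agent.H17.Topology

/-!
# Connected components of an open subset with complement of depth two
-/

set_option autoImplicit false
set_option linter.style.haveILetI false

universe u

open AlgebraicGeometry

namespace Groth.Agent.H4Depth

theorem bijective_connectedComponentsMap_of_basis {X : Type*} [TopologicalSpace X] [LocallyConnectedSpace X]
    (U : Set X) (hU : IsOpen U)
    (h : ∀ x ∉ U, ∀ W : Set X, IsOpen W → x ∈ W →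
      ∃ V : Set X, IsOpen V ∧ x ∈ V ∧ V ⊆ W ∧ IsPreconnected (V ∩ U) ∧ (V ∩ U).Nonempty) :
    Function.Bijective (Continuous.connectedComponentsMap (continuous_subtype_val : Continuous (fun x : U => (x : X)))) := by
  haveI : LocallyConnectedSpace U := hU.locallyConnectedSpace
  constructor
  · intro a b hab
    obtain ⟨u, rfl⟩ := ConnectedComponents.surjective_coe a
    obtain ⟨v, rfl⟩ := ConnectedComponents.surjective_coe b
    have hab' : connectedComponent (u : X) = connectedComponent (v : X) := ConnectedComponents.coe_eq_coe.1 hab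
    let C : Set X := Subtype.val '' connectedComponent u
    have hC : IsOpen C := hU.isOpenMap_subtype_val _ isOpen_connectedComponent
    have hD : IsOpen (U \ C) := by
      have : U \ C = Subtype.val '' ((connectedComponent u)ᶜ : Set U) := by
        rw [Set.image_compl_eq_range_diff_image Subtype.val_injective, Subtype.range_coe]
      rw [this]
      exact hU.isOpenMap_subtype_val _ isClosed_connectedComponent.isOpen_compl
    let S : Set X := {x | ∃ V : Set X, IsOpen V ∧ x ∈ V ∧ V ∩ U ⊆ C}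
    let T : Set X := {x | ∃ V : Set X, IsOpen V ∧ x ∈ V ∧ V ∩ U ⊆ U \ C}
    have hSo : IsOpen S := isOpen_iff_forall_mem_open.2 fun x ⟨V, hV, hx, hVC⟩ =>
      ⟨V, fun y hy => ⟨V, hV, hy, hVC⟩, hV, hx⟩
    have hTo : IsOpen T := isOpen_iff_forall_mem_open.2 fun x ⟨V, hV, hx, hVC⟩ =>
      ⟨V, fun y hy => ⟨V, hV, hy, hVC⟩, hV, hx⟩
    have hdis : ∀ x ∈ S, x ∉ T := fun x ⟨V, hV, hx, hVC⟩ ⟨V', hV', hx', hVC'⟩ => by
      obtain ⟨y, hyV, hyV', hyU⟩ : ∃ y, y ∈ V ∧ y ∈ V' ∧ y ∈ U := by
        by_cases hxU : x ∈ U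
        · exact ⟨x, hx, hx', hxU⟩
        · obtain ⟨V'', _, _, hsub, _, y, hy, hyU⟩ := h x hxU (V ∩ V') (hV.inter hV') ⟨hx, hx'⟩
          exact ⟨y, (hsub hy).1, (hsub hy).2, hyU⟩
      exact (hVC' ⟨hyV', hyU⟩).2 (hVC ⟨hyV, hyU⟩)
    have hcov : ∀ x, x ∈ S ∨ x ∈ T := fun x => by
      by_cases hxU : x ∈ U
      · by_cases hxC : x ∈ C
        · exact Or.inl ⟨C, hC, hxC, Set.inter_subset_left⟩
        · exact Or.inr ⟨U \ C, hD, ⟨hxU, hxC⟩, Set.inter_subset_left⟩
      · obtain ⟨V, hV, hx, -, hpre, -⟩ := h x hxU Set.univ isOpen_univ trivial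
        rcases (isPreconnected_iff_subset_of_disjoint.1 hpre) C (U \ C) hC hD (fun y hy => by
            by_cases hyC : y ∈ C
            · exact Or.inl hyC
            · exact Or.inr ⟨hy.2, hyC⟩)
          (Set.eq_empty_iff_forall_notMem.2 fun y hy => hy.2.2.2 hy.2.1) with h1 | h1
        · exact Or.inl ⟨V, hV, hx, h1⟩
        · exact Or.inr ⟨V, hV, hx, h1⟩
    have hcl : IsClopen S := ⟨⟨by
      convert hTo using 1
      ext x
      exact ⟨fun hx => (hcov x).resolve_left hx, fun hx hx' => hdis x hx' hx⟩⟩, hSo⟩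
    have huS : (u : X) ∈ S := ⟨C, hC, ⟨u, mem_connectedComponent, rfl⟩, Set.inter_subset_left⟩
    have hvS : (v : X) ∈ S := hcl.connectedComponent_subset huS (hab'.symm ▸ mem_connectedComponent)
    obtain ⟨V, _, hvV, hVC⟩ := hvS
    obtain ⟨w, hw, hwv⟩ := hVC ⟨hvV, v.2⟩
    cases Subtype.ext hwv
    exact ConnectedComponents.coe_eq_coe.2 (connectedComponent_eq hw)
  · intro c
    obtain ⟨x, rfl⟩ := ConnectedComponents.surjective_coe c
    by_cases hx : x ∈ U
    · exact ⟨(⟨x, hx⟩ : U), rfl⟩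
    · obtain ⟨V, -, -, hsub, -, y, hy, hyU⟩ := h x hx (connectedComponent x) isOpen_connectedComponent mem_connectedComponent
      exact ⟨(⟨y, hyU⟩ : U), ConnectedComponents.coe_eq_coe'.2 (hsub hy)⟩

theorem exists_basis_of_depth (X : Scheme.{u}) [IsLocallyNoetherian X] (U : X.Opens)
    (h : ∀ x : X, x ∉ (U : Set X) → (2 : ℕ∞) ≤ LocCoh.depth (X.presheaf.stalk x) (X.presheaf.stalk x))
    (x : X) (hx : x ∉ (U : Set X)) (W : Set X) (hW : IsOpen W) (hxW : x ∈ W) :
    ∃ V : Set X, IsOpen V ∧ x ∈ V ∧ V ⊆ W ∧ IsPreconnected (V ∩ (U : Set X)) ∧ (V ∩ (U : Set X)).Nonempty := by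
  obtain ⟨V₀, hV₀, hxV₀, hV₀W⟩ := exists_isAffineOpen_mem_and_subset (U := ⟨W, hW⟩) hxW
  haveI : IsNoetherianRing Γ(X, V₀) := IsLocallyNoetherian.component_noetherian ⟨V₀, hV₀⟩
  let p₀ : PrimeSpectrum Γ(X, V₀) := hV₀.primeIdealOf ⟨x, hxV₀⟩
  obtain ⟨e, -, he⟩ := PrimeSpectrum.exists_idempotent_basicOpen_eq_of_isClopen
    (s := connectedComponent p₀) ⟨isClosed_connectedComponent, Groth.Agent.H17.isOpen_connectedComponent p₀⟩
  let V : X.Opens := X.basicOpen e
  have hV : IsAffineOpen V := hV₀.basicOpen e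
  have himg : hV₀.fromSpec '' connectedComponent p₀ = (V : Set X) := by
    show _ = (X.basicOpen e : Set X)
    rw [← hV₀.fromSpec_image_basicOpen e]
    exact congrArg (fun S => hV₀.fromSpec '' S) he
  have hxV : x ∈ V := by
    rw [← SetLike.mem_coe, ← himg]
    exact ⟨p₀, mem_connectedComponent, hV₀.fromSpec_primeIdealOf _⟩
  have hVpre : IsPreconnected (V : Set X) := himg ▸
    isPreconnected_connectedComponent.image _ hV₀.fromSpec.continuous.continuousOn
  haveI : IsNoetherianRing Γ(X, V) := IsLocallyNoetherian.component_noetherian ⟨V, hV⟩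
  set A := Γ(X, V) with hA
  haveI : ConnectedSpace (PrimeSpectrum A) :=
    { isPreconnected_univ := (hV.fromSpec.isOpenEmbedding.isInducing.isPreconnected_image).1 (by
        erw [Set.image_univ, hV.range_fromSpec]; exact hVpre)
      toNonempty := ⟨hV.primeIdealOf ⟨x, hxV⟩⟩ }
  obtain ⟨I, hI⟩ := (PrimeSpectrum.isClosed_iff_zeroLocus_ideal (hV.fromSpec ⁻¹' (U : Set X)ᶜ)).1
    (IsClosed.preimage hV.fromSpec.continuous U.2.isClosed_compl)
  have hd : 2 ≤ LocCoh.idealDepth I A := le_idealDepth_of_forall I A fun q hq => by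
    obtain ⟨e1⟩ := exists_localizedModule_self_equiv q.asIdeal
    rw [depth_congr e1]
    have hqU : hV.fromSpec q ∉ (U : Set X) := by
      have : q ∈ PrimeSpectrum.zeroLocus (I : Set A) := hq
      rwa [← hI] at this
    have hqV : hV.fromSpec q ∈ V := by
      rw [← SetLike.mem_coe, ← hV.range_fromSpec]; exact ⟨q, rfl⟩
    letI := (TopCat.Presheaf.algebra_section_stalk X.presheaf (⟨hV.fromSpec q, hqV⟩ : V))
    haveI : IsLocalization.AtPrime (X.presheaf.stalk (hV.fromSpec q)) q.asIdeal := hV.isLocalization_stalk' q hqV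
    haveI : IsNoetherianRing (X.presheaf.stalk (hV.fromSpec q)) :=
      IsLocalization.isNoetherianRing q.asIdeal.primeCompl _ inferInstance
    let E : X.presheaf.stalk (hV.fromSpec q) ≃+* Localization.AtPrime q.asIdeal :=
      (IsLocalization.algEquiv q.asIdeal.primeCompl _ _).toRingEquiv
    rw [← H05EGA4.depth_eq_of_ringEquiv E]
    exact h _ hqU
  have hpre := isPreconnected_compl_zeroLocus I idempotent_trivial_of_connected hd
  have hVU : hV.fromSpec '' (PrimeSpectrum.zeroLocus (I : Set A))ᶜ = (V : Set X) ∩ (U : Set X) := by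
    rw [← hI]
    erw [Set.preimage_compl, compl_compl, Set.image_preimage_eq_range_inter, hV.range_fromSpec]
  refine ⟨V, V.2, hxV, fun y hy => hV₀W (X.basicOpen_le e hy), hVU ▸ hpre.image _ hV.fromSpec.continuous.continuousOn, ?_⟩
  rw [← hVU, Set.image_nonempty]
  by_contra hne
  obtain ⟨y, hy, hyreg, -⟩ := exists_regular_two hd
  have hyn : IsNilpotent y := by
    rw [nilpotent_iff_mem_prime]
    intro P hP
    by_contra hyP
    exact hne ⟨⟨P, hP⟩, fun hP' => hyP (hP' hy)⟩
  obtain ⟨n, hn⟩ := hyn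
  have : (1 : A) = 0 := (hyreg.pow n) (show y ^ n • (1 : A) = y ^ n • (0 : A) by simp [hn])
  haveI hnt : Nontrivial A := (hV.primeIdealOf ⟨x, hxV⟩).nontrivial
  exact one_ne_zero this

end Groth.Agent.H4Depth
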