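import Groth.Agent.H4Depth.FlatFour
import Groth.Agent.H4Depth.FibreDepth
import Groth.Agent.H4Depth.SkFree
import Groth.Agent.H7Flat.InjectiveModMax
import Mathlib.RingTheory.Regular.RegularSequence
import Mathlib.RingTheory.IsTensorProduct

/-!
# Depth of flat modules after base change of the base
-/

set_option autoImplicit false
set_option linter.style.haveILetI false
set_option linter.unusedSectionVars false

universe u

open TensorProduct IsLocalRing RingTheory.Sequence
open scoped Pointwise

namespace Groth.Agent.H4Depth

section Units

variable {S : Type u} [CommRing S]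

theorem isWeaklyRegular_unit_smul : ∀ (l : List (S × Sˣ)) (M : Type u) [AddCommGroup M] [Module S M],
    IsWeaklyRegular M (l.map Prod.fst) → IsWeaklyRegular M (l.map fun p => (p.2 : S) * p.1) := by
  intro l
  induction l with
  | nil => intro M _ _ _; exact IsWeaklyRegular.nil S M
  | cons p l ih =>
    intro M _ _ h
    rw [List.map_cons, isWeaklyRegular_cons_iff] at h ⊢
    refine ⟨p.2.isUnit.isSMulRegular M |>.mul h.1, ?_⟩
    have heq : ((p.2 : S) * p.1) • (⊤ : Submodule S M) = p.1 • (⊤ : Submodule S M) := by
      rw [← Submodule.ideal_span_singleton_smul, ← Submodule.ideal_span_singleton_smul,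
        Ideal.span_singleton_mul_left_unit p.2.isUnit]
    exact ((Submodule.quotEquivOfEq _ _ heq).isWeaklyRegular_congr _).2 (ih _ h.2)

end Units

section LocalTensor

variable {R S : Type u} [CommRing R] [CommRing S] [IsNoetherianRing R] [IsNoetherianRing S] [IsLocalRing R]
  [IsLocalRing S] [Algebra R S] [IsLocalHom (algebraMap R S)]

/-- Regular sequences on the closed fibre of a flat module stay regular after tensoring. -/
theorem isWeaklyRegular_tensor (X : Type u) [AddCommGroup X] [Module R X] : ∀ (xs : List S) (N : Type u)
    [AddCommGroup N] [Module S N] [Module R N] [IsScalarTower R S N] [Module.Finite S N] [Module.Flat R N],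
    IsWeaklyRegular (N ⊗[R] (R ⧸ maximalIdeal R)) xs → IsWeaklyRegular (N ⊗[R] X) xs := by
  intro xs
  induction xs with
  | nil => intro N _ _ _ _ _ _ _; exact IsWeaklyRegular.nil S _
  | cons x xs ih =>
    intro N _ _ _ _ _ _ hreg
    rw [isWeaklyRegular_cons_iff] at hreg ⊢
    let u : N →ₗ[S] N := LinearMap.lsmul S N x
    let Q := QuotSMulTop x N
    let π : N →ₗ[S] Q := Submodule.mkQ _
    have hexact : Function.Exact u π := LinearMap.exact_lsmul_mkQ_smul_top N x
    have hu : ∀ (Y : Type u) [AddCommGroup Y] [Module R Y] (z : N ⊗[R] Y),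
        AlgebraTensorModule.rTensor R Y u z = x • z := fun Y _ _ z => by
      induction z using TensorProduct.induction_on with
      | zero => simp
      | tmul n y => simp [u, TensorProduct.smul_tmul']
      | add a b ha hb => simp only [map_add, ha, hb, smul_add]
    have hrT : Function.Injective ((u.restrictScalars R).rTensor (ResidueField R)) := fun a b hab =>
      hreg.1 (show x • (a : N ⊗[R] (R ⧸ maximalIdeal R)) = x • b from (hu _ a).symm.trans (Eq.trans hab (hu _ b)))
    have hres : Function.Injective ((u.restrictScalars R).lTensor (ResidueField R)) := by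
      rw [← LinearMap.comm_comp_rTensor_comp_comm_eq (u.restrictScalars R)]
      exact (TensorProduct.comm R N (ResidueField R)).injective.comp
        (hrT.comp (TensorProduct.comm R (ResidueField R) N).injective)
    obtain ⟨hinj, hflat⟩ := H7Flat.injective_and_flat_quotient (S := S) (u.restrictScalars R) hres
    haveI : Module.Flat R Q := by
      refine Module.Flat.of_linearEquiv ((Submodule.quotEquivOfEq (LinearMap.range (u.restrictScalars R))
        (LinearMap.ker (π.restrictScalars R)) ?_).trans
        ((π.restrictScalars R).quotKerEquivOfSurjective (Submodule.mkQ_surjective _))).symm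
      exact ((LinearMap.exact_iff (f := u.restrictScalars R) (g := π.restrictScalars R)).1 hexact).symm
    have eQ : ∀ (Y : Type u) [AddCommGroup Y] [Module R Y],
        Nonempty (QuotSMulTop x (N ⊗[R] Y) ≃ₗ[S] Q ⊗[R] Y) := fun Y _ _ => by
      refine ⟨H8Props.FlatDepth.equivOfKerEq (Submodule.mkQ _) (AlgebraTensorModule.rTensor R Y π)
        (Submodule.mkQ_surjective _) (LinearMap.rTensor_surjective (g := π.restrictScalars R) Y
          (Submodule.mkQ_surjective _)) ?_⟩
      rw [Submodule.ker_mkQ]
      ext z
      rw [LinearMap.mem_ker, Submodule.mem_smul_pointwise_iff_exists]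
      constructor
      · rintro ⟨w, -, rfl⟩
        rw [← hu Y w]
        exact (rTensor_exact (f := u.restrictScalars R) (g := π.restrictScalars R) Y hexact
          (Submodule.mkQ_surjective _)).apply_apply_eq_zero w
      · intro hz
        obtain ⟨w, hw⟩ := (rTensor_exact (f := u.restrictScalars R) (g := π.restrictScalars R) Y hexact
          (Submodule.mkQ_surjective _) z).1 hz
        exact ⟨w, trivial, (hu Y w).symm.trans hw⟩
    obtain ⟨e1⟩ := eQ (R ⧸ maximalIdeal R)
    obtain ⟨e2⟩ := eQ X
    refine ⟨fun a b hab => ?_, (e2.isWeaklyRegular_congr xs).2 (ih Q ((e1.isWeaklyRegular_congr xs).1 hreg.2))⟩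
    exact rTensor_injective_of_flat (u.restrictScalars R) (π.restrictScalars R) hinj hexact
      (Submodule.mkQ_surjective _) X ((hu X a).trans (hab.trans (hu X b).symm))

end LocalTensor

section Descend

variable {B B' : Type u} [CommRing B] [CommRing B'] [Algebra B B']

/-- Weak regularity passes from the localization below to the localization above. -/
theorem isWeaklyRegular_localization_of_comap (T : Type u) [AddCommGroup T] [Module B' T] [Module B T]
    [IsScalarTower B B' T] {L : Type u} [AddCommGroup L] [Module B L] (q' : Ideal B') [q'.IsPrime]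
    (g : T →ₗ[B] L) [IsLocalizedModule (q'.comap (algebraMap B B')).primeCompl g] (ys : List B)
    (h : IsWeaklyRegular L ys) :
    IsWeaklyRegular (LocalizedModule q'.primeCompl T) (ys.map (algebraMap B (Localization.AtPrime q'))) := by
  haveI : IsScalarTower B (Localization.AtPrime q') (LocalizedModule q'.primeCompl T) :=
    IsScalarTower.of_algebraMap_smul fun b z => by
      rw [IsScalarTower.algebraMap_apply B B' (Localization.AtPrime q'), algebraMap_smul, algebraMap_smul]
  rw [isWeaklyRegular_map_algebraMap_iff, isWeaklyRegular_iff]
  intro i hi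
  rw [isSMulRegular_quotient_iff_mem_of_smul_mem]
  set J := Ideal.ofList (ys.take i) with hJ
  intro z hz
  have hreg := ((isWeaklyRegular_iff L ys).1 h) i hi
  rw [isSMulRegular_quotient_iff_mem_of_smul_mem] at hreg
  induction z using LocalizedModule.induction_on with
  | _ t s' =>
    let mk := LocalizedModule.mkLinearMap q'.primeCompl T
    have hres : ∀ w : LocalizedModule q'.primeCompl T, w ∈ J • (⊤ : Submodule B (LocalizedModule q'.primeCompl T)) ↔
        w ∈ J.map (algebraMap B B') • (⊤ : Submodule B' (LocalizedModule q'.primeCompl T)) := fun w => by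
      rw [← Submodule.restrictScalars_mem B (J.map (algebraMap B B') • (⊤ : Submodule B' (LocalizedModule q'.primeCompl T))), Ideal.smul_restrictScalars, Submodule.restrictScalars_top]
    have hresT : ∀ w : T, w ∈ J • (⊤ : Submodule B T) ↔ w ∈ J.map (algebraMap B B') • (⊤ : Submodule B' T) := fun w => by
      rw [← Submodule.restrictScalars_mem B (J.map (algebraMap B B') • (⊤ : Submodule B' T)), Ideal.smul_restrictScalars, Submodule.restrictScalars_top]
    have hy : mk (ys[i] • t) ∈ J.map (algebraMap B B') • (⊤ : Submodule B' (LocalizedModule q'.primeCompl T)) := by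
      have h2 := Submodule.smul_mem _ (s' : B') ((hres _).1 hz)
      rwa [smul_comm, LocalizedModule.smul'_mk, show ((s' : B') • t) = s' • t from rfl,
        LocalizedModule.mk_cancel, ← LocalizedModule.mkLinearMap_apply (S := q'.primeCompl),
        ← LinearMap.map_smul_of_tower] at h2
    obtain ⟨s, hs, hst⟩ := exists_smul_mem_of_map_mem_smul_top q'.primeCompl mk _ hy
    rw [← hresT, smul_comm] at hst
    have hg : g (s • t) ∈ J • (⊤ : Submodule B L) := hreg _ (by
      rw [← map_smul]
      have := Submodule.mem_map_of_mem (f := g) hst
      rw [Submodule.map_smul''] at this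
      exact Submodule.smul_mono le_rfl le_top this)
    obtain ⟨c, hc, hct⟩ := exists_smul_mem_of_map_mem_smul_top (q'.comap (algebraMap B B')).primeCompl g _ hg
    rw [hresT] at hct
    rw [hres]
    have hmem : mk (c • s • t) ∈ J.map (algebraMap B B') • (⊤ : Submodule B' (LocalizedModule q'.primeCompl T)) := by
      have := Submodule.mem_map_of_mem (f := mk) hct
      rw [Submodule.map_smul''] at this
      exact Submodule.smul_mono le_rfl le_top this
    have hu : algebraMap B B' c * s * s' ∈ q'.primeCompl := mul_mem (mul_mem hc hs) s'.2
    have h1 : (algebraMap B B' c * s * s') • LocalizedModule.mk t s' = mk (c • s • t) := by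
      rw [LocalizedModule.smul'_mk, mul_comm (algebraMap B B' c * s), mul_smul, show ((s' : B') • ((algebraMap B B' c * s) • t)) =
        s' • ((algebraMap B B' c * s) • t) from rfl, LocalizedModule.mk_cancel, mul_smul, algebraMap_smul]
      rfl
    obtain ⟨a, ha⟩ := (IsLocalization.map_units (Localization.AtPrime q') (⟨_, hu⟩ : q'.primeCompl)).exists_left_inv
    rw [← h1] at hmem
    have hfin : a • ((algebraMap B B' c * s * s') • LocalizedModule.mk t s') ∈
        (J.map (algebraMap B B') • (⊤ : Submodule B' (LocalizedModule q'.primeCompl T))) := by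
      rw [← Submodule.restrictScalars_top B' (Localization.AtPrime q') (LocalizedModule q'.primeCompl T),
        ← Ideal.smul_restrictScalars, Submodule.restrictScalars_mem]
      refine Submodule.smul_mem _ a ?_
      rwa [← Submodule.restrictScalars_mem B', Ideal.smul_restrictScalars, Submodule.restrictScalars_top]
    rwa [← algebraMap_smul (Localization.AtPrime q') (algebraMap B B' c * s * s'), smul_smul, ha, one_smul] at hfin

end Descend

section BaseChange

variable {A B : Type u} [CommRing A] [CommRing B] [IsNoetherianRing A] [IsNoetherianRing B] [Algebra A B]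

/-- Depth at a prime above `q` of `E ⊗ X`, from the depth of the fibre of `E` at `q`. -/
theorem le_depth_of_fibre_baseChange (E : Type u) [AddCommGroup E] [Module B E] [Module A E] [IsScalarTower A B E]
    [Module.Finite B E] [Module.Flat A E] {X : Type u} [AddCommGroup X] [Module A X]
    {B' : Type u} [CommRing B'] [IsNoetherianRing B'] [Algebra B B']
    (T : Type u) [AddCommGroup T] [Module B' T] [Module B T] [IsScalarTower B B' T] [Module.Finite B' T]
    (e : E ⊗[A] X ≃ₗ[B] T) (q' : Ideal B') [q'.IsPrime] (k : ℕ)
    (h : (k : ℕ∞) ≤ LocCoh.depth (Localization.AtPrime (q'.comap (algebraMap B B')))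
      (EGA4.FibLocMod A B (q'.comap (algebraMap B B')) E)) :
    (k : ℕ∞) ≤ LocCoh.depth (Localization.AtPrime q') (LocalizedModule q'.primeCompl T) := by
  set q := q'.comap (algebraMap B B') with hqdef
  set s := q.comap (algebraMap A B) with hs
  haveI : q.LiesOver s := ⟨rfl⟩
  letI := Localization.AtPrime.algebraOfLiesOver s q
  haveI : IsLocalHom (algebraMap (Localization.AtPrime s) (Localization.AtPrime q)) := by
    rw [Localization.AtPrime.IsLiesOverAlgebra.algebraMap_eq]
    infer_instance
  let N := LocalizedModule q.primeCompl E
  letI : Module (Localization.AtPrime s) N := Module.compHom N (algebraMap (Localization.AtPrime s) (Localization.AtPrime q))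
  haveI : IsScalarTower (Localization.AtPrime s) (Localization.AtPrime q) N := IsScalarTower.of_algebraMap_smul fun _ _ => rfl
  haveI : IsScalarTower A (Localization.AtPrime q) N := IsScalarTower.of_algebraMap_smul fun a x => by
    rw [IsScalarTower.algebraMap_apply A B (Localization.AtPrime q), algebraMap_smul, algebraMap_smul]
  haveI : IsScalarTower A (Localization.AtPrime s) N := IsScalarTower.of_algebraMap_smul fun a x => by
    show algebraMap (Localization.AtPrime s) (Localization.AtPrime q) (algebraMap A (Localization.AtPrime s) a) • x = a • x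
    rw [← IsScalarTower.algebraMap_apply, algebraMap_smul]
  haveI : Module.Flat (Localization.AtPrime s) N :=
    (Module.flat_iff_of_isLocalization (Localization.AtPrime s) s.primeCompl N).mpr (flatAt_of_flat (A := A) (M := E) ⟨q, inferInstance⟩)
  haveI : Module.Finite (Localization.AtPrime q) N := Module.Finite.of_isLocalizedModule q.primeCompl
    (LocalizedModule.mkLinearMap q.primeCompl E)
  haveI : IsScalarTower B (Localization.AtPrime q) N := inferInstance
  let g : T →ₗ[B] N ⊗[A] X :=
    AlgebraTensorModule.rTensor A X (LocalizedModule.mkLinearMap q.primeCompl E) ∘ₗ e.symm.toLinearMap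
  haveI : IsLocalizedModule q.primeCompl g :=
    IsLocalizedModule.of_linearEquiv_right q.primeCompl (AlgebraTensorModule.rTensor A X (LocalizedModule.mkLinearMap q.primeCompl E)) e.symm
  have heq : (maximalIdeal (Localization.AtPrime s)).map (algebraMap (Localization.AtPrime s) (Localization.AtPrime q)) =
      s.map (algebraMap A (Localization.AtPrime q)) := by
    rw [← Localization.AtPrime.map_eq_maximalIdeal, Ideal.map_map, ← IsScalarTower.algebraMap_eq]
  let efib : EGA4.FibLocMod A B q E ≃ₗ[Localization.AtPrime q]
      N ⊗[Localization.AtPrime s] (Localization.AtPrime s ⧸ maximalIdeal (Localization.AtPrime s)) :=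
    (Submodule.quotEquivOfEq _ _ (congrArg (fun J => J • (⊤ : Submodule (Localization.AtPrime q) N)) heq.symm)).trans
      (tensorQuotEquiv (maximalIdeal (Localization.AtPrime s)))
  haveI : Module.Finite B' T := ‹_›
  by_cases hne : maximalIdeal (Localization.AtPrime q) • (⊤ : Submodule (Localization.AtPrime q) (EGA4.FibLocMod A B q E)) = ⊤
  · haveI hF0 : Subsingleton (EGA4.FibLocMod A B q E) := by
      by_contra hc
      haveI := not_subsingleton_iff_nontrivial.1 hc
      exact maximalIdeal_smul_top_ne_top hne
    have hN : Subsingleton N := by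
      by_contra hc
      haveI := not_subsingleton_iff_nontrivial.1 hc
      refine H1CAlg.FlatDepthModule.smul_top_ne_top (P := N) (I := s.map (algebraMap A (Localization.AtPrime q))) ?_
        (Submodule.Quotient.subsingleton_iff.1 hF0)
      rw [← heq]
      exact map_maximalIdeal_le _
    have : Subsingleton (LocalizedModule q'.primeCompl T) := by
      rw [LocalizedModule.subsingleton_iff]
      intro t
      have hgt : g t = 0 := by
        show AlgebraTensorModule.rTensor A X (LocalizedModule.mkLinearMap q.primeCompl E) (e.symm t) = 0
        induction e.symm t using TensorProduct.induction_on with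
        | zero => exact map_zero _
        | tmul n x => rw [AlgebraTensorModule.rTensor_tmul, Subsingleton.elim (LocalizedModule.mkLinearMap q.primeCompl E n) 0, zero_tmul]
        | add a b ha hb => rw [map_add, ha, hb, add_zero]
      obtain ⟨c, hc⟩ := (IsLocalizedModule.eq_zero_iff q.primeCompl g).1 hgt
      exact ⟨algebraMap B B' c, c.2, by rw [algebraMap_smul]; exact hc⟩
    exact le_of_le_of_eq le_top (idealDepth_eq_top (Subsingleton.elim _ _)).symm
  obtain ⟨xs, hlen, hmem, hreg⟩ := exists_isWeaklyRegular_of_le_idealDepth hne h
  have hsurj : ∀ x : Localization.AtPrime q, ∃ y : B, ∃ c : (Localization.AtPrime q)ˣ,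
      algebraMap B (Localization.AtPrime q) y = (c : Localization.AtPrime q) * x := fun x => by
    obtain ⟨⟨y, t⟩, ht⟩ := IsLocalization.surj q.primeCompl x
    exact ⟨y, (IsLocalization.map_units (Localization.AtPrime q) t).unit, by rw [IsUnit.unit_spec, mul_comm]; exact ht.symm⟩
  choose y c hyc using hsurj
  have hys : IsWeaklyRegular (N ⊗[Localization.AtPrime s] (Localization.AtPrime s ⧸ maximalIdeal (Localization.AtPrime s)))
      ((xs.map y).map (algebraMap B (Localization.AtPrime q))) := by
    have h1 := isWeaklyRegular_unit_smul (xs.map fun x => (x, c x)) _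
      (show IsWeaklyRegular _ _ by rw [List.map_map]; simpa [Function.comp_def] using (efib.isWeaklyRegular_congr xs).1 hreg)
    rw [List.map_map] at h1 ⊢
    simpa [Function.comp_def, hyc] using h1
  have htens := isWeaklyRegular_tensor (Localization.AtPrime s ⊗[A] X) _ N hys
  have hNX : IsWeaklyRegular (N ⊗[A] X) (xs.map y) :=
    (isWeaklyRegular_map_algebraMap_iff (Localization.AtPrime q) (N ⊗[A] X) _).1
      (((AlgebraTensorModule.cancelBaseChange A (Localization.AtPrime s) (Localization.AtPrime q) N X).isWeaklyRegular_congr _).1 htens)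
  have hfinal := isWeaklyRegular_localization_of_comap T q' g (xs.map y) hNX
  refine le_of_eq_of_le (by simp [hlen]) (length_le_idealDepth hfinal fun r hr => ?_)
  obtain ⟨w, hw, rfl⟩ := List.mem_map.1 hr
  obtain ⟨x, hx, rfl⟩ := List.mem_map.1 hw
  rw [IsScalarTower.algebraMap_apply B B' (Localization.AtPrime q')]
  refine (IsLocalization.AtPrime.to_map_mem_maximal_iff _ q' _).2 ?_
  have : algebraMap B (Localization.AtPrime q) (y x) ∈ maximalIdeal (Localization.AtPrime q) := by
    rw [hyc]; exact Ideal.mul_mem_left _ _ (hmem x hx)
  exact (IsLocalization.AtPrime.to_map_mem_maximal_iff _ q _).1 this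

/-- The fibre of `B` over itself. -/
noncomputable def fibLocModSelf (q : Ideal B) [q.IsPrime] :
    EGA4.FibLocMod A B q B ≃ₗ[Localization.AtPrime q] EGA4.FibLocRing A B q :=
  Submodule.Quotient.equiv _ _ (exists_localizedModule_self_equiv q).some (by
    rw [Submodule.map_smul'', Submodule.map_top, LinearEquiv.range, Ideal.smul_eq_mul, Ideal.mul_top])

theorem le_depth_fibLocRing {q : Ideal B} [q.IsPrime] {k : ℕ∞}
    (h : k ≤ LocCoh.idealDepth (q.map (algebraMap B (EGA4.FibLocRing A B q))) (EGA4.FibLocRing A B q)) :
    k ≤ LocCoh.depth (Localization.AtPrime q) (EGA4.FibLocMod A B q B) := by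
  rw [map_map_eq_map_maximal, H8Props.FlatDepth.idealDepth_map_of_surjective Ideal.Quotient.mk_surjective] at h
  exact h.trans (depth_congr (fibLocModSelf q)).ge

theorem le_depth_fibLocMod {q : Ideal B} [q.IsPrime] {E : Type u} [AddCommGroup E] [Module B E] {k : ℕ∞}
    (h : k ≤ LocCoh.idealDepth (q.map (algebraMap B (EGA4.FibLocRing A B q))) (EGA4.FibLocMod A B q E)) :
    k ≤ LocCoh.depth (Localization.AtPrime q) (EGA4.FibLocMod A B q E) := by
  rwa [map_map_eq_map_maximal, H8Props.FlatDepth.idealDepth_map_of_surjective Ideal.Quotient.mk_surjective] at h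

end BaseChange

end Groth.Agent.H4Depth
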