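import Groth.Agent.H4Depth.FlatOff
import Groth.Agent.H4Depth.DepthHom
import Groth.Agent.H8Props.FlatKernel
import Groth.Agent.H7Flat.FlatAtFinite

/-!
# Four-term exact sequences and flatness away from a closed set
-/

set_option autoImplicit false
set_option linter.style.haveILetI false
set_option linter.unusedSectionVars false

universe u

open TensorProduct IsLocalRing

namespace Groth.Agent.H4Depth

variable {A B : Type u} [CommRing A] [CommRing B] [Algebra A B]
variable {P M Q : Type u} [AddCommGroup P] [Module B P] [Module A P] [IsScalarTower A B P]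
  [AddCommGroup M] [Module B M] [Module A M] [IsScalarTower A B M]
  [AddCommGroup Q] [Module B Q] [Module A Q] [IsScalarTower A B Q]

theorem rTensor_injective_of_flat (g : P →ₗ[A] M) (f : M →ₗ[A] Q) (hg : Function.Injective g)
    (H : Function.Exact g f) (hf : Function.Surjective f) [Module.Flat A Q] (X : Type u) [AddCommGroup X]
    [Module A X] : Function.Injective (g.rTensor X) := by
  rw [← LinearMap.comm_comp_lTensor_comp_comm_eq g]
  exact (TensorProduct.comm A X M).injective.comp
    ((LinearMap.lTensor_injective_of_exact_of_flat f hf g hg H X).comp (TensorProduct.comm A P X).injective)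

/-- The kernel of a map to a module flat at `q` of modules flat at `q` is flat at `q`. -/
theorem flatAt_kernel (q : PrimeSpectrum B) (g : P →ₗ[B] M) (f : M →ₗ[B] Q) (hg : Function.Injective g)
    (H : Function.Exact g f) (hf : Function.Surjective f) (hM : FlatCA.FlatAt A q.asIdeal M)
    (hQ : FlatCA.FlatAt A q.asIdeal Q) : FlatCA.FlatAt A q.asIdeal P := by
  haveI : Module.Flat A (LocalizedModule q.asIdeal.primeCompl M) := hM
  haveI : Module.Flat A (LocalizedModule q.asIdeal.primeCompl Q) := hQ
  exact H8Props.flat_of_exact (((LocalizedModule.map q.asIdeal.primeCompl g).restrictScalars B).restrictScalars A)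
    (((LocalizedModule.map q.asIdeal.primeCompl f).restrictScalars B).restrictScalars A)
    (LocalizedModule.map_injective q.asIdeal.primeCompl g hg)
    (LocalizedModule.map_exact q.asIdeal.primeCompl g f H)
    (LocalizedModule.map_surjective q.asIdeal.primeCompl f hf)

theorem flatAt_of_flat [Module.Flat A M] (q : PrimeSpectrum B) : FlatCA.FlatAt A q.asIdeal M := by
  refine (H7Flat.FlatAtFinite.flat_localizedModule_iff A q.asIdeal.primeCompl M).2 fun a z hz => ⟨1, one_mem _, ?_⟩
  rw [one_smul]
  exact Module.Flat.lTensor_preserves_injective_linearMap a.subtype a.subtype_injective (hz.trans (map_zero _).symm)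

variable [IsNoetherianRing B] {J : Ideal B}

/-- An element killed by a map which is injective away from `V(J)` is killed by a power of `J`. -/
theorem exists_pow_smul_of_ker' (g : P →ₗ[B] M) (f : M →ₗ[B] Q) (hg : Function.Injective g)
    (H : Function.Exact g f) (hf : Function.Surjective f)
    (hU : ∀ q : PrimeSpectrum B, ¬ J ≤ q.asIdeal → FlatCA.FlatAt A q.asIdeal Q)
    {X : Type u} [AddCommGroup X] [Module A X] (z : P ⊗[A] X) (hz : (g.restrictScalars A).rTensor X z = 0) :
    ∃ k : ℕ, ∀ j ∈ J ^ k, j • z = 0 := by
  have hrad : J ≤ (Submodule.span B {z}).annihilator.radical := by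
    rw [Ideal.radical_eq_sInf]
    refine le_sInf fun p ⟨hp, hpp⟩ => by_contra fun hJp => ?_
    let q : PrimeSpectrum B := ⟨p, hpp⟩
    haveI : Module.Flat A (LocalizedModule q.asIdeal.primeCompl Q) := hU q hJp
    let mk := LocalizedModule.mkLinearMap q.asIdeal.primeCompl P
    let gq := ((LocalizedModule.map q.asIdeal.primeCompl g).restrictScalars B).restrictScalars A
    have hinj := rTensor_injective_of_flat gq
      (((LocalizedModule.map q.asIdeal.primeCompl f).restrictScalars B).restrictScalars A)
      (LocalizedModule.map_injective q.asIdeal.primeCompl g hg)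
      (LocalizedModule.map_exact q.asIdeal.primeCompl g f H)
      (LocalizedModule.map_surjective q.asIdeal.primeCompl f hf) X
    have hcomm : ∀ w : P ⊗[A] X, gq.rTensor X (AlgebraTensorModule.rTensor A X mk w) =
        AlgebraTensorModule.rTensor A X (LocalizedModule.mkLinearMap q.asIdeal.primeCompl M)
          ((g.restrictScalars A).rTensor X w) := by
      intro w
      induction w using TensorProduct.induction_on with
      | zero => simp
      | tmul n x => simp [gq, mk, LocalizedModule.map_mk]
      | add x y hx hy => simp only [map_add, hx, hy]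
    have h0 : AlgebraTensorModule.rTensor A X mk z = 0 := by
      apply hinj
      rw [map_zero, hcomm, hz, map_zero]
    obtain ⟨s, hs⟩ := (IsLocalizedModule.eq_zero_iff q.asIdeal.primeCompl
      (AlgebraTensorModule.rTensor A X mk)).mp h0
    exact s.2 (hp ((Submodule.mem_annihilator_span_singleton z _).2 hs))
  obtain ⟨k, hk⟩ := Ideal.exists_pow_le_of_le_radical_of_fg hrad (IsNoetherian.noetherian J)
  exact ⟨k, fun j hj => (Submodule.mem_annihilator_span_singleton z _).1 (hk hj)⟩

theorem rTensor_injective_of_noTor (g : P →ₗ[B] M) (f : M →ₗ[B] Q) (hg : Function.Injective g)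
    (H : Function.Exact g f) (hf : Function.Surjective f)
    (hU : ∀ q : PrimeSpectrum B, ¬ J ≤ q.asIdeal → FlatCA.FlatAt A q.asIdeal Q)
    {X : Type u} [AddCommGroup X] [Module A X] (hT : NoTor J (P ⊗[A] X)) :
    Function.Injective ((g.restrictScalars A).rTensor X) := by
  rw [injective_iff_map_eq_zero]
  intro z hz
  obtain ⟨k, hk⟩ := exists_pow_smul_of_ker' g f hg H hf hU z hz
  exact hT z k hk

end Groth.Agent.H4Depth
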