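import Groth.Agent.H4Depth.BaseDepth
import Groth.Agent.H1CAlg.Reflexive
import Groth.Agent.H1CAlg.Associated
import Groth.Agent.H1CAlg.DepthHom

/-!
# Base change of double duals
-/

set_option autoImplicit false
set_option linter.style.haveILetI false
set_option linter.unusedSectionVars false

universe u

open TensorProduct IsLocalRing

namespace Groth.Agent.H4Depth

variable {B B' : Type u} [CommRing B] [CommRing B'] [Algebra B B']

theorem free_localized_baseChange (F : Type u) [AddCommGroup F] [Module B F] (q' : Ideal B') [q'.IsPrime]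
    (h : Module.Free (Localization.AtPrime (q'.comap (algebraMap B B')))
      (LocalizedModule (q'.comap (algebraMap B B')).primeCompl F)) :
    Module.Free (Localization.AtPrime q') (LocalizedModule q'.primeCompl (B' ⊗[B] F)) := by
  set q := q'.comap (algebraMap B B') with hq
  haveI : q'.LiesOver q := ⟨rfl⟩
  letI := Localization.AtPrime.algebraOfLiesOver q q'
  haveI : Module.Free (Localization.AtPrime q) (Localization.AtPrime q ⊗[B] F) :=
    Module.Free.of_equiv (LocalizedModule.equivTensorProduct q.primeCompl F)
  exact Module.Free.of_equiv ((AlgebraTensorModule.cancelBaseChange B (Localization.AtPrime q) (Localization.AtPrime q')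
    (Localization.AtPrime q') F) ≪≫ₗ (AlgebraTensorModule.cancelBaseChange B B' (Localization.AtPrime q')
    (Localization.AtPrime q') F).symm ≪≫ₗ (LocalizedModule.equivTensorProduct q'.primeCompl (B' ⊗[B] F)).symm)

theorem exists_inverse_up_to [IsNoetherianRing B] {F G : Type u} [AddCommGroup F] [Module B F] [Module.Finite B F]
    [AddCommGroup G] [Module B G] [Module.Finite B G] (φ : F →ₗ[B] G) (T : Submonoid B)
    (h : Function.Bijective (LocalizedModule.map T φ)) :
    ∃ (g : G →ₗ[B] F) (s : T), g ∘ₗ φ = (s : B) • LinearMap.id ∧ φ ∘ₗ g = (s : B) • LinearMap.id := by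
  haveI : Module.FinitePresentation B G := Module.finitePresentation_of_finite _ _
  let e := LinearEquiv.ofBijective _ h
  obtain ⟨σ, s, hσ⟩ := Module.FinitePresentation.exists_lift_of_isLocalizedModule T
    (LocalizedModule.mkLinearMap T F) (e.symm.toLinearMap.restrictScalars B ∘ₗ LocalizedModule.mkLinearMap T G)
  have h1 : (LocalizedModule.mkLinearMap T F).comp (σ ∘ₗ φ) =
      (LocalizedModule.mkLinearMap T F).comp ((s : B) • LinearMap.id) := by
    refine LinearMap.ext fun x => ?_
    have hx := LinearMap.congr_fun hσ (φ x)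
    simp only [LinearMap.comp_apply, LinearMap.smul_apply, LinearMap.coe_restrictScalars,
      Submonoid.smul_def, LinearMap.id_apply, map_smul] at hx ⊢
    rw [hx]
    congr 1
    exact e.symm_apply_eq.2 (LocalizedModule.map_mk T φ x 1).symm
  have h2 : (LocalizedModule.mkLinearMap T G).comp (φ ∘ₗ σ) =
      (LocalizedModule.mkLinearMap T G).comp ((s : B) • LinearMap.id) := by
    refine LinearMap.ext fun x => ?_
    have hx := congrArg (LocalizedModule.map T φ) (LinearMap.congr_fun hσ x)
    simp only [LinearMap.comp_apply, LinearMap.smul_apply, LinearMap.coe_restrictScalars,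
      Submonoid.smul_def, LinearMap.id_apply, map_smul, LocalizedModule.mkLinearMap_apply,
      LocalizedModule.map_mk] at hx ⊢
    rw [hx, LinearMap.map_smul_of_tower, LocalizedModule.smul'_mk]
    refine ((congrArg ((s : B) • ·) (e.apply_symm_apply (LocalizedModule.mk x 1))).trans ?_)
    rw [LocalizedModule.smul'_mk]
  obtain ⟨t₁, ht₁⟩ := Module.Finite.exists_smul_of_comp_eq_of_isLocalizedModule T
    (LocalizedModule.mkLinearMap T F) _ _ h1
  obtain ⟨t₂, ht₂⟩ := Module.Finite.exists_smul_of_comp_eq_of_isLocalizedModule T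
    (LocalizedModule.mkLinearMap T G) _ _ h2
  refine ⟨((t₁ * t₂ : T) : B) • σ, t₁ * t₂ * s, ?_, ?_⟩
  · rw [LinearMap.smul_comp]
    simp only [Submonoid.coe_mul]
    rw [mul_comm (t₁ : B), mul_smul,
      show (t₁ : B) • (σ ∘ₗ φ) = (t₁ : B) • ((s : B) • LinearMap.id) from ht₁]
    simp only [Submonoid.coe_mul, smul_smul]
    ring_nf
  · rw [LinearMap.comp_smul]
    simp only [Submonoid.coe_mul]
    rw [mul_smul,
      show (t₂ : B) • (φ ∘ₗ σ) = (t₂ : B) • ((s : B) • LinearMap.id) from ht₂]
    simp only [smul_smul, mul_assoc]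

theorem bijective_localized_of_inverse {R : Type u} [CommRing R] {M N : Type u} [AddCommGroup M] [Module R M]
    [AddCommGroup N] [Module R N] (φ : M →ₗ[R] N) (g : N →ₗ[R] M) (T : Submonoid R) (s : T)
    (h1 : g ∘ₗ φ = (s : R) • LinearMap.id) (h2 : φ ∘ₗ g = (s : R) • LinearMap.id) :
    Function.Bijective (LocalizedModule.map T φ) := by
  constructor
  · rw [injective_iff_map_eq_zero]
    intro x hx
    induction x using LocalizedModule.induction_on with
    | _ m t =>
      rw [LocalizedModule.map_mk, ← LocalizedModule.zero_mk t, LocalizedModule.mk_eq] at hx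
      obtain ⟨c, hc⟩ := hx
      rw [← LocalizedModule.zero_mk t, LocalizedModule.mk_eq]
      refine ⟨c * s, ?_⟩
      have := congrArg g hc
      simp only [Submonoid.smul_def, smul_zero, map_zero, map_smul, LinearMap.congr_fun h1 _,
        show ∀ y, g (φ y) = (s : R) • y from fun y => LinearMap.congr_fun h1 y] at this ⊢
      rw [Submonoid.coe_mul, mul_smul, smul_comm (s : R) (t : R)]
      exact this
  · intro y
    induction y using LocalizedModule.induction_on with
    | _ n t =>
      refine ⟨LocalizedModule.mk (g n) (s * t), ?_⟩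
      rw [LocalizedModule.map_mk, show φ (g n) = (s : R) • n from LinearMap.congr_fun h2 n]
      exact LocalizedModule.mk_cancel_common_left s t n

/-- Dualising a map which is an isomorphism off a closed set of depth two gives an isomorphism. -/
theorem bijective_dualMap [IsNoetherianRing B'] {M N : Type u} [AddCommGroup M] [Module B' M] [Module.Finite B' M]
    [AddCommGroup N] [Module B' N] [Module.Finite B' N] (J : Ideal B') (hd : 2 ≤ LocCoh.idealDepth J B')
    (φ : M →ₗ[B'] N)
    (h : ∀ p : PrimeSpectrum B', ¬ J ≤ p.asIdeal →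
      ∃ (g : N →ₗ[B'] M) (s : p.asIdeal.primeCompl), g ∘ₗ φ = (s : B') • LinearMap.id ∧ φ ∘ₗ g = (s : B') • LinearMap.id) :
    Function.Bijective φ.dualMap := by
  obtain ⟨n₀, m₀, f₀, g₀, hf₀, -⟩ := exists_dual_presentation (R := B') N
  haveI : Module.Finite B' (Module.Dual B' N) := Module.Finite.of_injective f₀ hf₀
  obtain ⟨n₁, m₁, f₁, g₁, hf₁, -⟩ := exists_dual_presentation (R := B') M
  haveI : Module.Finite B' (Module.Dual B' M) := Module.Finite.of_injective f₁ hf₁
  refine H1CAlg.bijective_of_depth_two _ fun p _ => ?_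
  by_cases hJp : J ≤ p
  · refine Or.inr ⟨(H1CAlg.two_le_idealDepth_hom J N hd).trans (idealDepth_le_depth_localization p hJp), fun hass => ?_⟩
    have hne : J • (⊤ : Submodule B' B') ≠ ⊤ := fun h => by
      rw [Ideal.smul_eq_mul, Ideal.mul_top] at h
      exact (inferInstance : p.IsPrime).ne_top (top_le_iff.1 (h ▸ hJp))
    obtain ⟨x, hx, hreg⟩ := (one_le_idealDepth_iff hne).1 (le_trans one_le_two hd)
    refine not_isSMulRegular_of_mem_associatedPrimes hass (hJp hx) fun a b hab => LinearMap.ext fun m => ?_
    exact hreg (LinearMap.congr_fun hab m)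
  · obtain ⟨g, s, h1, h2⟩ := h ⟨p, ‹_›⟩ hJp
    refine Or.inl (bijective_localized_of_inverse φ.dualMap g.dualMap p.primeCompl s ?_ ?_)
    · rw [LinearMap.dualMap_comp_dualMap, h2]
      exact LinearMap.ext fun f => LinearMap.ext fun x => by simp
    · rw [LinearMap.dualMap_comp_dualMap, h1]
      exact LinearMap.ext fun f => LinearMap.ext fun x => by simp

end Groth.Agent.H4Depth
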