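import Groth.Agent.H4Depth.BaseDepth
import Groth.Agent.H4Depth.FibreDepth

/-!
# Depth along an ideal of a localized fibre
-/

set_option autoImplicit false
set_option linter.style.haveILetI false
set_option linter.unusedSectionVars false

universe u

open TensorProduct IsLocalRing RingTheory.Sequence

namespace Groth.Agent.H4Depth

/-- `M ⊗ A/I` as a quotient of `M`, for any algebra. -/
noncomputable def quotMapTensorEquiv {A B : Type u} [CommRing A] [CommRing B] [Algebra A B] (M : Type u)
    [AddCommGroup M] [Module B M] [Module A M] [IsScalarTower A B M] (I : Ideal A) :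
    (M ⧸ (I.map (algebraMap A B) • (⊤ : Submodule B M))) ≃ₗ[B] M ⊗[A] (A ⧸ I) :=
  let g : M →ₗ[B] M ⊗[A] (A ⧸ I) :=
    { toFun := fun x => x ⊗ₜ[A] (1 : A ⧸ I)
      map_add' := fun x y => add_tmul x y _
      map_smul' := fun b x => (TensorProduct.smul_tmul' b x _).symm }
  Submodule.quotEquivOfEq _ _ (by
    ext x
    show _ ↔ x ⊗ₜ[A] (1 : A ⧸ I) = 0
    rw [← TensorProduct.tensorQuotEquivQuotSMul_symm_mk, LinearEquiv.map_eq_zero_iff,
      Submodule.Quotient.mk_eq_zero, ← Submodule.restrictScalars_mem A, Ideal.smul_restrictScalars,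
      Submodule.restrictScalars_top]) ≪≫ₗ
    g.quotKerEquivOfSurjective (fun z => by
      induction z using TensorProduct.induction_on with
      | zero => exact ⟨0, zero_tmul _ _⟩
      | tmul x a =>
        obtain ⟨a, rfl⟩ := Ideal.Quotient.mk_surjective a
        refine ⟨a • x, ?_⟩
        show (a • x) ⊗ₜ[A] (1 : A ⧸ I) = _
        rw [TensorProduct.smul_tmul, Algebra.smul_def, mul_one]
        rfl
      | add x y hx hy =>
        obtain ⟨p, rfl⟩ := hx
        obtain ⟨q, rfl⟩ := hy
        exact ⟨p + q, map_add g p q⟩)

section Descend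

variable {B L : Type u} [CommRing B] [CommRing L] [Algebra B L] [IsNoetherianRing B] [IsNoetherianRing L]

/-- Depth passes from a localization below to the localization above. -/
theorem le_depth_localized_of_comap (Q : Ideal L) [Q.IsPrime] (T : Type u) [AddCommGroup T] [Module L T]
    [Module B T] [IsScalarTower B L T] (X : Type u) [AddCommGroup X] [Module B X]
    [Module (Localization.AtPrime (Q.comap (algebraMap B L))) X]
    [IsScalarTower B (Localization.AtPrime (Q.comap (algebraMap B L))) X]
    [Module.Finite (Localization.AtPrime (Q.comap (algebraMap B L))) X]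
    (g : T →ₗ[B] X) [IsLocalizedModule (Q.comap (algebraMap B L)).primeCompl g] (k : ℕ)
    (h : (k : ℕ∞) ≤ LocCoh.depth (Localization.AtPrime (Q.comap (algebraMap B L))) X) :
    (k : ℕ∞) ≤ LocCoh.depth (Localization.AtPrime Q) (LocalizedModule Q.primeCompl T) := by
  set r := Q.comap (algebraMap B L) with hr
  by_cases hne : maximalIdeal (Localization.AtPrime r) • (⊤ : Submodule (Localization.AtPrime r) X) = ⊤
  · haveI hX : Subsingleton X := by
      by_contra hc
      haveI := not_subsingleton_iff_nontrivial.1 hc
      exact maximalIdeal_smul_top_ne_top hne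
    have : Subsingleton (LocalizedModule Q.primeCompl T) := by
      rw [LocalizedModule.subsingleton_iff]
      intro t
      obtain ⟨c, hc⟩ := (IsLocalizedModule.eq_zero_iff r.primeCompl g).1 (Subsingleton.elim (g t) 0)
      exact ⟨algebraMap B L c, c.2, by rw [algebraMap_smul]; exact hc⟩
    exact le_of_le_of_eq le_top (idealDepth_eq_top (Subsingleton.elim _ _)).symm
  obtain ⟨xs, hlen, hmem, hreg⟩ := exists_isWeaklyRegular_of_le_idealDepth hne h
  have hsurj : ∀ x : Localization.AtPrime r, ∃ y : B, ∃ c : (Localization.AtPrime r)ˣ,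
      algebraMap B (Localization.AtPrime r) y = (c : Localization.AtPrime r) * x := fun x => by
    obtain ⟨⟨y, t⟩, ht⟩ := IsLocalization.surj r.primeCompl x
    exact ⟨y, (IsLocalization.map_units (Localization.AtPrime r) t).unit, by rw [IsUnit.unit_spec, mul_comm]; exact ht.symm⟩
  choose y c hyc using hsurj
  have hys : IsWeaklyRegular X (xs.map y) := by
    have h1 := isWeaklyRegular_unit_smul (xs.map fun x => (x, c x)) X
      (show IsWeaklyRegular _ _ by rw [List.map_map]; simpa [Function.comp_def] using hreg)
    refine (isWeaklyRegular_map_algebraMap_iff (Localization.AtPrime r) X _).1 ?_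
    rw [List.map_map] at h1 ⊢
    simpa [Function.comp_def, hyc] using h1
  refine le_of_eq_of_le (by simp [hlen]) (length_le_idealDepth
    (isWeaklyRegular_localization_of_comap T Q g (xs.map y) hys) fun z hz => ?_)
  obtain ⟨w, hw, rfl⟩ := List.mem_map.1 hz
  obtain ⟨x, hx, rfl⟩ := List.mem_map.1 hw
  rw [IsScalarTower.algebraMap_apply B L (Localization.AtPrime Q)]
  refine (IsLocalization.AtPrime.to_map_mem_maximal_iff _ Q _).2 ?_
  have : algebraMap B (Localization.AtPrime r) (y x) ∈ maximalIdeal (Localization.AtPrime r) := by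
    rw [hyc]; exact Ideal.mul_mem_left _ _ (hmem x hx)
  exact (IsLocalization.AtPrime.to_map_mem_maximal_iff _ r _).1 this

end Descend

section Fibre

variable {A B : Type u} [CommRing A] [CommRing B] [Algebra A B] (E : Type u) [AddCommGroup E] [Module B E]
  [Module A E] [IsScalarTower A B E]

/-- `E ⊗ A/p` to the quotient of `E_r`. -/
noncomputable def toLocQuot (p : Ideal A) (r : Ideal B) [r.IsPrime] :
    E ⊗[A] (A ⧸ p) →ₗ[B] LocalizedModule r.primeCompl E ⧸
      (p.map (algebraMap A (Localization.AtPrime r)) • (⊤ : Submodule (Localization.AtPrime r) (LocalizedModule r.primeCompl E))) :=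
  haveI : IsScalarTower A (Localization.AtPrime r) (LocalizedModule r.primeCompl E) :=
    IsScalarTower.of_algebraMap_smul fun a x => by
      rw [IsScalarTower.algebraMap_apply A B (Localization.AtPrime r), algebraMap_smul, algebraMap_smul]
  ((quotMapTensorEquiv (LocalizedModule r.primeCompl E) p).symm.restrictScalars B).toLinearMap ∘ₗ
    AlgebraTensorModule.rTensor A (A ⧸ p) (LocalizedModule.mkLinearMap r.primeCompl E)

instance isLocalizedModule_toLocQuot (p : Ideal A) (r : Ideal B) [r.IsPrime] :
    IsLocalizedModule r.primeCompl (toLocQuot E p r) :=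
  haveI : IsScalarTower A (Localization.AtPrime r) (LocalizedModule r.primeCompl E) :=
    IsScalarTower.of_algebraMap_smul fun a x => by
      rw [IsScalarTower.algebraMap_apply A B (Localization.AtPrime r), algebraMap_smul, algebraMap_smul]
  IsLocalizedModule.of_linearEquiv r.primeCompl _ ((quotMapTensorEquiv (LocalizedModule r.primeCompl E) p).symm.restrictScalars B)

variable [IsNoetherianRing A] [IsNoetherianRing B] [Module.Finite B E]

/-- Depth along `J` of a localized fibre, from the depths of the fibre at the generizations in `V(J)`. -/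
theorem le_idealDepth_fibLocMod (q : Ideal B) [q.IsPrime] (J : Ideal B) (k : ℕ)
    (h : ∀ r : PrimeSpectrum B, r.asIdeal ≤ q → J ≤ r.asIdeal →
      (k : ℕ∞) ≤ LocCoh.depth (Localization.AtPrime r.asIdeal) (EGA4.FibLocMod A B r.asIdeal E)) :
    (k : ℕ∞) ≤ LocCoh.idealDepth (J.map (algebraMap B (Localization.AtPrime q))) (EGA4.FibLocMod A B q E) := by
  haveI : Module.Finite (Localization.AtPrime q) (LocalizedModule q.primeCompl E) :=
    Module.Finite.of_isLocalizedModule q.primeCompl (LocalizedModule.mkLinearMap q.primeCompl E)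
  refine le_idealDepth_of_forall _ _ fun Q hQ => ?_
  set r := Q.asIdeal.comap (algebraMap B (Localization.AtPrime q)) with hr
  have hrq : r ≤ q := by
    refine le_trans (Ideal.comap_mono (le_maximalIdeal Q.2.ne_top)) (le_of_eq ?_)
    exact IsLocalization.AtPrime.comap_maximalIdeal (Localization.AtPrime q) q
  by_cases hp : r.comap (algebraMap A B) = q.comap (algebraMap A B)
  · haveI : Module.Finite (Localization.AtPrime r) (LocalizedModule r.primeCompl E) :=
      Module.Finite.of_isLocalizedModule r.primeCompl (LocalizedModule.mkLinearMap r.primeCompl E)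
    have h1 := h ⟨r, Q.2.comap _⟩ hrq (Ideal.map_le_iff_le_comap.1 hQ)
    let g := IsLocalizedModule.liftOfLE q.primeCompl r.primeCompl (fun x hx h2 => hx (hrq h2))
      (toLocQuot E (q.comap (algebraMap A B)) q) (toLocQuot E (q.comap (algebraMap A B)) r)
    refine le_depth_localized_of_comap Q.asIdeal _ _ g k (le_of_le_of_eq h1 (depth_congr ?_))
    exact Submodule.quotEquivOfEq _ _ (congrArg (fun I => Ideal.map (algebraMap A (Localization.AtPrime r)) I •
      (⊤ : Submodule (Localization.AtPrime r) (LocalizedModule r.primeCompl E))) hp)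
  · obtain ⟨a, haq, har⟩ := Set.not_subset.1 fun hle : (q.comap (algebraMap A B) : Set A) ⊆ r.comap (algebraMap A B) =>
      hp (le_antisymm (Ideal.comap_mono hrq) hle)
    have : Subsingleton (LocalizedModule Q.asIdeal.primeCompl (EGA4.FibLocMod A B q E)) := by
      rw [LocalizedModule.subsingleton_iff]
      intro t
      refine ⟨algebraMap A (Localization.AtPrime q) a, fun hQa => har ?_, ?_⟩
      · rw [SetLike.mem_coe, Ideal.mem_comap, hr, Ideal.mem_comap, ← IsScalarTower.algebraMap_apply]
        exact hQa
      · obtain ⟨t, rfl⟩ := Submodule.Quotient.mk_surjective _ t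
        rw [← Submodule.Quotient.mk_smul, Submodule.Quotient.mk_eq_zero]
        exact Submodule.smul_mem_smul (Ideal.mem_map_of_mem _ haq) Submodule.mem_top
    exact le_of_le_of_eq le_top (idealDepth_eq_top (Subsingleton.elim _ _)).symm

end Fibre

end Groth.Agent.H4Depth
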