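import Groth.Agent.H4Depth.FlatFour
import Groth.Agent.H4LC.Depth
import Groth.Agent.H4LC.Torsion

/-!
# Vanishing of second local cohomology on the closed fibre and flatness
-/

set_option autoImplicit false
set_option linter.style.haveILetI false
set_option linter.unusedSectionVars false

universe u

open TensorProduct IsLocalRing

namespace Groth.Agent.H4Depth

section Torsion

variable {B : Type u} [CommRing B] [IsNoetherianRing B] (J : Ideal B)
variable {P Q : Type u} [AddCommGroup P] [Module B P] [AddCommGroup Q] [Module B Q]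

theorem H_congr (e : P ≃ₗ[B] Q) {i : ℕ} (h : Subsingleton (LocCoh.H J i P)) : Subsingleton (LocCoh.H J i Q) := by
  refine ⟨fun x y => ?_⟩
  have key : ∀ x : LocCoh.H J i Q, x = H4LC.Hmap J e.toLinearMap i (H4LC.Hmap J e.symm.toLinearMap i x) := fun x => by
    rw [← LinearMap.comp_apply, ← H4LC.Hmap_comp, LinearEquiv.comp_coe, LinearEquiv.symm_trans_self,
      LinearEquiv.refl_toLinearMap, H4LC.Hmap_id]
    rfl
  rw [key x, key y, Subsingleton.elim (H4LC.Hmap J e.symm.toLinearMap i x)]

/-- Local cohomology in positive degree only sees a module up to torsion. -/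
theorem H_of_torsion_ker_coker (φ : P →ₗ[B] Q) (i : ℕ) (hi : 0 < i)
    (hk : ∀ z, φ z = 0 → ∃ k : ℕ, ∀ j ∈ J ^ k, j • z = 0)
    (hc : ∀ z : Q, ∃ k : ℕ, ∀ j ∈ J ^ k, j • z ∈ LinearMap.range φ)
    (h : Subsingleton (LocCoh.H J i P)) : Subsingleton (LocCoh.H J i Q) := by
  have hK : LocCoh.IsPowerTorsion J (LinearMap.ker φ) := fun z => by
    obtain ⟨k, hk⟩ := hk z.1 z.2
    exact ⟨k, fun j hj => Subtype.ext (hk j hj)⟩
  have hC : LocCoh.IsPowerTorsion J (Q ⧸ LinearMap.range φ) := fun z => by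
    obtain ⟨z, rfl⟩ := Submodule.Quotient.mk_surjective _ z
    obtain ⟨k, hk⟩ := hc z
    exact ⟨k, fun j hj => (Submodule.Quotient.mk_smul _ j z).symm.trans ((Submodule.Quotient.mk_eq_zero _).2 (hk j hj))⟩
  have hI : Subsingleton (LocCoh.H J i (LinearMap.range φ)) :=
    H4LC.subsingleton_H_right J (f := (LinearMap.ker φ).subtype) (g := φ.rangeRestrict) (Submodule.subtype_injective _)
      φ.surjective_rangeRestrict (fun z => (Subtype.ext_iff.trans (φ.exact_subtype_ker_map z))) i h
      (H4LC.subsingleton_H_of_isPowerTorsion J (i + 1) _ hK (Nat.succ_pos i))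
  exact H4LC.subsingleton_H_mid J (f := (LinearMap.range φ).subtype) (g := (LinearMap.range φ).mkQ)
    (Submodule.subtype_injective _) (Submodule.mkQ_surjective _) (LinearMap.exact_subtype_mkQ _) i hI
    (H4LC.subsingleton_H_of_isPowerTorsion J i _ hC hi)

end Torsion

variable {A B : Type u} [CommRing A] [CommRing B] [IsNoetherianRing A] [IsNoetherianRing B] [IsLocalRing A]
  [IsLocalRing B] [Algebra A B] [IsLocalHom (algebraMap A B)] {J : Ideal B}
  {F E0 E1 G : Type u} [AddCommGroup F] [Module B F] [Module A F] [IsScalarTower A B F] [Module.Finite B F]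
  [AddCommGroup E0] [Module B E0] [Module A E0] [IsScalarTower A B E0] [Module.Finite B E0]
  [AddCommGroup E1] [Module B E1] [Module A E1] [IsScalarTower A B E1] [Module.Finite B E1]
  [AddCommGroup G] [Module B G] [Module A G] [IsScalarTower A B G]
  (f : F →ₗ[B] E0) (u : E0 →ₗ[B] E1) (v : E1 →ₗ[B] G)

variable (A) in
/-- The kernel of `u` after tensoring with `X`. -/
abbrev kerT (X : Type u) [AddCommGroup X] [Module A X] : Submodule B (E0 ⊗[A] X) :=
  LinearMap.ker (AlgebraTensorModule.rTensor A X u)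

/-- The functoriality of `kerT`. -/
noncomputable def kerMap {X Y : Type u} [AddCommGroup X] [Module A X] [AddCommGroup Y] [Module A Y] (g : X →ₗ[A] Y) :
    kerT A u X →ₗ[B] kerT A u Y :=
  (AlgebraTensorModule.lTensor B E0 g).restrict fun z (hz : (u.restrictScalars A).rTensor X z = 0) => by
    show (u.restrictScalars A).rTensor Y (g.lTensor E0 z) = 0
    rw [← LinearMap.comp_apply, LinearMap.rTensor_comp_lTensor, ← LinearMap.lTensor_comp_rTensor,
      LinearMap.comp_apply, hz, map_zero]

variable (hf : Function.Injective f) (hfu : Function.Exact f u) (huv : Function.Exact u v) (hv : Function.Surjective v)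
  (hGU : ∀ q : PrimeSpectrum B, ¬ J ≤ q.asIdeal → FlatCA.FlatAt A q.asIdeal G)

include hfu huv hv hGU in
theorem exists_pow_smul_mem_range {X : Type u} [AddCommGroup X] [Module A X] (z : kerT A u X) :
    ∃ k : ℕ, ∀ j ∈ J ^ k, j • (z : E0 ⊗[A] X) ∈ LinearMap.range (AlgebraTensorModule.rTensor A X f) := by
  let K := LinearMap.range u
  let u' : E0 →ₗ[B] K := u.rangeRestrict
  have hfu' : Function.Exact f u' := fun x => by
    rw [← hfu x]
    exact ⟨fun h => congrArg Subtype.val h, fun h => Subtype.ext h⟩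
  have hKv : Function.Exact K.subtype v := fun y => by
    rw [huv y]
    exact ⟨fun ⟨x, hx⟩ => ⟨⟨y, x, hx⟩, rfl⟩, fun ⟨⟨w, x, hx⟩, hw⟩ => ⟨x, hx.trans hw⟩⟩
  let w := AlgebraTensorModule.rTensor A X u' (z : E0 ⊗[A] X)
  have hw : (K.subtype.restrictScalars A).rTensor X w = 0 := by
    show (K.subtype.restrictScalars A).rTensor X ((u'.restrictScalars A).rTensor X (z : E0 ⊗[A] X)) = 0
    rw [← LinearMap.rTensor_comp_apply]
    exact LinearMap.mem_ker.1 z.2
  obtain ⟨k, hk⟩ := exists_pow_smul_of_ker' K.subtype v K.subtype_injective hKv hv hGU w hw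
  refine ⟨k, fun j hj => ?_⟩
  obtain ⟨y, hy⟩ := (rTensor_exact (f := f.restrictScalars A) (g := u'.restrictScalars A) X hfu'
    u.surjective_rangeRestrict _).1 (show (u'.restrictScalars A).rTensor X (j • (z : E0 ⊗[A] X)) = 0 from
      ((AlgebraTensorModule.rTensor A X u').map_smul j _).trans (hk j hj))
  exact ⟨y, hy⟩

variable [Module.Flat A E0] [Module.Flat A E1]
  (h0 : 2 ≤ LocCoh.idealDepth J (EGA4.FibMod A B E0)) (h1 : 1 ≤ LocCoh.idealDepth J (EGA4.FibMod A B E1))
  (hH2 : Subsingleton (LocCoh.H J 2 (EGA4.FibMod A B F)))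

include hf hfu huv hv hGU h0 h1 hH2 in
theorem three_le_simple {S : Type u} [AddCommGroup S] [Module A S] [IsSimpleModule A S] :
    3 ≤ LocCoh.idealDepth J (kerT A u S) := by
  obtain ⟨I, hI, ⟨e⟩⟩ := isSimpleModule_iff_quot_maximal.1 (inferInstance : IsSimpleModule A S)
  obtain rfl := IsLocalRing.eq_maximalIdeal hI
  haveI : Module.Finite A S := Module.Finite.equiv e.symm
  haveI : Module.Finite B (E0 ⊗[A] S) := H05EGA4.FlatDim.finite_tensor S
  haveI : Module.Finite B (E1 ⊗[A] S) := H05EGA4.FlatDim.finite_tensor S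
  have eS : ∀ (M : Type u) [AddCommGroup M] [Module B M] [Module A M] [IsScalarTower A B M],
      Nonempty (EGA4.FibMod A B M ≃ₗ[B] M ⊗[A] S) := fun M _ _ _ _ =>
    ⟨(tensorQuotEquiv (B := B) (M := M) (maximalIdeal A)).trans (LinearEquiv.ofBijective
      (AlgebraTensorModule.lTensor B M e.symm.toLinearMap) (LinearEquiv.lTensor M e.symm).bijective)⟩
  obtain ⟨e0⟩ := eS E0
  obtain ⟨e1⟩ := eS E1
  obtain ⟨eF⟩ := eS F
  have h0' : 2 ≤ LocCoh.idealDepth J (E0 ⊗[A] S) := le_of_le_of_eq h0 (idealDepth_congr J e0)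
  have h1' : 1 ≤ LocCoh.idealDepth J (E1 ⊗[A] S) := le_of_le_of_eq h1 (idealDepth_congr J e1)
  have hd : 2 ≤ LocCoh.idealDepth J (kerT A u S) :=
    two_le_idealDepth_of_exact J (Submodule.subtype_injective _) (LinearMap.exact_subtype_ker_map _) h0' h1'
  let φ : F ⊗[A] S →ₗ[B] kerT A u S := (AlgebraTensorModule.rTensor A S f).codRestrict _ fun z => by
    rw [LinearMap.mem_ker]
    show (u.restrictScalars A).rTensor S ((f.restrictScalars A).rTensor S z) = 0
    rw [← LinearMap.rTensor_comp_apply, show u.restrictScalars A ∘ₗ f.restrictScalars A = 0 from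
      LinearMap.ext fun x => hfu.apply_apply_eq_zero x, LinearMap.rTensor_zero, LinearMap.zero_apply]
  have hUK : ∀ q : PrimeSpectrum B, ¬ J ≤ q.asIdeal → FlatCA.FlatAt A q.asIdeal (LinearMap.range u) := fun q hq =>
    flatAt_kernel q (LinearMap.range u).subtype v (Submodule.subtype_injective _)
      (fun y => by
        rw [huv y]
        exact ⟨fun ⟨x, hx⟩ => ⟨⟨y, x, hx⟩, rfl⟩, fun ⟨⟨w, x, hx⟩, hw⟩ => ⟨x, hx.trans hw⟩⟩) hv
      (flatAt_of_flat q) (hGU q hq)
  have h2 : Subsingleton (LocCoh.H J 2 (kerT A u S)) := by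
    refine H_of_torsion_ker_coker J φ 2 two_pos (fun z hz => ?_) (fun z => ?_) (H_congr J eF hH2)
    · exact exists_pow_smul_of_ker' f u.rangeRestrict hf (fun x => by
        rw [← hfu x]
        exact ⟨fun h => congrArg Subtype.val h, fun h => Subtype.ext h⟩) u.surjective_rangeRestrict hUK z
        (congrArg Subtype.val hz)
    · obtain ⟨k, hk⟩ := exists_pow_smul_mem_range f u v hfu huv hv hGU z
      refine ⟨k, fun j hj => ?_⟩
      obtain ⟨y, hy⟩ := hk j hj
      exact ⟨y, Subtype.ext hy⟩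
  refine (H4LC.le_idealDepth_iff_H J (kerT A u S) (n := 3)).2 fun i hi => ?_
  rcases Nat.lt_succ_iff_lt_or_eq.1 hi with h | rfl
  · exact (H4LC.le_idealDepth_iff_H J (kerT A u S) (n := 2)).1 hd i h
  · exact h2

include h0 h1 in
theorem two_le_kerT {X : Type u} [AddCommGroup X] [Module A X] (hX : IsFiniteLength A X) :
    2 ≤ LocCoh.idealDepth J (kerT A u X) := by
  haveI : IsNoetherian A X := (isFiniteLength_iff_isNoetherian_isArtinian.1 hX).1
  haveI : Module.Finite B (E0 ⊗[A] X) := H05EGA4.FlatDim.finite_tensor X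
  haveI : Module.Finite B (E1 ⊗[A] X) := H05EGA4.FlatDim.finite_tensor X
  refine two_le_idealDepth_of_exact J (Submodule.subtype_injective _) (LinearMap.exact_subtype_ker_map _)
    (two_le_of_isFiniteLength h0 hX) ?_
  induction hX with
  | @of_subsingleton X =>
    refine le_of_le_of_eq le_top (idealDepth_eq_top (eq_top_iff.2 ?_)).symm
    rintro z -
    induction z using TensorProduct.induction_on with
    | zero => exact zero_mem _
    | tmul m x => rw [Subsingleton.elim x 0, tmul_zero]; exact zero_mem _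
    | add a b ha hb => exact add_mem ha hb
  | @of_simple_quotient X _ _ N _ hN ih =>
    obtain ⟨I, hI, ⟨e⟩⟩ := isSimpleModule_iff_quot_maximal.1 (inferInstance : IsSimpleModule A (X ⧸ N))
    obtain rfl := IsLocalRing.eq_maximalIdeal hI
    haveI : Module.Finite A N := Module.Finite.of_fg (IsNoetherian.noetherian N)
    haveI : Module.Finite B (E0 ⊗[A] N) := H05EGA4.FlatDim.finite_tensor N
    haveI : Module.Finite B (E1 ⊗[A] N) := H05EGA4.FlatDim.finite_tensor N
    haveI : Module.Finite B (E1 ⊗[A] (X ⧸ N)) := H05EGA4.FlatDim.finite_tensor (X ⧸ N)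
    refine le_trans (le_min (ih inferInstance inferInstance inferInstance) ?_) (min_le_idealDepth_mid J
      (f := AlgebraTensorModule.lTensor B E1 N.subtype) (g := AlgebraTensorModule.lTensor B E1 N.mkQ)
      (Module.Flat.lTensor_preserves_injective_linearMap _ N.subtype_injective)
      (LinearMap.lTensor_surjective E1 (Submodule.mkQ_surjective N))
      (lTensor_exact E1 (LinearMap.exact_subtype_mkQ N) (Submodule.mkQ_surjective N)))
    let E : (E1 ⊗[A] (X ⧸ N)) ≃ₗ[B] E1 ⊗[A] (A ⧸ maximalIdeal A) :=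
      LinearEquiv.ofBijective (AlgebraTensorModule.lTensor B E1 e.toLinearMap) (LinearEquiv.lTensor E1 e).bijective
    rw [idealDepth_congr J (E.trans (tensorQuotEquiv (maximalIdeal A)).symm)]
    exact h1

include hf hfu huv hv hGU h0 h1 hH2 in
/-- Lifting kernels along a quotient by a submodule with deep kernel. -/
theorem kerMap_mkQ_surjective {X : Type u} [AddCommGroup X] [Module A X] (hX : IsFiniteLength A X) (N : Submodule A X)
    (hN : 3 ≤ LocCoh.idealDepth J (kerT A u N)) (hd : 1 ≤ LocCoh.idealDepth J (kerT A u (X ⧸ N))) :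
    Function.Surjective (kerMap u N.mkQ) ∧ Function.Injective (kerMap u N.subtype) ∧
      Function.Exact (kerMap u N.subtype) (kerMap u N.mkQ) := by
  haveI : IsNoetherian A X := (isFiniteLength_iff_isNoetherian_isArtinian.1 hX).1
  haveI : Module.Finite A N := Module.Finite.of_fg (IsNoetherian.noetherian N)
  haveI : Module.Finite B (E0 ⊗[A] X) := H05EGA4.FlatDim.finite_tensor X
  haveI : Module.Finite B (E0 ⊗[A] N) := H05EGA4.FlatDim.finite_tensor N
  haveI : Module.Finite B (E0 ⊗[A] (X ⧸ N)) := H05EGA4.FlatDim.finite_tensor (X ⧸ N)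
  have hinj : Function.Injective (kerMap u N.subtype) := fun a b h => Subtype.ext
    (Module.Flat.lTensor_preserves_injective_linearMap (M := E0) _ N.subtype_injective (congrArg Subtype.val h))
  have hex : Function.Exact (kerMap u N.subtype) (kerMap u N.mkQ) := by
    intro z
    constructor
    · intro hz
      obtain ⟨w, hw⟩ := (lTensor_exact E0 (LinearMap.exact_subtype_mkQ N) (Submodule.mkQ_surjective N) z.1).1
        (congrArg Subtype.val hz)
      refine ⟨⟨w, ?_⟩, Subtype.ext hw⟩
      refine Module.Flat.lTensor_preserves_injective_linearMap (M := E1) _ N.subtype_injective ?_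
      show N.subtype.lTensor E1 ((u.restrictScalars A).rTensor N w) = _
      rw [map_zero, ← LinearMap.comp_apply, LinearMap.lTensor_comp_rTensor, ← LinearMap.rTensor_comp_lTensor,
        LinearMap.comp_apply, hw]
      exact z.2
    · rintro ⟨w, rfl⟩
      exact Subtype.ext ((lTensor_exact E0 (LinearMap.exact_subtype_mkQ N) (Submodule.mkQ_surjective N)).apply_apply_eq_zero w.1)
  refine ⟨?_, hinj, hex⟩
  let g := kerMap u N.mkQ
  let W := LinearMap.range g
  have hexW : Function.Exact (kerMap u N.subtype) g.rangeRestrict := fun z => by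
    rw [← hex z]
    exact ⟨fun h => congrArg Subtype.val h, fun h => Subtype.ext h⟩
  have hW : 2 ≤ LocCoh.idealDepth J W := by
    refine le_trans (le_min (two_le_kerT u h0 h1 hX) ?_) (min_le_idealDepth_right J hinj g.surjective_rangeRestrict hexW)
    calc (2 : ℕ∞) = 3 - 1 := rfl
      _ ≤ _ := tsub_le_tsub_right hN 1
  have hQ : 1 ≤ LocCoh.idealDepth J ((kerT A u (X ⧸ N)) ⧸ W) := by
    haveI : Module.Finite B ↥W := Module.Finite.of_fg (IsNoetherian.noetherian W)
    have hh := min_le_idealDepth_right (N' := ↥W) (N := ↥(kerT A u (X ⧸ N))) (N'' := ↥(kerT A u (X ⧸ N)) ⧸ W) J (f := W.subtype) (g := W.mkQ) (Submodule.subtype_injective W)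
      (Submodule.mkQ_surjective W) (LinearMap.exact_subtype_mkQ W)
    refine le_trans (le_min hd ?_) hh
    calc (1 : ℕ∞) = 2 - 1 := rfl
      _ ≤ _ := tsub_le_tsub_right hW 1
  intro z
  have hz : W.mkQ z = 0 := by
    obtain ⟨k, hk⟩ := exists_pow_smul_mem_range f u v hfu huv hv hGU z
    refine noTor_of_one_le hQ _ k fun j hj => ?_
    rw [← map_smul]
    refine (Submodule.Quotient.mk_eq_zero _).2 ?_
    obtain ⟨y, hy⟩ := hk j hj
    obtain ⟨y', hy'⟩ := LinearMap.lTensor_surjective F (Submodule.mkQ_surjective N) y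
    refine ⟨⟨AlgebraTensorModule.rTensor A X f y', ?_⟩, Subtype.ext ?_⟩
    · rw [LinearMap.mem_ker]
      show (u.restrictScalars A).rTensor X ((f.restrictScalars A).rTensor X y') = 0
      rw [← LinearMap.rTensor_comp_apply, show u.restrictScalars A ∘ₗ f.restrictScalars A = 0 from
        LinearMap.ext fun x => hfu.apply_apply_eq_zero x, LinearMap.rTensor_zero, LinearMap.zero_apply]
    · show N.mkQ.lTensor E0 ((f.restrictScalars A).rTensor X y') = j • (z : E0 ⊗[A] (X ⧸ N))
      rw [← LinearMap.comp_apply, LinearMap.lTensor_comp_rTensor, ← LinearMap.rTensor_comp_lTensor,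
        LinearMap.comp_apply, hy', ← hy]
      rfl
  exact LinearMap.mem_range.1 ((Submodule.Quotient.mk_eq_zero _).1 hz)

include hf hfu huv hv hGU h0 h1 hH2 in
theorem three_le_kerT {X : Type u} [AddCommGroup X] [Module A X] (hX : IsFiniteLength A X) :
    3 ≤ LocCoh.idealDepth J (kerT A u X) := by
  induction hX with
  | @of_subsingleton X =>
    refine le_of_le_of_eq le_top (idealDepth_eq_top (eq_top_iff.2 ?_)).symm
    rintro ⟨z, hz⟩ -
    have h00 : z = 0 := by
      clear hz
      induction z using TensorProduct.induction_on with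
      | zero => rfl
      | tmul m x => rw [Subsingleton.elim x 0, tmul_zero]
      | add a b ha hb => rw [ha, hb, add_zero]
    subst h00
    exact zero_mem _
  | @of_simple_quotient X _ _ N _ hN ih =>
    haveI : IsNoetherian A X := (isFiniteLength_iff_isNoetherian_isArtinian.1 (.of_simple_quotient hN)).1
    haveI : Module.Finite A N := Module.Finite.of_fg (IsNoetherian.noetherian N)
    haveI : Module.Finite B (E0 ⊗[A] X) := H05EGA4.FlatDim.finite_tensor X
    haveI : Module.Finite B (E0 ⊗[A] N) := H05EGA4.FlatDim.finite_tensor N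
    haveI : Module.Finite B (E0 ⊗[A] (X ⧸ N)) := H05EGA4.FlatDim.finite_tensor (X ⧸ N)
    have hs := three_le_simple f u v hf hfu huv hv hGU h0 h1 hH2 (S := X ⧸ N)
    obtain ⟨hsur, hinj, hex⟩ := kerMap_mkQ_surjective f u v hf hfu huv hv hGU h0 h1 hH2 (.of_simple_quotient hN) N ih
      (le_trans (by norm_num) hs)
    exact le_trans (le_min ih hs) (min_le_idealDepth_mid J hinj hsur hex)

include hf hfu huv hv hGU h0 h1 hH2 in
theorem range_eq_ker_residue :
    LinearMap.range (AlgebraTensorModule.rTensor A (A ⧸ maximalIdeal A) f) = kerT A u (A ⧸ maximalIdeal A) := by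
  refine le_antisymm ?_ fun z hz => ?_
  · rintro _ ⟨z, rfl⟩
    rw [LinearMap.mem_ker]
    show (u.restrictScalars A).rTensor _ ((f.restrictScalars A).rTensor _ z) = 0
    rw [← LinearMap.rTensor_comp_apply, show u.restrictScalars A ∘ₗ f.restrictScalars A = 0 from
      LinearMap.ext fun x => hfu.apply_apply_eq_zero x, LinearMap.rTensor_zero, LinearMap.zero_apply]
  obtain ⟨c, hc⟩ := (EGA4.mB A B).exists_pow_inf_eq_pow_smul (M := E1) (LinearMap.range u)
  let I := maximalIdeal A ^ (c + 1)
  let π : (A ⧸ I) →ₗ[A] (A ⧸ maximalIdeal A) :=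
    (Submodule.factor (Ideal.pow_le_self (Nat.succ_ne_zero c)) : _)
  have hπs : Function.Surjective π := Submodule.factor_surjective _
  let N := LinearMap.ker π
  have hXN := isFiniteLength_of_injective (isFiniteLength_quot_pow (A := A) c) N.subtype N.subtype_injective
  let eq : ((A ⧸ I) ⧸ N) ≃ₗ[A] (A ⧸ maximalIdeal A) := π.quotKerEquivOfSurjective hπs
  haveI : IsSimpleModule A (A ⧸ maximalIdeal A) :=
    isSimpleModule_iff_quot_maximal.2 ⟨_, inferInstance, ⟨LinearEquiv.refl _ _⟩⟩
  haveI : IsSimpleModule A ((A ⧸ I) ⧸ N) := IsSimpleModule.congr eq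
  obtain ⟨hsur, -, -⟩ := kerMap_mkQ_surjective f u v hf hfu huv hv hGU h0 h1 hH2 (isFiniteLength_quot_pow (A := A) c) N
    (three_le_kerT f u v hf hfu huv hv hGU h0 h1 hH2 hXN)
    (le_trans (by norm_num) (three_le_simple f u v hf hfu huv hv hGU h0 h1 hH2 (S := (A ⧸ I) ⧸ N)))
  obtain ⟨⟨w, hw⟩, hwz⟩ := hsur (kerMap u eq.symm.toLinearMap ⟨z, hz⟩)
  have hwz' : π.lTensor E0 w = z := by
    have h2 : N.mkQ.lTensor E0 w = eq.symm.toLinearMap.lTensor E0 z := congrArg Subtype.val hwz
    rw [show π = eq.toLinearMap ∘ₗ N.mkQ from LinearMap.ext fun x => rfl, LinearMap.lTensor_comp, LinearMap.comp_apply,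
      h2, ← LinearMap.lTensor_comp_apply, LinearEquiv.comp_coe, LinearEquiv.symm_trans_self,
      LinearEquiv.refl_toLinearMap, LinearMap.lTensor_id, LinearMap.id_apply]
  obtain ⟨e, he⟩ := (tensorQuotEquiv (B := B) (M := E0) I).surjective w
  obtain ⟨e, rfl⟩ := Submodule.Quotient.mk_surjective _ e
  subst he
  have hue : u e ∈ I.map (algebraMap A B) • (⊤ : Submodule B E1) := by
    rw [← Submodule.Quotient.mk_eq_zero, ← (tensorQuotEquiv (B := B) (M := E1) I).map_eq_zero_iff]
    exact LinearMap.mem_ker.1 hw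
  have h2 : u e ∈ EGA4.mB A B ^ (c + 1) • ⊤ ⊓ LinearMap.range u := ⟨by rwa [EGA4.mB, ← Ideal.map_pow], e, rfl⟩
  rw [hc (c + 1) (Nat.le_succ c), Nat.add_sub_cancel_left, pow_one] at h2
  have h3 : u e ∈ (EGA4.mB A B • (⊤ : Submodule B E0)).map u := by
    rw [Submodule.map_smul'', Submodule.map_top]
    exact Submodule.smul_mono le_rfl inf_le_right h2
  obtain ⟨e', he', hee⟩ := h3
  obtain ⟨x, hx⟩ := (hfu (e - e')).1 (by rw [map_sub, hee, sub_self])
  refine ⟨x ⊗ₜ[A] (1 : A ⧸ maximalIdeal A), ?_⟩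
  rw [← hwz']
  show f x ⊗ₜ[A] (1 : A ⧸ maximalIdeal A) = e ⊗ₜ[A] (1 : A ⧸ maximalIdeal A)
  rw [hx, sub_tmul, sub_eq_self]
  exact ((tensorQuotEquiv (B := B) (M := E0) (maximalIdeal A)).map_eq_zero_iff (x := Submodule.Quotient.mk e')).2
    ((Submodule.Quotient.mk_eq_zero _).2 he')

end Groth.Agent.H4Depth
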