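import Groth.Agent.H4Depth.DualBaseChange
import Groth.Agent.H7Flat.FlatAtFinite
import Groth.Agent.S18708
import Mathlib.RingTheory.Regular.Flat
import Mathlib.RingTheory.TensorProduct.Quotient

/-!
# Depth helpers for sequences of projective modules
-/

set_option autoImplicit false
set_option linter.style.haveILetI false
set_option linter.unusedSectionVars false

universe u

open TensorProduct IsLocalRing

namespace Groth.Agent.H4Depth

variable {S : Type u} [CommRing S] [IsNoetherianRing S]

theorem two_le_idealDepth_quot_of_projective (J I : Ideal S) (E : Type u) [AddCommGroup E] [Module S E]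
    [Module.Finite S E] [Module.Projective S E] (h : 2 ≤ LocCoh.idealDepth J (S ⧸ I)) :
    2 ≤ LocCoh.idealDepth J (E ⧸ I • (⊤ : Submodule S E)) := by
  obtain ⟨n, s, hs⟩ := Module.Finite.exists_fin' S E
  obtain ⟨i, hi⟩ := Module.projective_lifting_property s LinearMap.id hs
  have hmap : ∀ {M N : Type u} [AddCommGroup M] [Module S M] [AddCommGroup N] [Module S N] (g : M →ₗ[S] N),
      I • (⊤ : Submodule S M) ≤ (I • (⊤ : Submodule S N)).comap g := fun {M N} _ _ _ _ g => by
    rw [← Submodule.map_le_iff_le_comap, Submodule.map_smul'']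
    exact Submodule.smul_mono le_rfl le_top
  let ι := Submodule.mapQ (I • (⊤ : Submodule S E)) (I • (⊤ : Submodule S (Fin n → S))) i (hmap i)
  let π := Submodule.mapQ (I • (⊤ : Submodule S (Fin n → S))) (I • (⊤ : Submodule S E)) s (hmap s)
  have hπι : ∀ x, π (ι x) = x := fun x => by
    obtain ⟨x, rfl⟩ := Submodule.Quotient.mk_surjective _ x
    exact congrArg Submodule.Quotient.mk (LinearMap.congr_fun hi x)
  let p : _ →ₗ[S] ((Fin n → S) ⧸ I • (⊤ : Submodule S (Fin n → S))) := LinearMap.id - ι.comp π
  have hex : Function.Exact ι p := fun x => by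
    rw [show p x = x - ι (π x) from rfl, sub_eq_zero]
    exact ⟨fun hx => ⟨π x, hx.symm⟩, fun ⟨y, hy⟩ => by rw [← hy, hπι]⟩
  let e : (Fin n → S ⧸ I) ≃ₗ[S] (Fin n → S) ⧸ I • (⊤ : Submodule S (Fin n → S)) :=
    (TensorProduct.piScalarRight S S (S ⧸ I) (Fin n)).symm ≪≫ₗ TensorProduct.quotTensorEquivQuotSMul (Fin n → S) I
  have hP : 2 ≤ LocCoh.idealDepth J ((Fin n → S) ⧸ I • (⊤ : Submodule S (Fin n → S))) := by
    rw [← idealDepth_congr J e]
    exact h.trans (H1CAlg.idealDepth_le_idealDepth_pi J n)
  exact two_le_idealDepth_of_exact J (Function.LeftInverse.injective hπι) hex hP (le_trans one_le_two hP)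

/-- The kernel of a surjection onto a projective module is a direct summand. -/
theorem projective_kernel {K P Q : Type u} [AddCommGroup K] [Module S K] [AddCommGroup P] [Module S P]
    [AddCommGroup Q] [Module S Q] [Module.Projective S P] [Module.Projective S Q] (f : K →ₗ[S] P) (g : P →ₗ[S] Q)
    (hf : Function.Injective f) (hfg : Function.Exact f g) (hg : Function.Surjective g) : Module.Projective S K := by
  obtain ⟨σ, hσ⟩ := Module.projective_lifting_property g LinearMap.id hg
  let e := LinearEquiv.ofInjective f hf
  let r : P →ₗ[S] LinearMap.range f := (LinearMap.id - σ ∘ₗ g).codRestrict _ fun x => (hfg _).1 (by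
    rw [LinearMap.sub_apply, LinearMap.id_apply, LinearMap.comp_apply, map_sub, show g (σ (g x)) = g x from
      LinearMap.congr_fun hσ (g x), sub_self])
  refine Module.Projective.of_split f (e.symm.toLinearMap ∘ₗ r) (LinearMap.ext fun x => ?_)
  apply e.injective
  apply Subtype.ext
  simp [e, r, hfg.apply_apply_eq_zero]

theorem le_idealDepth_tensor_flat {R : Type u} [CommRing R] [IsNoetherianRing R] [Algebra R S] [Module.Flat R S]
    (J : Ideal R) (T : Type u) [AddCommGroup T] [Module R T] [Module.Finite R T] {k : ℕ}
    (h : (k : ℕ∞) ≤ LocCoh.idealDepth J T) : (k : ℕ∞) ≤ LocCoh.idealDepth (J.map (algebraMap R S)) (S ⊗[R] T) := by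
  by_cases hJ : J • (⊤ : Submodule R T) = ⊤
  · refine le_of_le_of_eq le_top (idealDepth_eq_top (eq_top_iff.2 ?_)).symm
    rintro z -
    induction z using TensorProduct.induction_on with
    | zero => exact zero_mem _
    | add x y hx hy => exact add_mem hx hy
    | tmul b g =>
      have hg : g ∈ J • (⊤ : Submodule R T) := hJ.ge Submodule.mem_top
      refine Submodule.smul_induction_on hg (fun r hr x _ => ?_) (fun x y hx hy => ?_)
      · rw [TensorProduct.tmul_smul, ← algebraMap_smul S r (b ⊗ₜ[R] x)]
        exact Submodule.smul_mem_smul (Ideal.mem_map_of_mem _ hr) Submodule.mem_top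
      · rw [TensorProduct.tmul_add]; exact add_mem hx hy
  obtain ⟨rs, hlen, hmem, hreg⟩ := exists_isWeaklyRegular_of_le_idealDepth hJ h
  refine le_of_eq_of_le (by simp [hlen]) (length_le_idealDepth
    (RingTheory.Sequence.IsWeaklyRegular.of_flat_of_isBaseChange (TensorProduct.isBaseChange R T S) hreg) fun r hr => ?_)
  obtain ⟨a, ha, rfl⟩ := List.mem_map.1 hr
  exact Ideal.mem_map_of_mem _ (hmem a ha)

/-- Depth along the closed fibre of a localized base change. -/
theorem two_le_quot_localization {A B A' B' : Type u} [CommRing A] [CommRing B] [IsNoetherianRing A]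
    [IsNoetherianRing B] [CommRing A'] [CommRing B'] [IsNoetherianRing B'] [Algebra A B] [Algebra A A'] [Algebra B B']
    [Algebra A' B'] [Algebra A B'] [IsScalarTower A B B'] [IsScalarTower A A' B'] [Algebra.IsPushout A B A' B']
    [Module.Flat A B] (J : Ideal B)
    (hZ : ∀ q : PrimeSpectrum B, J ≤ q.asIdeal →
      2 ≤ LocCoh.idealDepth (q.asIdeal.map (algebraMap B (EGA4.FibLocRing A B q.asIdeal))) (EGA4.FibLocRing A B q.asIdeal))
    (s : Ideal A') (q' : Ideal B') [q'.IsPrime] :
    2 ≤ LocCoh.idealDepth ((J.map (algebraMap B B')).map (algebraMap B' (Localization.AtPrime q')))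
      (Localization.AtPrime q' ⧸ s.map (algebraMap A' (Localization.AtPrime q'))) := by
  let J' := J.map (algebraMap B B')
  let e : B ⊗[A] (A' ⧸ s) ≃ₗ[B] B' ⧸ s.map (algebraMap A' B') :=
    (Algebra.IsPushout.cancelBaseChange A B A' B' (A' ⧸ s)).symm ≪≫ₗ
      ((Algebra.TensorProduct.quotIdealMapEquivTensorQuot B' s).symm.toLinearEquiv.restrictScalars B)
  have hT : (2 : ℕ∞) ≤ LocCoh.idealDepth J' (B' ⧸ s.map (algebraMap A' B')) :=
    le_idealDepth_of_forall J' _ fun r hr => by
      exact_mod_cast le_depth_of_fibre_baseChange (A := A) B _ e r.asIdeal 2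
        (le_depth_fibLocRing (by exact_mod_cast hZ ⟨_, r.2.comap _⟩ (Ideal.map_le_iff_le_comap.1 hr)))
  haveI : Module.Flat B' (Localization.AtPrime q') := IsLocalization.flat _ q'.primeCompl
  have h2 := le_idealDepth_tensor_flat (S := Localization.AtPrime q') J' _ (k := 2) (by exact_mod_cast hT)
  have hmap : (s.map (algebraMap A' B')).map (algebraMap B' (Localization.AtPrime q')) =
      s.map (algebraMap A' (Localization.AtPrime q')) := by
    rw [Ideal.map_map, ← IsScalarTower.algebraMap_eq]
  refine le_of_le_of_eq (by exact_mod_cast h2) (idealDepth_congr _ ?_)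
  exact (Algebra.TensorProduct.quotIdealMapEquivTensorQuot (Localization.AtPrime q') (s.map (algebraMap A' B'))).symm.toLinearEquiv ≪≫ₗ
    Submodule.quotEquivOfEq _ _ hmap

/-- Localizations of a kernel of projective modules with free cokernel are free. -/
theorem free_localized_kernel {K E0 E1 G : Type u} [AddCommGroup K] [Module S K] [Module.Finite S K]
    [AddCommGroup E0] [Module S E0] [Module.Projective S E0]
    [AddCommGroup E1] [Module S E1] [Module.Projective S E1] [AddCommGroup G] [Module S G]
    (f : K →ₗ[S] E0) (u : E0 →ₗ[S] E1) (v : E1 →ₗ[S] G)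
    (hf : Function.Injective f) (hfu : Function.Exact f u) (huv : Function.Exact u v) (hv : Function.Surjective v)
    (P : Ideal S) [P.IsPrime] (hG : Module.Free (Localization.AtPrime P) (LocalizedModule P.primeCompl G)) :
    Module.Free (Localization.AtPrime P) (LocalizedModule P.primeCompl K) := by
  let T := P.primeCompl
  have hu' := u.surjective_rangeRestrict
  have h1 : Function.Exact f u.rangeRestrict := fun x => by
    rw [← hfu x]
    exact ⟨fun h => congrArg Subtype.val h, fun h => Subtype.ext h⟩
  have h2 : Function.Exact (LinearMap.range u).subtype v := fun y => by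
    rw [huv y]
    exact ⟨fun ⟨x, hx⟩ => ⟨⟨y, x, hx⟩, rfl⟩, fun ⟨⟨w, x, hx⟩, hw⟩ => ⟨x, hx.trans hw⟩⟩
  haveI : Module.Projective (Localization.AtPrime P) (LocalizedModule T E0) :=
    Module.projective_of_isLocalizedModule T (LocalizedModule.mkLinearMap T E0)
  haveI : Module.Projective (Localization.AtPrime P) (LocalizedModule T E1) :=
    Module.projective_of_isLocalizedModule T (LocalizedModule.mkLinearMap T E1)
  haveI := Module.Projective.of_free (R := Localization.AtPrime P) (P := LocalizedModule T G)
  haveI : Module.Projective (Localization.AtPrime P) (LocalizedModule T (LinearMap.range u)) :=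
    projective_kernel _ (LocalizedModule.map T v) (LocalizedModule.map_injective T _ (LinearMap.range u).subtype_injective)
      (LocalizedModule.map_exact T _ _ h2) (LocalizedModule.map_surjective T _ hv)
  haveI : Module.Projective (Localization.AtPrime P) (LocalizedModule T K) :=
    projective_kernel _ (LocalizedModule.map T u.rangeRestrict) (LocalizedModule.map_injective T _ hf)
      (LocalizedModule.map_exact T _ _ h1) (LocalizedModule.map_surjective T _ hu')
  haveI : Module.Finite (Localization.AtPrime P) (LocalizedModule T K) :=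
    Module.Finite.of_isLocalizedModule T (LocalizedModule.mkLinearMap T K)
  exact Module.free_of_flat_of_isLocalRing

/-- At one point: the kernel is flat with fibre of depth two iff the cokernel is flat. -/
theorem flatAt_iff_depth {A : Type u} [CommRing A] [IsNoetherianRing A] [Algebra A S] [Module.Flat A S]
    (q : Ideal S) [q.IsPrime] (J : Ideal S)
    {K E0 E1 G : Type u} [AddCommGroup K] [Module S K] [Module A K] [IsScalarTower A S K] [Module.Finite S K]
    [AddCommGroup E0] [Module S E0] [Module A E0] [IsScalarTower A S E0] [Module.Finite S E0] [Module.Projective S E0]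
    [AddCommGroup E1] [Module S E1] [Module A E1] [IsScalarTower A S E1] [Module.Finite S E1] [Module.Projective S E1]
    [AddCommGroup G] [Module S G] [Module A G] [IsScalarTower A S G] [Module.Finite S G]
    (f : K →ₗ[S] E0) (u : E0 →ₗ[S] E1) (v : E1 →ₗ[S] G)
    (hf : Function.Injective f) (hfu : Function.Exact f u) (huv : Function.Exact u v) (hv : Function.Surjective v)
    (hGU : ∀ P : PrimeSpectrum S, ¬ J ≤ P.asIdeal → FlatCA.FlatAt A P.asIdeal G)
    (hS : 2 ≤ LocCoh.idealDepth (J.map (algebraMap S (Localization.AtPrime q)))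
      (Localization.AtPrime q ⧸ (q.comap (algebraMap A S)).map (algebraMap A (Localization.AtPrime q)))) :
    (FlatCA.FlatAt A q K ∧ 2 ≤ LocCoh.idealDepth (J.map (algebraMap S (EGA4.FibLocRing A S q)))
        (EGA4.FibLocMod A S q K)) ↔ FlatCA.FlatAt A q G := by
  set s := q.comap (algebraMap A S) with hs
  haveI : q.LiesOver s := ⟨rfl⟩
  letI := Localization.AtPrime.algebraOfLiesOver s q
  haveI : IsLocalHom (algebraMap (Localization.AtPrime s) (Localization.AtPrime q)) := by
    rw [Localization.AtPrime.IsLiesOverAlgebra.algebraMap_eq]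
    infer_instance
  let R := Localization.AtPrime s
  let L := Localization.AtPrime q
  letI : Module R (LocalizedModule q.primeCompl K) := Module.compHom _ (algebraMap R L)
  letI : Module R (LocalizedModule q.primeCompl E0) := Module.compHom _ (algebraMap R L)
  letI : Module R (LocalizedModule q.primeCompl E1) := Module.compHom _ (algebraMap R L)
  letI : Module R (LocalizedModule q.primeCompl G) := Module.compHom _ (algebraMap R L)
  haveI : IsScalarTower R L (LocalizedModule q.primeCompl K) := IsScalarTower.of_algebraMap_smul fun _ _ => rfl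
  haveI : IsScalarTower R L (LocalizedModule q.primeCompl E0) := IsScalarTower.of_algebraMap_smul fun _ _ => rfl
  haveI : IsScalarTower R L (LocalizedModule q.primeCompl E1) := IsScalarTower.of_algebraMap_smul fun _ _ => rfl
  haveI : IsScalarTower R L (LocalizedModule q.primeCompl G) := IsScalarTower.of_algebraMap_smul fun _ _ => rfl
  have hiff : ∀ (N : Type u) [AddCommGroup N] [Module S N] [Module A N] [IsScalarTower A S N]
      [Module R (LocalizedModule q.primeCompl N)] [IsScalarTower R L (LocalizedModule q.primeCompl N)],
      Module.Flat R (LocalizedModule q.primeCompl N) ↔ FlatCA.FlatAt A q N := by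
    intro N _ _ _ _ _ _
    haveI : IsScalarTower A R (LocalizedModule q.primeCompl N) := IsScalarTower.of_algebraMap_smul fun a x => by
      rw [← algebraMap_smul L (algebraMap A R a) x, ← IsScalarTower.algebraMap_apply,
        IsScalarTower.algebraMap_apply A S L, algebraMap_smul, algebraMap_smul]
    exact Module.flat_iff_of_isLocalization R s.primeCompl _
  haveI : Module.Flat A E0 := Module.Flat.trans A S E0
  haveI : Module.Flat A E1 := Module.Flat.trans A S E1
  haveI : Module.Flat R (LocalizedModule q.primeCompl E0) := (hiff E0).2 (flatAt_of_flat (A := A) (M := E0) ⟨q, inferInstance⟩)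
  haveI : Module.Flat R (LocalizedModule q.primeCompl E1) := (hiff E1).2 (flatAt_of_flat (A := A) (M := E1) ⟨q, inferInstance⟩)
  haveI : Module.Finite L (LocalizedModule q.primeCompl K) :=
    Module.Finite.of_isLocalizedModule q.primeCompl (LocalizedModule.mkLinearMap q.primeCompl K)
  haveI : Module.Finite L (LocalizedModule q.primeCompl E0) :=
    Module.Finite.of_isLocalizedModule q.primeCompl (LocalizedModule.mkLinearMap q.primeCompl E0)
  haveI : Module.Finite L (LocalizedModule q.primeCompl E1) :=
    Module.Finite.of_isLocalizedModule q.primeCompl (LocalizedModule.mkLinearMap q.primeCompl E1)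
  haveI : Module.Finite L (LocalizedModule q.primeCompl G) :=
    Module.Finite.of_isLocalizedModule q.primeCompl (LocalizedModule.mkLinearMap q.primeCompl G)
  haveI : Module.Projective L (LocalizedModule q.primeCompl E0) :=
    Module.projective_of_isLocalizedModule q.primeCompl (LocalizedModule.mkLinearMap q.primeCompl E0)
  haveI : Module.Projective L (LocalizedModule q.primeCompl E1) :=
    Module.projective_of_isLocalizedModule q.primeCompl (LocalizedModule.mkLinearMap q.primeCompl E1)
  have heq : EGA4.mB R L = s.map (algebraMap A L) := by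
    rw [EGA4.mB, ← Localization.AtPrime.map_eq_maximalIdeal, Ideal.map_map, ← IsScalarTower.algebraMap_eq]
  have hq : 2 ≤ LocCoh.idealDepth (J.map (algebraMap S L)) (L ⧸ EGA4.mB R L) := by
    rw [idealDepth_congr _ (Submodule.quotEquivOfEq _ _ heq)]; exact hS
  have hGU' : ∀ Q : PrimeSpectrum L, ¬ J.map (algebraMap S L) ≤ Q.asIdeal →
      FlatCA.FlatAt R Q.asIdeal (LocalizedModule q.primeCompl G) := fun Q hQ => by
    haveI : Module.Flat S L := IsLocalization.flat _ q.primeCompl
    haveI : IsScalarTower A R (LocalizedModule q.primeCompl G) := IsScalarTower.of_algebraMap_smul fun a x => by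
      rw [← algebraMap_smul L (algebraMap A R a) x, ← IsScalarTower.algebraMap_apply,
        IsScalarTower.algebraMap_apply A S L, algebraMap_smul, algebraMap_smul]
    refine (Module.flat_iff_of_isLocalization R s.primeCompl _).2 ?_
    exact (H7Flat.FlatAtFinite.flat_localizedModule_flat_iff (R := A)
      ((isLocalizedModule_iff_isBaseChange q.primeCompl L _).1
        (localizedModuleIsLocalizedModule (M := G) q.primeCompl)) Q.asIdeal).1
      (hGU ⟨_, Q.2.comap _⟩ fun h => hQ (Ideal.map_le_iff_le_comap.2 h))
  have h0 := two_le_idealDepth_quot_of_projective _ _ (LocalizedModule q.primeCompl E0) hq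
  have h1 := two_le_idealDepth_quot_of_projective _ _ (LocalizedModule q.primeCompl E1) hq
  obtain ⟨hD, -, hFl⟩ := S18708.result R L (J.map (algebraMap S L)) (LocalizedModule q.primeCompl K)
    (LocalizedModule q.primeCompl E0) (LocalizedModule q.primeCompl E1) (LocalizedModule q.primeCompl G)
    (LocalizedModule.map q.primeCompl f) (LocalizedModule.map q.primeCompl u) (LocalizedModule.map q.primeCompl v)
    (LocalizedModule.map_injective _ f hf) (LocalizedModule.map_exact _ f u hfu)
    (LocalizedModule.map_exact _ u v huv) (LocalizedModule.map_surjective _ v hv) hGU' h0 (le_trans one_le_two h1)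
  have hfib : LocCoh.idealDepth (J.map (algebraMap S (EGA4.FibLocRing A S q))) (EGA4.FibLocMod A S q K) =
      LocCoh.idealDepth (J.map (algebraMap S L)) (EGA4.FibMod R L (LocalizedModule q.primeCompl K)) := by
    rw [show J.map (algebraMap S (EGA4.FibLocRing A S q)) =
      (J.map (algebraMap S L)).map (algebraMap L (EGA4.FibLocRing A S q)) by
        rw [Ideal.map_map, ← IsScalarTower.algebraMap_eq],
      H8Props.FlatDepth.idealDepth_map_of_surjective Ideal.Quotient.mk_surjective]
    exact idealDepth_congr _ (Submodule.quotEquivOfEq _ _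
      (congrArg (fun I => I • (⊤ : Submodule L (LocalizedModule q.primeCompl K))) heq.symm))
  rw [hfib, hD, hiff G]
  exact ⟨fun h => h.2, fun h => ⟨(hiff K).1 (hFl ((hiff G).2 h)), h⟩⟩

end Groth.Agent.H4Depth
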