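import Groth.Prelude.Def_DualLC
import Mathlib.RingTheory.Length

/-!
# Independent families
-/

set_option autoImplicit false

universe u

open Dual2 Function

namespace Groth.Agent.H4Depth

variable {A : Type u} [CommRing A] {r : ℕ} (f : Fin r → A) (k : Fin r) (g : A)

/-- The family with the `k`th member multiplied by `g`. -/
noncomputable def mulAt : Fin r → A := update f k (f k * g)

theorem span_mulAt_le : Ideal.span (Set.range (mulAt f k g)) ≤ Ideal.span (Set.range f) := by
  classical
  refine Ideal.span_le.2 ?_
  rintro _ ⟨i, rfl⟩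
  rcases eq_or_ne i k with rfl | h
  · rw [mulAt, update_self]
    exact Ideal.mul_mem_right _ _ (Ideal.subset_span ⟨i, rfl⟩)
  · rw [mulAt, update_of_ne h]
    exact Ideal.subset_span ⟨i, rfl⟩

theorem span_mulAt_le' : Ideal.span (Set.range (mulAt f k g)) ≤ Ideal.span (Set.range (update f k g)) := by
  classical
  refine Ideal.span_le.2 ?_
  rintro _ ⟨i, rfl⟩
  rcases eq_or_ne i k with rfl | h
  · rw [mulAt, update_self]
    exact Ideal.mul_mem_left _ _ (Ideal.subset_span ⟨i, update_self ..⟩)
  · rw [mulAt, update_of_ne h]
    exact Ideal.subset_span ⟨i, update_of_ne h ..⟩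

variable {f k g}

/-- A relation of `f` multiplied by `g` gives the `k`th coefficient. -/
theorem coeff_mem (h : Independent (mulAt f k g)) {a : Fin r → A} (ha : ∑ i, a i * f i = 0) :
    a k ∈ Ideal.span (Set.range (mulAt f k g)) := by
  classical
  have := h (update (fun i => a i * g) k (a k)) ?_ k
  · rwa [update_self] at this
  · rw [← mul_zero g, ← ha, Finset.mul_sum]
    refine Finset.sum_congr rfl fun i _ => ?_
    rcases eq_or_ne i k with rfl | h
    · simp [mulAt]; ring
    · simp [mulAt, update_of_ne h]; ring

theorem Independent.of_mulAt (h : Independent (mulAt f k g)) : Independent f := by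
  classical
  intro a ha i
  have hk := coeff_mem h ha
  rcases eq_or_ne i k with rfl | hik
  · exact span_mulAt_le f _ g hk
  obtain ⟨c, hc⟩ := (Ideal.mem_span_range_iff_exists_fun).1 hk
  have hrel := h (update (fun j => a j + c j * f k) k (c k * f k)) ?_ i
  · rw [update_of_ne hik] at hrel
    have := Ideal.sub_mem _ (span_mulAt_le f k g hrel)
      (Ideal.mul_mem_left (Ideal.span (Set.range f)) (c i) (Ideal.subset_span ⟨k, rfl⟩))
    rwa [add_sub_cancel_right] at this
  · have e : ∀ j, update (fun j => a j + c j * f k) k (c k * f k) j * mulAt f k g j =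
        a j * f j + f k * (c j * mulAt f k g j) - if j = k then f k * a k else 0 := fun j => by
      rcases eq_or_ne j k with rfl | h
      · simp [mulAt]; ring
      · simp [mulAt, update_of_ne h, h]; ring
    simp only [e, Finset.sum_sub_distrib, Finset.sum_add_distrib, ← Finset.mul_sum, hc, ha,
      Finset.sum_ite_eq', Finset.mem_univ, if_true]
    ring

/-- Length additivity when one member is multiplied. -/
theorem length_mulAt (h : Independent (mulAt f k g)) :
    Module.length A (A ⧸ Ideal.span (Set.range (mulAt f k g))) =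
      Module.length A (A ⧸ Ideal.span (Set.range (update f k g))) +
        Module.length A (A ⧸ Ideal.span (Set.range f)) := by
  classical
  let φ : (A ⧸ Ideal.span (Set.range (update f k g))) →ₗ[A] A ⧸ Ideal.span (Set.range (mulAt f k g)) :=
    Submodule.mapQ _ _ (f k • LinearMap.id) (Ideal.span_le.2 (by
      rintro _ ⟨i, rfl⟩
      show f k * update f k g i ∈ Ideal.span (Set.range (mulAt f k g))
      rcases eq_or_ne i k with rfl | h
      · exact Ideal.subset_span ⟨i, by simp [mulAt]⟩
      · rw [update_of_ne h]
        exact Ideal.mul_mem_left _ _ (Ideal.subset_span ⟨i, by simp [mulAt, update_of_ne h]⟩)))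
  let ψ : (A ⧸ Ideal.span (Set.range (mulAt f k g))) →ₗ[A] A ⧸ Ideal.span (Set.range f) :=
    Submodule.factor (span_mulAt_le f k g)
  have hφ : Function.Injective φ := by
    rw [injective_iff_map_eq_zero]
    intro q hq
    obtain ⟨x, rfl⟩ := Submodule.Quotient.mk_surjective _ q
    replace hq : f k * x ∈ Ideal.span (Set.range (mulAt f k g)) :=
      (Submodule.Quotient.mk_eq_zero _).1 hq
    obtain ⟨c, hc⟩ := Ideal.mem_span_range_iff_exists_fun.1 hq
    have hrel := coeff_mem h (a := update (fun i => - c i) k (x - c k * g)) ?_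
    · rw [update_self] at hrel
      refine (Submodule.Quotient.mk_eq_zero _).2 ?_
      have := Ideal.add_mem _ (span_mulAt_le' f k g hrel)
        (Ideal.mul_mem_left (Ideal.span (Set.range (update f k g))) (c k)
          (Ideal.subset_span ⟨k, update_self ..⟩))
      rwa [sub_add_cancel] at this
    · have e : ∀ i, update (fun i => - c i) k (x - c k * g) i * f i =
          (if i = k then f k * x else 0) - c i * mulAt f k g i := fun i => by
        rcases eq_or_ne i k with rfl | h
        · simp [mulAt]; ring
        · simp [mulAt, update_of_ne h, h]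
      simp only [e, Finset.sum_sub_distrib, Finset.sum_ite_eq', Finset.mem_univ, if_true, hc]
      ring
  have hex : Function.Exact φ ψ := by
    intro q
    obtain ⟨y, rfl⟩ := Submodule.Quotient.mk_surjective _ q
    refine ⟨fun hy => ?_, ?_⟩
    · obtain ⟨c, hc⟩ := Ideal.mem_span_range_iff_exists_fun.1 ((Submodule.Quotient.mk_eq_zero _).1 hy)
      refine ⟨Submodule.Quotient.mk (c k), (Submodule.Quotient.eq _).2 ?_⟩
      show f k * c k - y ∈ Ideal.span (Set.range (mulAt f k g))
      rw [← show ∑ i, c i * f i = y from hc, ← Finset.add_sum_erase _ _ (Finset.mem_univ k), mul_comm, sub_add_cancel_left]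
      refine neg_mem (Ideal.sum_mem _ fun i hi => Ideal.mul_mem_left _ _ (Ideal.subset_span ⟨i, ?_⟩))
      rw [mulAt, update_of_ne (Finset.ne_of_mem_erase hi)]
    · rintro ⟨z, hz⟩
      obtain ⟨x, rfl⟩ := Submodule.Quotient.mk_surjective _ z
      rw [← hz]
      exact (Submodule.Quotient.mk_eq_zero _).2 (Ideal.mul_mem_right _ _ (Ideal.subset_span ⟨k, rfl⟩))
  exact Module.length_eq_add_of_exact φ ψ hφ
    (Submodule.factor_surjective (span_mulAt_le f k g)) hex

end Groth.Agent.H4Depth
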